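import Groth.Agent.H18Descent.Basic
import Groth.Agent.LeadProper.Basic
import Mathlib.AlgebraicGeometry.Morphisms.Etale

/-!
# Properness is etale local on the base
-/

set_option autoImplicit false
set_option linter.style.haveILetI false

universe u

open CategoryTheory CategoryTheory.Limits AlgebraicGeometry MorphismProperty

namespace Groth.Agent.H15Site.Shriek

/-- Properness descends along jointly surjective families of etale maps. -/
theorem isProper_of_etale_family {T V : Scheme.{u}} (q : T ⟶ V) {ι : Type*} {W : ι → Scheme.{u}}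
    (g : ∀ k, W k ⟶ V) (hg : ∀ k, Etale (g k)) (hsurj : ∀ v : V, ∃ k, v ∈ Set.range (g k))
    (h : ∀ k, IsProper (pullback.snd q (g k))) : IsProper q := by
  have key : ∀ v : V, ∃ D : V.Opens, v ∈ D ∧ IsProper (q ∣_ D) := fun v => by
    obtain ⟨k, w, rfl⟩ := hsurj v
    haveI := hg k
    obtain ⟨O, hO, hvO, -⟩ := exists_isAffineOpen_mem_and_subset (x := g k w) (U := ⊤) trivial
    obtain ⟨A, hA, hwA, hAO'⟩ := exists_isAffineOpen_mem_and_subset (x := w) (U := g k ⁻¹ᵁ O) hvO
    have hAO : A ≤ g k ⁻¹ᵁ O := fun x hx => hAO' hx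
    let img : V.Opens := ⟨g k '' A, (g k).isOpenMap _ A.isOpen⟩
    obtain ⟨r, hr, hwr⟩ := hO.exists_basicOpen_le (V := img ⊓ O) ⟨g k w, ⟨w, hwA, rfl⟩, hvO⟩ hvO
    let D := V.basicOpen r
    let A' : (W k).Opens := A ⊓ g k ⁻¹ᵁ D
    have hD : IsAffineOpen D := hO.basicOpen r
    have hA' : IsAffineOpen A' := by
      have : A' = (W k).basicOpen ((g k).appLE O A hAO r) := by
        rw [Scheme.basicOpen_appLE]
      rw [this]
      exact hA.basicOpen _
    haveI : IsAffine A'.toScheme := hA'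
    haveI : IsAffine D.toScheme := hD
    let g' : A'.toScheme ⟶ D.toScheme := (g k).resLE D A' inf_le_right
    have hg' : g' ≫ D.ι = A'.ι ≫ g k := Scheme.Hom.resLE_comp_ι _ _
    haveI : Etale (g' ≫ D.ι) := by rw [hg']; infer_instance
    haveI : Etale g' := Etale.of_comp g' D.ι
    haveI : Surjective g' := ⟨fun x => by
      obtain ⟨a, ha, hax⟩ := (hr x.2).1
      have haD : g k a ∈ D := by rw [hax]; exact x.2
      have haA : a ∈ A' := ⟨ha, by simpa using haD⟩
      refine ⟨⟨a, haA⟩, D.ι.isOpenEmbedding.injective ?_⟩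
      exact (congrArg (fun m : A'.toScheme ⟶ V => m ⟨a, haA⟩) hg').trans hax⟩
    refine ⟨D, hwr, ?_⟩
    let sn := pullback.snd (q ∣_ D) g'
    have sq : IsPullback (pullback.fst (q ∣_ D) g' ≫ (q ⁻¹ᵁ D).ι) sn q (A'.ι ≫ g k) := by
      rw [← hg']
      exact (IsPullback.of_hasPullback (q ∣_ D) g').paste_horiz (isPullback_morphismRestrict q D).flip
    let l : pullback (q ∣_ D) g' ⟶ pullback q (g k) :=
      pullback.lift (pullback.fst (q ∣_ D) g' ≫ (q ⁻¹ᵁ D).ι) (sn ≫ A'.ι) (by rw [sq.w, Category.assoc])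
    have sq₁ : IsPullback l sn (pullback.snd q (g k)) A'.ι :=
      IsPullback.of_right (h₁₂ := pullback.fst q (g k)) (by rw [pullback.lift_fst]; exact sq)
        (pullback.lift_snd _ _ _) (IsPullback.of_hasPullback q (g k))
    have hsn : IsProper sn := MorphismProperty.of_isPullback (P := @IsProper) sq₁ (h k)
    exact MorphismProperty.of_isPullback_of_descendsAlong (P := @IsProper) (Q := Groth.Agent.H18Descent.fpqc)
      (IsPullback.of_hasPullback (q ∣_ D) g').flip ⟨⟨inferInstance, inferInstance⟩, inferInstance⟩ hsn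
  choose D hD hP using key
  exact IsZariskiLocalAtTarget.of_iSup_eq_top D (TopologicalSpace.Opens.ext (Set.eq_univ_of_forall fun v =>
    by simpa using ⟨v, hD v⟩)) hP

variable {P V : Scheme.{u}}

/-- Proper closed subsets are stable under base change. -/
theorem isProperOver_baseChange {p : P ⟶ V} {P' V' : Scheme.{u}} {l : P' ⟶ P} {p' : P' ⟶ V'} {g : V' ⟶ V}
    [LocallyOfFiniteType p'] (sq : IsPullback l p' p g) {Z : Set P} (h : ClSub.IsProperOver p Z) :
    ClSub.IsProperOver p' (l ⁻¹' Z) := by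
  obtain ⟨T, i, hi, hr, hp, -⟩ := Groth.Agent.LeadProper.exists_closedSubscheme h
  refine (Groth.Agent.LeadProper.isProperOver_iff p' (pullback.fst l i) ?_).2 ?_
  · rw [Scheme.Pullback.range_fst, hr]
  · exact MorphismProperty.of_isPullback (P := @IsProper)
      ((IsPullback.of_hasPullback l i).flip.paste_vert sq) hp

/-- A closed subset is proper over the base if it is so etale locally. -/
theorem isProperOver_of_etale_family {p : P ⟶ V} [LocallyOfFiniteType p] {Z : Set P} (hZ : IsClosed Z)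
    {ι : Type*} {W : ι → Scheme.{u}} (g : ∀ k, W k ⟶ V) (hg : ∀ k, Etale (g k))
    (hsurj : ∀ v : V, ∃ k, v ∈ Set.range (g k)) {P' : ι → Scheme.{u}} (l : ∀ k, P' k ⟶ P)
    (p' : ∀ k, P' k ⟶ W k) (sq : ∀ k, IsPullback (l k) (p' k) p (g k))
    (h : ∀ k, ClSub.IsProperOver (p' k) (l k ⁻¹' Z)) : ClSub.IsProperOver p Z := by
  refine ⟨hZ, isProper_of_etale_family _ g hg hsurj fun k => ?_⟩
  let i := (Scheme.IdealSheafData.vanishingIdeal ⟨Z, hZ⟩).subschemeι
  haveI : LocallyOfFiniteType (p' k) := MorphismProperty.of_isPullback (P := @LocallyOfFiniteType) (sq k) inferInstance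
  have hsn : IsProper (pullback.fst (l k) i ≫ p' k) :=
    (Groth.Agent.LeadProper.isProperOver_iff (p' k) (pullback.fst (l k) i)
      (by rw [Scheme.Pullback.range_fst]; exact congrArg (l k ⁻¹' ·) (H17.range_vanishingIdeal_subschemeι ⟨Z, hZ⟩))).1 (h k)
  let e := ((IsPullback.of_hasPullback (l k) i).flip.paste_vert (sq k)).isoPullback
  have he : e.hom ≫ pullback.snd (i ≫ p) (g k) = pullback.fst (l k) i ≫ p' k := IsPullback.isoPullback_hom_snd _
  rw [← he] at hsn
  exact (MorphismProperty.cancel_left_of_respectsIso @IsProper e.hom _).1 hsn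

end Groth.Agent.H15Site.Shriek
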