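import Groth.Agent.H15Site.Shriek.Sheaf

/-!
# Composition of direct images with proper support
-/

set_option autoImplicit false
set_option linter.style.haveILetI false
set_option linter.overlappingInstances false
set_option backward.isDefEq.respectTransparency false
set_option backward.isDefEq.respectTransparency.types false

universe u

open CategoryTheory CategoryTheory.Limits AlgebraicGeometry Opposite

namespace Groth.Agent.H15Site.Shriek

open Groth.Agent.H18Et Groth.Agent.H18Et.AffineCriterion EtShriek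

/-- A closed set is proper over the base of a composite if it is proper over the middle, and its image is proper. -/
theorem isProperOver_comp {P Q S : Scheme.{u}} {p : P ⟶ Q} {q : Q ⟶ S} [LocallyOfFiniteType p] [LocallyOfFiniteType q]
    {Z : Set P} (hZ : ClSub.IsProperOver p Z) (hI : ClSub.IsProperOver q (p '' Z)) :
    ClSub.IsProperOver (p ≫ q) Z := by
  obtain ⟨T, i, hi, hr, hp, -⟩ := Groth.Agent.LeadProper.exists_closedSubscheme hZ
  obtain ⟨I, iI, hiI, hrI, hpI, -⟩ := Groth.Agent.LeadProper.exists_closedSubscheme hI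
  haveI := hp
  haveI := hpI
  refine (Groth.Agent.LeadProper.isProperOver_iff (p ≫ q) (pullback.fst (i ≫ p) iI ≫ i) ?_).2 ?_
  · rw [show Set.range (pullback.fst (i ≫ p) iI ≫ i) = i '' Set.range (pullback.fst (i ≫ p) iI) from by
        rw [← Set.range_comp]; rfl, Scheme.Pullback.range_fst, hrI]
    have : (i ≫ p) ⁻¹' (p '' Z) = Set.univ :=
      Set.eq_univ_of_forall fun t => ⟨i t, hr ▸ ⟨t, rfl⟩, rfl⟩
    rw [this, Set.image_univ, hr]
  · have : (pullback.fst (i ≫ p) iI ≫ i) ≫ p ≫ q = pullback.snd (i ≫ p) iI ≫ iI ≫ q := by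
      simp only [Category.assoc]
      exact pullback.condition_assoc q
    rw [this]
    infer_instance

theorem universallyClosed_of_comp_separated {P Q S : Scheme.{u}} (p : P ⟶ Q) (q : Q ⟶ S) [IsSeparated q]
    [IsProper (p ≫ q)] : IsProper p := IsProper.of_comp p q

/-- Conversely. -/
theorem isProperOver_of_comp {P Q S : Scheme.{u}} {p : P ⟶ Q} {q : Q ⟶ S} [LocallyOfFiniteType p]
    [IsSeparated q] {Z : Set P} (hZ : ClSub.IsProperOver (p ≫ q) Z) : ClSub.IsProperOver p Z := by
  obtain ⟨T, i, hi, hr, hp, -⟩ := Groth.Agent.LeadProper.exists_closedSubscheme hZ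
  refine (Groth.Agent.LeadProper.isProperOver_iff p i hr).2 ?_
  haveI : IsProper ((i ≫ p) ≫ q) := by rw [Category.assoc]; exact hp
  exact IsProper.of_comp (i ≫ p) q

theorem isProperOver_image_of_comp {P Q S : Scheme.{u}} {p : P ⟶ Q} {q : Q ⟶ S} [LocallyOfFiniteType q]
    [IsSeparated q] {Z : Set P} (hZ : ClSub.IsProperOver (p ≫ q) Z) : ClSub.IsProperOver q (p '' Z) :=
  Groth.Agent.LeadProper.isProperOver_image q p rfl hZ fun _ i _ hp => by
    haveI : IsProper ((i ≫ p) ≫ q) := by rw [Category.assoc]; exact hp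
    haveI := IsProper.of_comp (i ≫ p) q
    infer_instance

theorem isClosed_image_of_isProperOver {P Q : Scheme.{u}} {p : P ⟶ Q} {Z : Set P}
    (hZ : ClSub.IsProperOver p Z) : IsClosed (p '' Z) := by
  obtain ⟨T, i, hi, hr, hp, -⟩ := Groth.Agent.LeadProper.exists_closedSubscheme hZ
  haveI := hp
  rw [← hr, ← Set.range_comp]
  exact (i ≫ p).isClosedMap.isClosed_range

variable {X Y Z : Scheme.{u}} (f : X ⟶ Y) (g : Y ⟶ Z) [LocallyOfFiniteType f]

/-- The support of a section of `f_! F` is the image of the support. -/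
theorem sectSupp_shriek (F : EtCoh.Ab X) (V : Y.Etale) (t : EtCoh.sect ((shriek f).obj F) V) :
    sectSupp ((shriek f).obj F) V t = prV f V '' sectSupp F ((EtCoh.bc f).obj V) t.1 := by
  have hcl := isClosed_image_of_isProperOver ((mem_iff f F t.1).1 t.2)
  ext y
  constructor
  · intro hy
    by_contra hn
    let O : V.left.Opens := ⟨_, hcl.isOpen_compl⟩
    refine hy (openObj V O) (openHom V O) ⟨⟨y, hn⟩, rfl⟩ (Subtype.ext ?_)
    show F.obj.map ((EtCoh.bc f).map (openHom V O)).op t.1 = 0
    refine S0728.eq_zero_of_supp_empty F _ fun w hw => ?_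
    rw [sectSupp_map] at hw
    have h2 : (openHom V O).left (prV f (openObj V O) w) ∈ (O : Set V.left) := (prV f (openObj V O) w).2
    refine h2 ⟨_, hw, ?_⟩
    rw [← Scheme.Hom.comp_apply, (isPullback_bc f (openHom V O)).w, Scheme.Hom.comp_apply]
  · rintro ⟨x, hx, rfl⟩ W h ⟨w, hw⟩ e
    obtain ⟨a, ha, -⟩ := Scheme.Pullback.exists_preimage_pullback (f := prV f V) (g := h.left) x w hw.symm
    have e' : F.obj.map ((EtCoh.bc f).map h).op t.1 = 0 := congrArg Subtype.val e
    have h0 : sectSupp F ((EtCoh.bc f).obj W) (F.obj.map ((EtCoh.bc f).map h).op t.1) = ∅ := by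
      rw [e', sectSupp_zero]
    rw [sectSupp_map] at h0
    refine Set.eq_empty_iff_forall_notMem.1 h0 ((isPullback_bc f h).isoPullback.inv a) ?_
    refine Set.mem_preimage.2 ?_
    rw [← Scheme.Hom.comp_apply, IsPullback.isoPullback_inv_fst, ha]
    exact hx

variable [LocallyOfFiniteType g]

/-- The comparison of the sites. -/
noncomputable def bcComp : EtCoh.bc (f ≫ g) ≅ EtCoh.bc g ⋙ EtCoh.bc f :=
  MorphismProperty.Over.pullbackComp (P := EtCoh.etaleMP) (Q := ⊤) f g

theorem bcComp_prV (W : Z.Etale) :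
    ((bcComp f g).hom.app W).left ≫ prV f ((EtCoh.bc g).obj W) ≫ prV g W = prV (f ≫ g) W :=
  MorphismProperty.Over.pullbackComp_left_fst_fst (P := EtCoh.etaleMP) (Q := ⊤) f g W

theorem isPullback_bcComp (W : Z.Etale) :
    IsPullback ((bcComp f g).hom.app W).left (prV (f ≫ g) W) (prV f ((EtCoh.bc g).obj W) ≫ prV g W) (𝟙 W.left) := by
  haveI : IsIso ((bcComp f g).hom.app W).left :=
    inferInstanceAs (IsIso ((Scheme.Etale.forget X ⋙ CategoryTheory.Over.forget X).map ((bcComp f g).hom.app W)))
  exact IsPullback.of_horiz_isIso ⟨by rw [Category.comp_id]; exact bcComp_prV f g W⟩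

theorem isPullback_bcComp_inv (W : Z.Etale) :
    IsPullback ((bcComp f g).inv.app W).left (prV f ((EtCoh.bc g).obj W) ≫ prV g W) (prV (f ≫ g) W) (𝟙 W.left) := by
  haveI : IsIso ((bcComp f g).inv.app W).left :=
    inferInstanceAs (IsIso ((Scheme.Etale.forget X ⋙ CategoryTheory.Over.forget X).map ((bcComp f g).inv.app W)))
  refine IsPullback.of_horiz_isIso ⟨?_⟩
  rw [Category.comp_id, ← bcComp_prV f g W, ← Category.assoc]
  have : ((bcComp f g).inv.app W).left ≫ ((bcComp f g).hom.app W).left = 𝟙 _ :=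
    congrArg (fun k => k.left) ((bcComp f g).inv_hom_id_app W)
  rw [this, Category.id_comp]

theorem comp_mem (F : EtCoh.Ab X) (W : Z.Etale) (t : EtCoh.sect ((shriek g).obj ((shriek f).obj F)) W) :
    F.obj.map ((bcComp f g).hom.app W).op t.1.1 ∈ shriekSubgroup (f ≫ g) F W := by
  refine (mem_iff (f ≫ g) F _).2 ?_
  have h1 := (mem_iff f F t.1.1).1 t.1.2
  have h2 := (mem_iff g ((shriek f).obj F) t.1).1 t.2
  rw [sectSupp_shriek] at h2
  rw [sectSupp_map]
  exact isProperOver_baseChange (isPullback_bcComp f g W) (isProperOver_comp h1 h2)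

/-- The comparison map. -/
noncomputable def compHom : shriek f ⋙ shriek g ⟶ shriek (f ≫ g) where
  app F := ⟨{
    app W := AddCommGrpCat.ofHom
      (AddMonoidHom.codRestrict
        ((F.obj.map ((bcComp f g).hom.app W.unop).op).hom.comp
          ((shriekSubgroup f F _).subtype.comp (shriekSubgroup g ((shriek f).obj F) W.unop).subtype))
        (shriekSubgroup (f ≫ g) F W.unop) (fun t => comp_mem f g F W.unop t))
    naturality W W' φ := by
      ext t
      refine Subtype.ext ?_
      change F.obj.map ((bcComp f g).hom.app W'.unop).op (F.obj.map ((EtCoh.bc f).map ((EtCoh.bc g).map φ.unop)).op t.1.1) =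
        F.obj.map ((EtCoh.bc (f ≫ g)).map φ.unop).op (F.obj.map ((bcComp f g).hom.app W.unop).op t.1.1)
      refine (S0728.map_comp' F _ _ _).symm.trans (Eq.trans ?_ (S0728.map_comp' F _ _ _))
      exact congrArg (fun k => F.obj.map (Quiver.Hom.op k) t.1.1) ((bcComp f g).hom.naturality φ.unop).symm }⟩
  naturality F G α := by
    ext W t
    refine Subtype.ext ?_
    exact (ConcreteCategory.congr_hom (α.hom.naturality ((bcComp f g).hom.app W.unop).op) t.1.1).symm

theorem compHom_bijective [IsSeparated g] (F : EtCoh.Ab X) (W : Z.Etaleᵒᵖ) :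
    Function.Bijective (((compHom f g).app F).hom.app W) := by
  refine ⟨fun a b h => Subtype.ext (Subtype.ext ?_), fun s => ?_⟩
  · have h' : F.obj.map ((bcComp f g).hom.app W.unop).op a.1.1 = F.obj.map ((bcComp f g).hom.app W.unop).op b.1.1 :=
      congrArg Subtype.val h
    exact (ConcreteCategory.bijective_of_isIso (F.obj.map ((bcComp f g).hom.app W.unop).op)).1 h'
  · let r : EtCoh.sect F ((EtCoh.bc f).obj ((EtCoh.bc g).obj W.unop)) :=
      F.obj.map ((bcComp f g).inv.app W.unop).op s.1
    have hs : ClSub.IsProperOver (prV f ((EtCoh.bc g).obj W.unop) ≫ prV g W.unop) (sectSupp F _ r) := by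
      rw [show sectSupp F _ r = _ from sectSupp_map F ((bcComp f g).inv.app W.unop) s.1]
      exact isProperOver_baseChange (isPullback_bcComp_inv f g W.unop) ((mem_iff (f ≫ g) F s.1).1 s.2)
    haveI : IsSeparated (prV g W.unop) := inferInstanceAs (IsSeparated (pullback.fst W.unop.hom g))
    let t : EtCoh.sect ((shriek f).obj F) ((EtCoh.bc g).obj W.unop) :=
      ⟨r, (mem_iff f F r).2 (isProperOver_of_comp hs)⟩
    have ht : t ∈ shriekSubgroup g ((shriek f).obj F) W.unop := by
      refine (mem_iff g _ t).2 ?_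
      rw [sectSupp_shriek]
      exact isProperOver_image_of_comp hs
    refine ⟨⟨t, ht⟩, Subtype.ext ?_⟩
    change F.obj.map ((bcComp f g).hom.app W.unop).op r = s.1
    refine (S0728.map_comp' F _ _ _).symm.trans ?_
    rw [Iso.hom_inv_id_app, op_id, CategoryTheory.Functor.map_id]
    rfl

/-- Direct images with proper support compose. -/
noncomputable def compIso [IsSeparated g] : shriek f ⋙ shriek g ≅ shriek (f ≫ g) :=
  haveI : IsIso (compHom f g) := by
    refine @NatIso.isIso_of_isIso_app _ _ _ _ _ _ _ fun F => ?_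
    refine (isIso_iff_of_reflects_iso _ (sheafToPresheaf _ _)).1 ?_
    refine @NatIso.isIso_of_isIso_app _ _ _ _ _ _ _ fun W => ?_
    exact (ConcreteCategory.isIso_iff_bijective _).2 (compHom_bijective f g F W)
  asIso (compHom f g)

/-- The same for the functors of the definition. -/
noncomputable def lowerShriekCompIso [IsSeparated g] :
    lowerShriek f ⋙ lowerShriek g ≅ lowerShriek (f ≫ g) :=
  Functor.isoWhiskerRight (shriekIso f) _ ≪≫ Functor.isoWhiskerLeft _ (shriekIso g) ≪≫ compIso f g ≪≫
    (shriekIso (f ≫ g)).symm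

end Groth.Agent.H15Site.Shriek
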