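import Groth.Agent.H15Site.Shriek.Sheaf
import Groth.Agent.H7Weight.GeomPts
import Groth.Agent.H18Et.PushStalk
import Mathlib.AlgebraicGeometry.ZariskisMainTheorem

/-!
# Evaluation of the stalks of `f_!` at the geometric points of the fibre
-/

set_option autoImplicit false
set_option linter.style.haveILetI false
set_option linter.overlappingInstances false
set_option backward.isDefEq.respectTransparency false
set_option backward.isDefEq.respectTransparency.types false

universe u

open CategoryTheory CategoryTheory.Limits AlgebraicGeometry Opposite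

namespace Groth.Agent.H15Site.Shriek

open Groth.Agent.H18Et Groth.Agent.H18Et.AffineCriterion EtShriek

variable {X Y : Scheme.{u}} (f : X ⟶ Y) [LocallyOfFiniteType f] {Ω : Type u} [Field Ω] [IsAlgClosed Ω]
  {η : Spec (CommRingCat.of Ω) ⟶ Y}

variable {f} in
/-- The element of the fibre of the base change at a lift of the geometric point. -/
noncomputable def bcFib (w : H7Weight.Pts f η) {V : Y.Etale} (z : (Scheme.pointSmallEtale η).fiber.obj V) :
    (Scheme.pointSmallEtale w.1).fiber.obj ((EtCoh.bc f).obj V) :=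
  Over.homMk (pullback.lift z.left w.1 ((show z.left ≫ V.hom = η from Over.w z).trans w.2.symm))
    (pullback.lift_snd _ _ _)

variable {f} in
theorem bcFib_fst (w : H7Weight.Pts f η) {V : Y.Etale} (z : (Scheme.pointSmallEtale η).fiber.obj V) :
    (bcFib w z).left ≫ prV f V = z.left :=
  pullback.lift_fst _ _ _

variable {f} in
theorem bcFib_map (w : H7Weight.Pts f η) {V V' : Y.Etale} (φ : V' ⟶ V)
    (z : (Scheme.pointSmallEtale η).fiber.obj V') :
    (Scheme.pointSmallEtale w.1).fiber.map ((EtCoh.bc f).map φ) (bcFib w z) =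
      bcFib w ((Scheme.pointSmallEtale η).fiber.map φ z) := by
  refine Over.OverMorphism.ext (pullback.hom_ext ?_ ?_)
  · show ((bcFib w z).left ≫ ((EtCoh.bc f).map φ).left) ≫ prV f V = (bcFib w _).left ≫ prV f V
    rw [Category.assoc, (isPullback_bc f φ).w, ← Category.assoc, bcFib_fst, bcFib_fst]
    rfl
  · exact (Over.w ((Scheme.pointSmallEtale w.1).fiber.map ((EtCoh.bc f).map φ) (bcFib w z))).trans
      (Over.w (bcFib w ((Scheme.pointSmallEtale η).fiber.map φ z))).symm

omit [IsAlgClosed Ω] in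
theorem apply_eq_pt {S : Scheme.{u}} (l : Spec (CommRingCat.of Ω) ⟶ S) (a : Spec (CommRingCat.of Ω)) :
    l.base a = H7Weight.pt l :=
  congrArg l.base (Subsingleton.elim _ _)

variable (F : EtCoh.Ab X) (η)

/-- Evaluation of the stalk at a lift. -/
noncomputable def evalW (w : H7Weight.Pts f η) :
    (EtCoh.stalk η).obj ((shriek f).obj F) ⟶ (EtCoh.stalk w.1).obj F :=
  (Scheme.pointSmallEtale η).presheafFiberDesc (P := ((shriek f).obj F).obj)
    (fun V z => AddCommGrpCat.ofHom (shriekSubgroup f F V).subtype ≫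
      germ w.1 F ((EtCoh.bc f).obj V) (bcFib w z))
    (fun V V' φ z => by
      ext t
      change germ w.1 F ((EtCoh.bc f).obj V) (bcFib w z) (F.obj.map ((EtCoh.bc f).map φ).op t.1) = _
      rw [← bcFib_map w φ z]
      exact (Scheme.pointSmallEtale w.1).toPresheafFiber_w_apply ((EtCoh.bc f).map φ) (bcFib w z) F.obj t.1)

theorem evalW_germ (w : H7Weight.Pts f η) (V : Y.Etale) (z : (Scheme.pointSmallEtale η).fiber.obj V)
    (t : EtCoh.sect ((shriek f).obj F) V) :
    evalW f η F w (germ η ((shriek f).obj F) V z t) = germ w.1 F ((EtCoh.bc f).obj V) (bcFib w z) t.1 :=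
  ConcreteCategory.congr_hom ((Scheme.pointSmallEtale η).toPresheafFiber_presheafFiberDesc
    (P := ((shriek f).obj F).obj) _ _ V z) t

instance locallyQuasiFinite_prV [LocallyQuasiFinite f] (V : Y.Etale) : LocallyQuasiFinite (prV f V) :=
  inferInstanceAs (LocallyQuasiFinite (pullback.fst V.hom f))

/-- The evaluations are jointly injective. -/
theorem evalW_jointly_injective [LocallyQuasiFinite f] (y : (EtCoh.stalk η).obj ((shriek f).obj F))
    (h : ∀ w, evalW f η F w y = 0) : y = 0 := by
  obtain ⟨V, z, t, rfl⟩ := germ_surjective η ((shriek f).obj F) y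
  have hp := (mem_iff f F t.1).1 t.2
  obtain ⟨T, i, hi, hr, hpr, -⟩ := Groth.Agent.LeadProper.exists_closedSubscheme hp
  haveI := hpr
  have hcl : IsClosed (prV f V '' sectSupp F _ t.1) := by
    rw [← hr, ← Set.range_comp]
    exact (i ≫ prV f V).isClosedMap.isClosed_range
  have hv : ptOf z ∉ prV f V '' sectSupp F _ t.1 := by
    rintro ⟨p, hps, hpz⟩
    obtain ⟨⟨l, hl⟩, hlp⟩ := H7Weight.exists_pts (prV f V) z.left p (hpz.trans (apply_eq_pt z.left _))
    let w : H7Weight.Pts f η := ⟨l ≫ pullback.snd V.hom f, by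
      rw [Category.assoc, ← pullback.condition, ← Category.assoc, show l ≫ pullback.fst V.hom f = z.left from hl]
      exact Over.w z⟩
    have hb : (bcFib w z).left = l := pullback.hom_ext ((bcFib_fst w z).trans hl.symm) (pullback.lift_snd _ _ _)
    have h1 := h w
    rw [evalW_germ] at h1
    refine (germ_eq_zero_iff F (bcFib w z) t.1).1 h1 ?_
    have : ptOf (bcFib w z) = p :=
      ((apply_eq_pt (bcFib w z).left _).trans (congrArg H7Weight.pt hb)).trans hlp
    exact this.symm ▸ hps
  refine (germ_eq_zero_iff ((shriek f).obj F) z t).2 fun hm =>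
    hm (openObj V ⟨_, hcl.isOpen_compl⟩) (openHom V ⟨_, hcl.isOpen_compl⟩) ⟨⟨ptOf z, hv⟩, rfl⟩ ?_
  · refine Subtype.ext (S0728.eq_zero_of_supp_empty F _ fun q hq => ?_)
    change q ∈ sectSupp F _ (F.obj.map ((EtCoh.bc f).map (openHom V ⟨_, hcl.isOpen_compl⟩)).op t.1) at hq
    rw [sectSupp_map] at hq
    refine (prV f (openObj V ⟨_, hcl.isOpen_compl⟩) q).2 ⟨_, hq, ?_⟩
    rw [← Scheme.Hom.comp_apply, (isPullback_bc f (openHom V ⟨_, hcl.isOpen_compl⟩)).w, Scheme.Hom.comp_apply]
    rfl

/-- Only finitely many evaluations are non zero. -/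
theorem finite_evalW_ne_zero [LocallyQuasiFinite f] (y : (EtCoh.stalk η).obj ((shriek f).obj F)) :
    {w : H7Weight.Pts f η | evalW f η F w y ≠ 0}.Finite := by
  obtain ⟨V, z, t, rfl⟩ := germ_surjective η ((shriek f).obj F) y
  obtain ⟨T, i, hi, hr, hpr, -⟩ := Groth.Agent.LeadProper.exists_closedSubscheme ((mem_iff f F t.1).1 t.2)
  haveI := hpr
  haveI : LocallyQuasiFinite (i ≫ prV f V) := inferInstance
  haveI : IsFinite (i ≫ prV f V) := IsFinite.of_isProper_of_locallyQuasiFinite _
  haveI := H7Weight.finite_pts (i ≫ prV f V) z.left ((i ≫ prV f V).finite_preimage_singleton _)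
  let back : H7Weight.Pts (i ≫ prV f V) z.left → H7Weight.Pts f η := fun l =>
    ⟨l.1 ≫ i ≫ pullback.snd V.hom f, by
      rw [Category.assoc, Category.assoc, ← pullback.condition]
      have h1 : l.1 ≫ i ≫ pullback.fst V.hom f = z.left := l.2
      rw [show l.1 ≫ i ≫ pullback.fst V.hom f ≫ V.hom = (l.1 ≫ i ≫ pullback.fst V.hom f) ≫ V.hom by
        simp only [Category.assoc], h1]
      exact Over.w z⟩
  refine (Set.finite_range back).subset fun w hw => ?_
  have hq : ptOf (bcFib w z) ∈ Set.range i := by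
    rw [hr]
    by_contra hn
    exact hw ((evalW_germ f η F w V z t).trans ((germ_eq_zero_iff F _ t.1).2 hn))
  obtain ⟨a, ha⟩ := hq
  obtain ⟨⟨l, hl⟩, hla⟩ := H7Weight.exists_pts i (bcFib w z).left a (ha.trans (apply_eq_pt (bcFib w z).left _))
  refine ⟨⟨l, by rw [← Category.assoc, hl]; exact bcFib_fst w z⟩, Subtype.ext ?_⟩
  show l ≫ i ≫ pullback.snd V.hom f = w.1
  rw [← Category.assoc, hl]
  exact pullback.lift_snd _ _ _

end Groth.Agent.H15Site.Shriek
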