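import Groth.Agent.H15Site.Shriek.EtaleUnit
import Groth.Agent.H15Site.Shriek.Eval
import Groth.Agent.H18Et.ExtZeroCounit
import Groth.Agent.H18Et.PushImmersion
import Mathlib.LinearAlgebra.DFinsupp

/-!
# Extension by zero is the direct image with proper support
-/

set_option autoImplicit false
set_option linter.style.haveILetI false
set_option linter.overlappingInstances false
set_option backward.isDefEq.respectTransparency false
set_option backward.isDefEq.respectTransparency.types false

universe u

open CategoryTheory CategoryTheory.Limits AlgebraicGeometry Opposite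

namespace Groth.Agent.H15Site.Shriek

open Groth.Agent.H18Et EtShriek

theorem coprod_elem {ι : Type u} (M : ι → AddCommGrpCat.{u + 1}) (x : ↑(∐ M)) :
    ∃ (s : Finset ι) (a : ∀ i, M i), x = ∑ i ∈ s, Sigma.ι M i (a i) := by
  classical
  let φ : ∐ M ⟶ AddCommGrpCat.of (Π₀ i, M i) :=
    Sigma.desc fun i => AddCommGrpCat.ofHom (DFinsupp.singleAddHom (fun i => M i) i)
  let ψ : AddCommGrpCat.of (Π₀ i, M i) ⟶ ∐ M :=
    AddCommGrpCat.ofHom (DFinsupp.sumAddHom fun i => (Sigma.ι M i).hom)
  have h : φ ≫ ψ = 𝟙 _ := Sigma.hom_ext _ _ fun i => by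
    rw [Sigma.ι_desc_assoc, Category.comp_id]
    ext a
    exact DFinsupp.sumAddHom_single (fun i => (Sigma.ι M i).hom) i a
  let p : Π₀ i, M i := φ x
  refine ⟨p.support, fun i => p i, ?_⟩
  conv_lhs => rw [← ConcreteCategory.id_apply (X := ∐ M) x, ← h, ConcreteCategory.comp_apply]
  exact DFinsupp.sumAddHom_apply _ p

variable {U X : Scheme.{u}} (j : U ⟶ X) [Etale j] [IsSeparated j] [JCont j]

/-- The comparison map. -/
noncomputable def extZeroToShriek : extZero j ⟶ shriek j where
  app F := ((extZeroAdj j).homEquiv F ((shriek j).obj F)).symm ((unitShriek j).app F)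
  naturality F G α := by
    rw [← Adjunction.homEquiv_naturality_left_symm, ← Adjunction.homEquiv_naturality_right_symm]
    exact congrArg _ ((unitShriek j).naturality α)

variable {Ω : Type u} [Field Ω] [IsAlgClosed Ω] {ξ : Spec (CommRingCat.of Ω) ⟶ X}

theorem theta_transpose (F : EtCoh.Ab U) {G : EtCoh.Ab X} (φ : (extZero j).obj F ⟶ G) (v : ExtZeroStalk.Pts j ξ) :
    ExtZeroStalk.theta j ξ F v ((EtCoh.stalk ξ).map φ) =
      (EtCoh.stalk v.1).map ((extZeroAdj j).homEquiv F G φ) ≫ ExtZeroStalk.alpha v G := by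
  have h1 : (ExtZeroStalk.skyAdj ξ).homEquiv _ _ ((EtCoh.stalk ξ).map φ) =
      φ ≫ (ExtZeroStalk.skyAdj ξ).unit.app G := by
    rw [Adjunction.homEquiv_unit]
    exact ((ExtZeroStalk.skyAdj ξ).unit.naturality _).symm
  rw [ExtZeroStalk.theta, ExtZeroStalk.alpha]
  erw [h1, Adjunction.homEquiv_naturality_right, ← Adjunction.homEquiv_naturality_left_symm]
  rw [Category.assoc]

theorem bcFib_toFib_same (v : ExtZeroStalk.Pts j ξ) {W : U.Etale}
    (y : (Scheme.pointSmallEtale v.1).fiber.obj W) :
    bcFib v (ExtZeroStalk.toFib v y) = (Scheme.pointSmallEtale v.1).fiber.map (graph j W) y := by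
  refine Over.OverMorphism.ext (pullback.hom_ext ?_ ?_)
  · show (bcFib v (ExtZeroStalk.toFib v y)).left ≫ prV j _ = (y.left ≫ (graph j W).left) ≫ prV j _
    rw [bcFib_fst, Category.assoc, graph_prV]
    exact (Category.comp_id _).symm
  · exact (Over.w (bcFib v (ExtZeroStalk.toFib v y))).trans
      (Over.w ((Scheme.pointSmallEtale v.1).fiber.map (graph j W) y)).symm

theorem eq_of_mem_range_graph (v w : ExtZeroStalk.Pts j ξ) {W : U.Etale}
    (y : (Scheme.pointSmallEtale v.1).fiber.obj W)
    (h : ptOf (bcFib w (ExtZeroStalk.toFib v y)) ∈ Set.range (graph j W).left) : v = w := by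
  obtain ⟨l, hl⟩ : ∃ l, l ≫ (graph j W).left = (bcFib w (ExtZeroStalk.toFib v y)).left :=
    ⟨_, IsOpenImmersion.lift_fac (graph j W).left (bcFib w (ExtZeroStalk.toFib v y)).left (by
      rintro _ ⟨a, rfl⟩
      exact Set.mem_of_eq_of_mem ((apply_eq_pt (bcFib w (ExtZeroStalk.toFib v y)).left a).trans
        (apply_eq_pt (bcFib w (ExtZeroStalk.toFib v y)).left default).symm) h)⟩
  have h1 : l = y.left := by
    have e := congrArg (fun k => k ≫ prV j ((compEtale j).obj W)) hl
    simp only [Category.assoc] at e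
    rw [graph_prV, bcFib_fst] at e
    exact (Category.comp_id l).symm.trans e
  refine Subtype.ext ?_
  have e := congrArg (fun k => k ≫ pullback.snd ((compEtale j).obj W).hom j) hl
  simp only [Category.assoc] at e
  rw [graph_snd, h1] at e
  exact (Over.w y).symm.trans (e.trans (pullback.lift_snd _ _ _))

/-- The composite on stalks is the projection. -/
theorem theta_eval (F : EtCoh.Ab U) (v w : ExtZeroStalk.Pts j ξ) (a : (EtCoh.stalk v.1).obj F) :
    (v ≠ w → evalW j ξ F w (ExtZeroStalk.theta j ξ F v ((EtCoh.stalk ξ).map ((extZeroToShriek j).app F)) a) = 0) ∧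
      evalW j ξ F v (ExtZeroStalk.theta j ξ F v ((EtCoh.stalk ξ).map ((extZeroToShriek j).app F)) a) = a := by
  obtain ⟨W, y, s, rfl⟩ := germ_surjective v.1 F a
  have key : ExtZeroStalk.theta j ξ F v ((EtCoh.stalk ξ).map ((extZeroToShriek j).app F)) (germ v.1 F W y s) =
      germ ξ ((shriek j).obj F) ((compEtale j).obj W) (ExtZeroStalk.toFib v y)
        ⟨extGraph j F W s, extGraph_mem j F W s⟩ := by
    rw [theta_transpose, ConcreteCategory.comp_apply]
    have e : (extZeroAdj j).homEquiv F _ ((extZeroToShriek j).app F) = (unitShriek j).app F :=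
      Equiv.apply_symm_apply _ _
    rw [e]
    refine (congrArg (ExtZeroStalk.alpha v _) (germ_naturality v.1 ((unitShriek j).app F) W y s)).trans ?_
    exact ExtZeroStalk.alpha_germ v _ y _
  refine ⟨fun hvw => ?_, ?_⟩
  · rw [key, evalW_germ]
    exact (germ_eq_zero_iff F _ _).2 fun hm => hvw (eq_of_mem_range_graph j v w y (extGraph_supp j F W s hm))
  · rw [key, evalW_germ, bcFib_toFib_same]
    refine ((Scheme.pointSmallEtale v.1).toPresheafFiber_w_apply (graph j W) y F.obj (extGraph j F W s)).symm.trans ?_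
    exact congrArg (germ v.1 F W y) (map_extGraph j F W s)

theorem bijective_stalk_extZeroToShriek (F : EtCoh.Ab U) :
    Function.Bijective ((EtCoh.stalk ξ).map ((extZeroToShriek j).app F)) := by
  classical
  haveI : LocallyQuasiFinite j := inferInstance
  let k : (EtCoh.stalk ξ).obj ((extZero j).obj F) ⟶ _ := (EtCoh.stalk ξ).map ((extZeroToShriek j).app F)
  have hk : ∀ (v : ExtZeroStalk.Pts j ξ) (a : (EtCoh.stalk v.1).obj F),
      k ((ExtZeroStalk.stalkIso j ξ F).inv (Sigma.ι (fun v : ExtZeroStalk.Pts j ξ => (EtCoh.stalk v.1).obj F) v a)) =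
        ExtZeroStalk.theta j ξ F v k a := by
    intro v a
    rw [← ConcreteCategory.comp_apply, ← ConcreteCategory.comp_apply]
    refine ConcreteCategory.congr_hom ?_ a
    rw [← Category.assoc]
    have e : Sigma.ι (fun v : ExtZeroStalk.Pts j ξ => (EtCoh.stalk v.1).obj F) v ≫ (ExtZeroStalk.stalkIso j ξ F).inv =
        ExtZeroStalk.theta j ξ F v (𝟙 _) :=
      IsColimit.comp_coconePointUniqueUpToIso_inv _ _ (Discrete.mk v)
    rw [e, ← ExtZeroStalk.theta_comp, Category.id_comp]
  refine ⟨(injective_iff_map_eq_zero _).2 fun x hx => ?_, fun y => ?_⟩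
  · obtain ⟨s, a, hsa⟩ := coprod_elem _ ((ExtZeroStalk.stalkIso j ξ F).hom x)
    have hx' : x = (ExtZeroStalk.stalkIso j ξ F).inv ((ExtZeroStalk.stalkIso j ξ F).hom x) :=
      ((ExtZeroStalk.stalkIso j ξ F).hom_inv_id_apply x).symm
    have ha : ∀ w ∈ s, a w = 0 := fun w hw => by
      have h0 : evalW j ξ F w (k x) = 0 := by rw [show k x = 0 from hx, map_zero]
      rw [hx', hsa, map_sum, map_sum, map_sum, Finset.sum_eq_single w] at h0
      · rw [hk] at h0
        exact ((theta_eval j F w w (a w)).2).symm.trans h0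
      · intro v _ hvw
        rw [hk]
        exact (theta_eval j F v w (a v)).1 hvw
      · exact fun h => absurd hw h
    rw [hx', hsa, map_sum]
    exact Finset.sum_eq_zero fun w hw => by rw [ha w hw, map_zero, map_zero]
  · refine ⟨∑ v ∈ (finite_evalW_ne_zero j ξ F y).toFinset,
      (ExtZeroStalk.stalkIso j ξ F).inv (Sigma.ι (fun v : ExtZeroStalk.Pts j ξ => (EtCoh.stalk v.1).obj F) v
        (evalW j ξ F v y)), ?_⟩
    rw [← sub_eq_zero]
    refine evalW_jointly_injective j ξ F _ fun w => ?_
    rw [map_sub, sub_eq_zero, map_sum, map_sum]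
    by_cases hw : evalW j ξ F w y = 0
    · rw [hw]
      refine Finset.sum_eq_zero fun v hv => (congrArg _ (hk v _)).trans ((theta_eval j F v w _).1 ?_)
      rintro rfl
      exact (Set.Finite.mem_toFinset _).1 hv hw
    · rw [Finset.sum_eq_single w]
      · exact (congrArg _ (hk w _)).trans (theta_eval j F w w _).2
      · intro v _ hvw
        exact (congrArg _ (hk v _)).trans ((theta_eval j F v w _).1 hvw)
      · exact fun h => absurd ((Set.Finite.mem_toFinset _).2 hw) h

instance : IsIso (extZeroToShriek j) := by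
  refine @NatIso.isIso_of_isIso_app _ _ _ _ _ _ _ fun F => ?_
  refine isIso_of_stalk _ fun x => ?_
  let ζ : Spec (CommRingCat.of (AlgebraicClosure (X.residueField x))) ⟶ X :=
    (Scheme.SpecToEquivOfField (AlgebraicClosure (X.residueField x)) X).symm
      ⟨x, CommRingCat.ofHom (algebraMap (X.residueField x) _)⟩
  exact ⟨_, _, inferInstance, ζ, by simp [ζ, Scheme.SpecToEquivOfField], bijective_stalk_extZeroToShriek j F⟩

/-- Extension by zero is the direct image with proper support. -/
noncomputable def extZeroIso : extZero j ≅ lowerShriek j :=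
  asIso (extZeroToShriek j) ≪≫ (shriekIso j).symm

end Groth.Agent.H15Site.Shriek
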