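import Groth.Agent.H15Site.Shriek.Stalk
import Mathlib.CategoryTheory.Limits.Preserves.Shapes.Terminal
import Mathlib.Algebra.Category.Grp.Abelian
import Mathlib.Algebra.Homology.ShortComplex.Ab
import Mathlib.Algebra.Homology.ShortComplex.ExactFunctor

/-!
# Exactness of `f_!`
-/

set_option autoImplicit false
set_option linter.style.haveILetI false
set_option linter.overlappingInstances false
set_option linter.unusedSectionVars false
set_option backward.isDefEq.respectTransparency false
set_option backward.isDefEq.respectTransparency.types false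

universe u

open CategoryTheory CategoryTheory.Limits AlgebraicGeometry Opposite
open scoped ZeroObject

namespace Groth.Agent.H15Site.Shriek

open Groth.Agent.H18Et EtShriek

variable {X Y : Scheme.{u}}

instance (f : X ⟶ Y) [LocallyOfFiniteType f] : (shriek f).Additive where
  map_add {F G α β} := by
    ext V t
    refine Subtype.ext ?_
    rfl

/-- The standard algebraically closed geometric point over a point. -/
noncomputable def algPt (x : Y) : Spec (CommRingCat.of (AlgebraicClosure (Y.residueField x))) ⟶ Y :=
  (Scheme.SpecToEquivOfField (AlgebraicClosure (Y.residueField x)) Y).symm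
    ⟨x, CommRingCat.ofHom (algebraMap (Y.residueField x) _)⟩

theorem algPt_base (x : Y) : (algPt x).base default = x := by
  simp [algPt, Scheme.SpecToEquivOfField]

theorem exact_of_algClosed (S : ShortComplex (EtCoh.Ab Y))
    (h : ∀ (Ω : Type u) [Field Ω] [IsAlgClosed Ω] (ξ : Spec (CommRingCat.of Ω) ⟶ Y),
      (S.map (EtCoh.stalk ξ)).Exact) : S.Exact := by
  rw [ShortComplex.exact_iff_isZero_homology]
  haveI : IsIso (0 : S.homology ⟶ 0) := isIso_of_stalk _ fun x => by
    have hz : IsZero ((EtCoh.stalk (algPt x)).obj S.homology) :=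
      ((ShortComplex.exact_iff_isZero_homology _).1 (h _ (algPt x))).of_iso (S.mapHomologyIso _).symm
    haveI : IsIso ((EtCoh.stalk (algPt x)).map (0 : S.homology ⟶ 0)) :=
      hz.isIso ((EtCoh.stalk (algPt x)).map_isZero (isZero_zero _)) _
    exact ⟨_, _, inferInstance, algPt x, algPt_base x, ConcreteCategory.bijective_of_isIso _⟩
  exact IsZero.of_iso (isZero_zero _) (asIso (0 : S.homology ⟶ 0))

variable (f : X ⟶ Y) [IsSeparated f] [LocallyOfFiniteType f] [LocallyQuasiFinite f]

theorem exact_map (S : ShortComplex (EtCoh.Ab X)) (hS : S.Exact) : (S.map (shriek f)).Exact := by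
  classical
  refine exact_of_algClosed _ fun Ω _ _ η => ?_
  rw [ShortComplex.ab_exact_iff]
  intro y hy
  have key : ∀ w : H7Weight.Pts f η, ∃ a, (EtCoh.stalk w.1).map S.f a = evalW f η S.X₂ w y := fun w => by
    have hw := (exact_iff_stalk S).1 hS Ω w.1
    rw [ShortComplex.ab_exact_iff] at hw
    refine hw _ ?_
    change (EtCoh.stalk w.1).map S.g (evalW f η S.X₂ w y) = 0
    rw [← evalW_naturality]
    exact (congrArg (evalW f η S.X₃ w) hy).trans (map_zero _)
  choose a ha using key
  refine ⟨∑ w ∈ (finite_evalW_ne_zero f η S.X₂ y).toFinset, insW f η S.X₁ w (a w), ?_⟩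
  refine eq_of_evalW f η S.X₂ fun v => ?_
  change evalW f η S.X₂ v ((EtCoh.stalk η).map ((shriek f).map S.f) _) = _
  rw [evalW_naturality, map_sum]
  by_cases hv : v ∈ (finite_evalW_ne_zero f η S.X₂ y).toFinset
  · rw [Finset.sum_eq_single v (fun w _ hw => evalW_insW_ne f η S.X₁ (Ne.symm hw) _) (fun h => absurd hv h),
      evalW_insW_same]
    exact ha v
  · have h0 : evalW f η S.X₂ v y = 0 := by
      by_contra h
      exact hv ((Set.Finite.mem_toFinset _).2 h)
    rw [h0, Finset.sum_eq_zero fun w hw => evalW_insW_ne f η S.X₁ (by rintro rfl; exact hv hw) _, map_zero]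

theorem preservesFiniteLimits_and_colimits :
    PreservesFiniteLimits (shriek f) ∧ PreservesFiniteColimits (shriek f) := by
  have h : ∀ S : ShortComplex (EtCoh.Ab X), S.Exact → (S.map (shriek f)).Exact := exact_map f
  exact ((Functor.exact_tfae (shriek f)).out 1 3).1 h

end Groth.Agent.H15Site.Shriek
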