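import Groth.Agent.H18Et.Stalk
import Groth.Prelude.Def_EtTens2
import Mathlib.LinearAlgebra.TensorProduct.Basic

/-!
# Stalks of tensor products of abelian etale sheaves
-/

set_option autoImplicit false
set_option linter.style.haveILetI false
set_option linter.unusedSectionVars false
set_option backward.isDefEq.respectTransparency false
set_option backward.isDefEq.respectTransparency.types false

universe u

open CategoryTheory CategoryTheory.Limits AlgebraicGeometry Opposite TensorProduct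

namespace Groth.Agent.H15Site.Shriek.TensorStalk

open Groth.Agent.H18Et

variable {X : Scheme.{u}} {Ω : Type u} [Field Ω] [IsSepClosed Ω] (ξ : Spec (CommRingCat.of Ω) ⟶ X)
  (F G : EtCoh.Ab X)

/-- The tensor product of sheaves. -/
noncomputable abbrev tensor : EtCoh.Ab X := (EtTens.tensorBi.obj F).obj G

/-- A pure tensor of sections. -/
noncomputable def tsec {U : X.Etale} (s : EtCoh.sect F U) (g : EtCoh.sect G U) : EtCoh.sect (tensor F G) U :=
  (toSheafify X.smallEtaleTopology (EtTens.tensorObj F.obj G.obj)).app (op U) (s ⊗ₜ[ℤ] g)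

theorem map_tsec {U V : X.Etale} (h : V ⟶ U) (s : EtCoh.sect F U) (g : EtCoh.sect G U) :
    (tensor F G).obj.map h.op (tsec F G s g) = tsec F G (F.obj.map h.op s) (G.obj.map h.op g) :=
  (ConcreteCategory.congr_hom ((toSheafify X.smallEtaleTopology (EtTens.tensorObj F.obj G.obj)).naturality h.op)
    (s ⊗ₜ[ℤ] g)).symm

theorem tsec_add_left {U : X.Etale} (s s' : EtCoh.sect F U) (g : EtCoh.sect G U) :
    tsec F G (s + s') g = tsec F G s g + tsec F G s' g := by
  simp only [tsec]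
  exact (congrArg _ (TensorProduct.add_tmul s s' g)).trans (map_add _ _ _)

theorem tsec_add_right {U : X.Etale} (s : EtCoh.sect F U) (g g' : EtCoh.sect G U) :
    tsec F G s (g + g') = tsec F G s g + tsec F G s g' := by
  simp only [tsec]
  exact (congrArg _ (TensorProduct.tmul_add s g g')).trans (map_add _ _ _)

theorem tsec_naturality {F' G' : EtCoh.Ab X} (α : F ⟶ F') (β : G ⟶ G') {U : X.Etale} (s : EtCoh.sect F U)
    (g : EtCoh.sect G U) :
    (((EtTens.tensorBi.map α).app G ≫ (EtTens.tensorBi.obj F').map β)).hom.app (op U) (tsec F G s g) =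
      tsec F' G' (α.hom.app _ s) (β.hom.app _ g) := by
  have h1 := ConcreteCategory.congr_hom (congr_app
    (toSheafify_naturality X.smallEtaleTopology (EtTens.tensorHom α.hom (𝟙 G.obj))) (op U)) (s ⊗ₜ[ℤ] g)
  have h2 := ConcreteCategory.congr_hom (congr_app
    (toSheafify_naturality X.smallEtaleTopology (EtTens.tensorHom (𝟙 F'.obj) β.hom)) (op U))
    ((α.hom.app (op U) s) ⊗ₜ[ℤ] g)
  simp only [NatTrans.comp_app, ConcreteCategory.comp_apply] at h1 h2
  change _ = tsec F' G' (α.hom.app _ s) (β.hom.app _ g)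
  rw [show ((EtTens.tensorBi.map α).app G ≫ (EtTens.tensorBi.obj F').map β).hom.app (op U) (tsec F G s g) =
    (sheafifyMap X.smallEtaleTopology (EtTens.tensorHom (𝟙 F'.obj) β.hom)).app (op U)
      ((sheafifyMap X.smallEtaleTopology (EtTens.tensorHom α.hom (𝟙 G.obj))).app (op U)
        ((toSheafify X.smallEtaleTopology (EtTens.tensorObj F.obj G.obj)).app (op U) (s ⊗ₜ[ℤ] g))) from rfl,
    ← h1, EtTens.tensorHom_app_tmul]
  exact h2.symm.trans (congrArg _ (EtTens.tensorHom_app_tmul _ _ _ _ _))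

theorem germ_res (H : EtCoh.Ab X) {A B : X.Etale} (c : A ⟶ B) (y : (Scheme.pointSmallEtale ξ).fiber.obj A)
    (t : EtCoh.sect H B) :
    germ ξ H A y (H.obj.map c.op t) = germ ξ H B ((Scheme.pointSmallEtale ξ).fiber.map c y) t :=
  (Scheme.pointSmallEtale ξ).toPresheafFiber_w_apply c y H.obj t

theorem exists_cone {U V : X.Etale} (x : (Scheme.pointSmallEtale ξ).fiber.obj U)
    (y : (Scheme.pointSmallEtale ξ).fiber.obj V) :
    ∃ (W : X.Etale) (w : (Scheme.pointSmallEtale ξ).fiber.obj W) (a : W ⟶ U) (b : W ⟶ V),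
      (Scheme.pointSmallEtale ξ).fiber.map a w = x ∧ (Scheme.pointSmallEtale ξ).fiber.map b w = y := by
  obtain ⟨⟨W, w⟩, ⟨a, ha⟩, ⟨b, hb⟩, -⟩ := IsCofilteredOrEmpty.cone_objs
    (C := (Scheme.pointSmallEtale ξ).fiber.Elements) ⟨U, x⟩ ⟨V, y⟩
  exact ⟨W, w, a, b, ha, hb⟩

/-- The value on a pair of germs. -/
theorem exists_value (p : (EtCoh.stalk ξ).obj F) (q : (EtCoh.stalk ξ).obj G) :
    ∃! r : (EtCoh.stalk ξ).obj (tensor F G), ∀ (U : X.Etale) (x : (Scheme.pointSmallEtale ξ).fiber.obj U)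
      (s : EtCoh.sect F U) (g : EtCoh.sect G U), germ ξ F U x s = p → germ ξ G U x g = q →
        germ ξ (tensor F G) U x (tsec F G s g) = r := by
  have wd : ∀ {U U' : X.Etale} (x : (Scheme.pointSmallEtale ξ).fiber.obj U)
      (x' : (Scheme.pointSmallEtale ξ).fiber.obj U') (s : EtCoh.sect F U) (s' : EtCoh.sect F U')
      (g : EtCoh.sect G U) (g' : EtCoh.sect G U'), germ ξ F U x s = germ ξ F U' x' s' →
        germ ξ G U x g = germ ξ G U' x' g' →
          germ ξ (tensor F G) U x (tsec F G s g) = germ ξ (tensor F G) U' x' (tsec F G s' g') := by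
    intro U U' x x' s s' g g' hs hg
    obtain ⟨W, w, a, b, rfl, rfl⟩ := exists_cone ξ x x'
    have w_ : ∀ (H : EtCoh.Ab X) {A B : X.Etale} (c : A ⟶ B) (y : (Scheme.pointSmallEtale ξ).fiber.obj A)
        (t : EtCoh.sect H B), germ ξ H A y (H.obj.map c.op t) = germ ξ H B ((Scheme.pointSmallEtale ξ).fiber.map c y) t :=
      fun H A B c y t => (Scheme.pointSmallEtale ξ).toPresheafFiber_w_apply c y H.obj t
    rw [← w_ F a, ← w_ F b] at hs
    rw [← w_ G a, ← w_ G b] at hg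
    obtain ⟨W₁, c, w₁, rfl, hc⟩ := (germ_eq_iff ξ F W w _ _).1 hs
    rw [← w_ G c, ← w_ G c] at hg
    obtain ⟨W₂, d, w₂, rfl, hd⟩ := (germ_eq_iff ξ G W₁ w₁ _ _).1 hg
    rw [← w_ _ a, ← w_ _ b, ← w_ _ c, ← w_ _ c, ← w_ _ d, ← w_ _ d]
    simp only [map_tsec]
    rw [hd, hc]
  obtain ⟨U₁, x₁, s₁, rfl⟩ := germ_surjective ξ F p
  obtain ⟨U₂, x₂, g₂, rfl⟩ := germ_surjective ξ G q
  obtain ⟨W, w, a, b, rfl, rfl⟩ := exists_cone ξ x₁ x₂
  refine ⟨germ ξ (tensor F G) W w (tsec F G (F.obj.map a.op s₁) (G.obj.map b.op g₂)), fun U x s g hs hg => ?_,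
    fun r hr => (hr W w _ _ ((Scheme.pointSmallEtale ξ).toPresheafFiber_w_apply a w F.obj s₁)
      ((Scheme.pointSmallEtale ξ).toPresheafFiber_w_apply b w G.obj g₂)).symm⟩
  exact wd x w s _ g _ (hs.trans ((Scheme.pointSmallEtale ξ).toPresheafFiber_w_apply a w F.obj s₁).symm)
    (hg.trans ((Scheme.pointSmallEtale ξ).toPresheafFiber_w_apply b w G.obj g₂).symm)

/-- The value on a pair of germs. -/
noncomputable def value (p : (EtCoh.stalk ξ).obj F) (q : (EtCoh.stalk ξ).obj G) :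
    (EtCoh.stalk ξ).obj (tensor F G) :=
  (exists_value ξ F G p q).choose

theorem value_germ {U : X.Etale} (x : (Scheme.pointSmallEtale ξ).fiber.obj U) (s : EtCoh.sect F U)
    (g : EtCoh.sect G U) :
    value ξ F G (germ ξ F U x s) (germ ξ G U x g) = germ ξ (tensor F G) U x (tsec F G s g) :=
  ((exists_value ξ F G _ _).choose_spec.1 U x s g rfl rfl).symm

theorem exists_common_rep {H H' : EtCoh.Ab X} (p : (EtCoh.stalk ξ).obj H) (q : (EtCoh.stalk ξ).obj H') :
    ∃ (U : X.Etale) (x : (Scheme.pointSmallEtale ξ).fiber.obj U) (s : EtCoh.sect H U) (g : EtCoh.sect H' U),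
      germ ξ H U x s = p ∧ germ ξ H' U x g = q := by
  obtain ⟨U₁, x₁, s₁, rfl⟩ := germ_surjective ξ H p
  obtain ⟨U₂, x₂, g₂, rfl⟩ := germ_surjective ξ H' q
  obtain ⟨W, w, a, b, rfl, rfl⟩ := exists_cone ξ x₁ x₂
  exact ⟨W, w, _, _, (Scheme.pointSmallEtale ξ).toPresheafFiber_w_apply a w H.obj s₁,
    (Scheme.pointSmallEtale ξ).toPresheafFiber_w_apply b w H'.obj g₂⟩

theorem value_add_left (p p' : (EtCoh.stalk ξ).obj F) (q : (EtCoh.stalk ξ).obj G) :
    value ξ F G (p + p') q = value ξ F G p q + value ξ F G p' q := by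
  obtain ⟨U₁, x₁, s₁, g₁, hs₁, hg₁⟩ := exists_common_rep ξ p q
  obtain ⟨U₂, x₂, s₂, rfl⟩ := germ_surjective ξ F p'
  obtain ⟨W, w, a, b, rfl, rfl⟩ := exists_cone ξ x₁ x₂
  rw [← hs₁, ← hg₁, ← germ_res ξ F a w s₁,
    ← germ_res ξ F b w s₂,
    ← germ_res ξ G a w g₁]
  change value ξ F G (germ ξ F W w (F.obj.map a.op s₁) + germ ξ F W w (F.obj.map b.op s₂))
      (germ ξ G W w (G.obj.map a.op g₁)) =
    value ξ F G (germ ξ F W w (F.obj.map a.op s₁)) (germ ξ G W w (G.obj.map a.op g₁)) +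
      value ξ F G (germ ξ F W w (F.obj.map b.op s₂)) (germ ξ G W w (G.obj.map a.op g₁))
  rw [← map_add, value_germ, value_germ, value_germ, ← map_add, tsec_add_left]

theorem value_add_right (p : (EtCoh.stalk ξ).obj F) (q q' : (EtCoh.stalk ξ).obj G) :
    value ξ F G p (q + q') = value ξ F G p q + value ξ F G p q' := by
  obtain ⟨U₁, x₁, s₁, g₁, hs₁, hg₁⟩ := exists_common_rep ξ p q
  obtain ⟨U₂, x₂, g₂, rfl⟩ := germ_surjective ξ G q'
  obtain ⟨W, w, a, b, rfl, rfl⟩ := exists_cone ξ x₁ x₂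
  rw [← hs₁, ← hg₁, ← germ_res ξ F a w s₁,
    ← germ_res ξ G b w g₂,
    ← germ_res ξ G a w g₁]
  change value ξ F G (germ ξ F W w (F.obj.map a.op s₁))
      (germ ξ G W w (G.obj.map a.op g₁) + germ ξ G W w (G.obj.map b.op g₂)) =
    value ξ F G (germ ξ F W w (F.obj.map a.op s₁)) (germ ξ G W w (G.obj.map a.op g₁)) +
      value ξ F G (germ ξ F W w (F.obj.map a.op s₁)) (germ ξ G W w (G.obj.map b.op g₂))
  rw [← map_add, value_germ, value_germ, value_germ, ← map_add, tsec_add_right]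

/-- The comparison map. -/
noncomputable def psi : (EtCoh.stalk ξ).obj F ⊗[ℤ] (EtCoh.stalk ξ).obj G →+ (EtCoh.stalk ξ).obj (tensor F G) :=
  TensorProduct.liftAddHom
    (AddMonoidHom.mk' (fun p => AddMonoidHom.mk' (value ξ F G p) (value_add_right ξ F G p))
      fun p p' => AddMonoidHom.ext (value_add_left ξ F G p p'))
    (fun r p q => by
      exact (congrArg (fun f : (EtCoh.stalk ξ).obj G →+ _ => f q) (map_zsmul _ r p)).trans
        (map_zsmul (AddMonoidHom.mk' (value ξ F G p) (value_add_right ξ F G p)) r q).symm)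

theorem psi_tmul {U : X.Etale} (x : (Scheme.pointSmallEtale ξ).fiber.obj U) (s : EtCoh.sect F U)
    (g : EtCoh.sect G U) :
    psi ξ F G (germ ξ F U x s ⊗ₜ[ℤ] germ ξ G U x g) = germ ξ (tensor F G) U x (tsec F G s g) :=
  value_germ ξ F G x s g

theorem bijective_toSheafify (P : X.Etaleᵒᵖ ⥤ AddCommGrpCat.{u + 1}) :
    Function.Bijective ((Scheme.pointSmallEtale ξ).presheafFiber.map (toSheafify X.smallEtaleTopology P)) := by
  haveI : IsIso ((Scheme.pointSmallEtale ξ).presheafFiber.map (toSheafify X.smallEtaleTopology P)) :=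
    (Scheme.pointSmallEtale ξ).W_isInvertedBy_presheafFiber' _ (X.smallEtaleTopology.W_toSheafify P)
  exact ConcreteCategory.bijective_of_isIso _

theorem bijective_psi : Function.Bijective (psi ξ F G) := by
  let Φ := Scheme.pointSmallEtale ξ
  let P := EtTens.tensorObj F.obj G.obj
  let back : Φ.presheafFiber.obj P ⟶ AddCommGrpCat.of ((EtCoh.stalk ξ).obj F ⊗[ℤ] (EtCoh.stalk ξ).obj G) :=
    Φ.presheafFiberDesc (P := P)
      (fun U x => AddCommGrpCat.ofHom (TensorProduct.map (germ ξ F U x).hom.toIntLinearMap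
        (germ ξ G U x).hom.toIntLinearMap).toAddMonoidHom)
      (fun U V h x => EtTens.hom_ext_tmul fun m n => by
        exact congrArg₂ (fun a b => a ⊗ₜ[ℤ] b) (Φ.toPresheafFiber_w_apply h x F.obj m)
          (Φ.toPresheafFiber_w_apply h x G.obj n))
  have hback : ∀ (U : X.Etale) (x : Φ.fiber.obj U) (m : EtCoh.sect F U) (n : EtCoh.sect G U),
      back (Φ.toPresheafFiber U x P (m ⊗ₜ[ℤ] n)) = germ ξ F U x m ⊗ₜ[ℤ] germ ξ G U x n := fun U x m n =>
    ConcreteCategory.congr_hom (Φ.toPresheafFiber_presheafFiberDesc (P := P) _ _ U x) (m ⊗ₜ[ℤ] n)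
  let τ := Φ.presheafFiber.map (toSheafify X.smallEtaleTopology P)
  have hτ : ∀ (U : X.Etale) (x : Φ.fiber.obj U) (m : EtCoh.sect F U) (n : EtCoh.sect G U),
      τ (Φ.toPresheafFiber U x P (m ⊗ₜ[ℤ] n)) = germ ξ (tensor F G) U x (tsec F G m n) := fun U x m n =>
    Φ.toPresheafFiber_naturality_apply (toSheafify X.smallEtaleTopology P) U x (m ⊗ₜ[ℤ] n)
  have h1 : ∀ z, ∃ p, τ p = psi ξ F G z ∧ back p = z := by
    intro z
    induction z using TensorProduct.induction_on with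
    | zero => exact ⟨0, by rw [map_zero, map_zero], map_zero _⟩
    | tmul p q =>
      obtain ⟨U, x, s, g, rfl, rfl⟩ := exists_common_rep ξ p q
      exact ⟨Φ.toPresheafFiber U x P (s ⊗ₜ[ℤ] g), by rw [hτ, psi_tmul], hback U x s g⟩
    | add a b ha hb =>
      obtain ⟨p, hp1, hp2⟩ := ha
      obtain ⟨q, hq1, hq2⟩ := hb
      exact ⟨p + q, by rw [map_add, map_add, hp1, hq1], by rw [map_add, hp2, hq2]⟩
  refine ⟨fun z z' h => ?_, fun y => ?_⟩
  · obtain ⟨p, hp1, hp2⟩ := h1 z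
    obtain ⟨p', hp1', hp2'⟩ := h1 z'
    rw [← hp2, ← hp2', (bijective_toSheafify ξ P).1 (hp1.trans (h.trans hp1'.symm))]
  · obtain ⟨p, rfl⟩ := (bijective_toSheafify ξ P).2 y
    obtain ⟨U, x, z, rfl⟩ := Φ.toPresheafFiber_jointly_surjective p
    induction z using TensorProduct.induction_on with
    | zero => exact ⟨0, by rw [map_zero, map_zero, map_zero]⟩
    | tmul m n => exact ⟨germ ξ F U x m ⊗ₜ[ℤ] germ ξ G U x n, (psi_tmul ξ F G x m n).trans (hτ U x m n).symm⟩
    | add a b ha hb =>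
      obtain ⟨p, hp⟩ := ha
      obtain ⟨q, hq⟩ := hb
      exact ⟨p + q, by rw [map_add, hp, hq, map_add, map_add]⟩

end Groth.Agent.H15Site.Shriek.TensorStalk
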