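import Groth.Agent.H1DFun.TorsionAcyclic
import Groth.Agent.H1DFun.StalkCls
import Groth.Agent.H1DFun.RpushConst
import Groth.Agent.H1DFun.LimCls
import Groth.Agent.H18Et.EtaleRestrict
import Groth.Agent.H18Et.ConstSheaf

/-!
# Torsion sheaves embed in torsion sheaves acyclic for a given qcqs direct image
-/

set_option autoImplicit false
set_option linter.style.haveILetI false
set_option linter.unusedSectionVars false
set_option backward.isDefEq.respectTransparency false
set_option backward.isDefEq.respectTransparency.types false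

universe u

open CategoryTheory CategoryTheory.Limits AlgebraicGeometry Opposite
open Groth.Agent.H18Et Groth.Agent.H1Lim
open scoped Groth.Agent.H18Et Groth.Agent.H18Et.CohColim

namespace Groth.Agent.H15Site.Shriek

open Groth.Agent.H1DFun

attribute [local instance] Groth.Agent.H18Et.pull_preservesFiniteLimits

variable {X Y : Scheme.{u}}

/-- Torsion parts of injective sheaves stay acyclic on etale schemes. -/
theorem subsingleton_H_pull_kernel_nsmul {W : Scheme.{u}} (a : W ⟶ X) [Etale a] (J : EtCoh.Ab X)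
    [Injective J] (n : ℕ) (hn : n ≠ 0) (q : ℕ) :
    Subsingleton (Sheaf.H ((EtCoh.pull a).obj (kernel (n • 𝟙 J))) (q + 1)) := by
  haveI := H18Et.EtaleRestrict.injective_pull a J
  haveI : (EtCoh.pull a).Additive := inferInstance
  have h := subsingleton_H_kernel_nsmul ((EtCoh.pull a).obj J) n hn q
  let e : (EtCoh.pull a).obj (kernel (n • 𝟙 J)) ≅ kernel (n • 𝟙 ((EtCoh.pull a).obj J)) :=
    PreservesKernel.iso (EtCoh.pull a) (n • 𝟙 J) ≪≫ kernelIsoOfEq (by
      rw [Functor.map_nsmul, CategoryTheory.Functor.map_id])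
  refine Function.Injective.subsingleton (f := Sheaf.H.map e.hom (q + 1))
    (Function.LeftInverse.injective (g := Sheaf.H.map e.inv (q + 1)) fun x => ?_)
  rw [← Sheaf.H.map_comp_apply, Iso.hom_inv_id, Sheaf.H.map_id_apply]

/-- The torsion part of an injective sheaf is acyclic for qcqs direct images. -/
theorem isZero_Rpush_colimit_torSys (f : X ⟶ Y) [QuasiCompact f] [QuasiSeparated f] (J : EtCoh.Ab X)
    [Injective J] (q : ℕ) (hq : 0 < q) : IsZero ((EtCoh.Rpush f q).obj (colimit (torSys J))) := by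
  refine isZero_of_stalks _ fun Ω _ _ ξ => subsingleton_of_forall_eq 0 fun y => ?_
  obtain ⟨n, rfl⟩ : ∃ n, q = n + 1 := ⟨q - 1, by omega⟩
  obtain ⟨U, z, x, rfl⟩ := exists_toSect_germ f (colimit (torSys J)) (n + 1) ξ y
  obtain ⟨P, hP, i, z', hz'⟩ := H18Et.Cons.exists_affine_nbhd z
  haveI := hP
  haveI : CompactSpace ↥((𝟭 Scheme).obj ((EtCoh.bc f).obj P).left) := (H18Et.Coh.qcqs_bc f P).1
  haveI : QuasiSeparatedSpace ↥((𝟭 Scheme).obj ((EtCoh.bc f).obj P).left) := (H18Et.Coh.qcqs_bc f P).2
  haveI : Etale ((EtCoh.bc f).obj P).hom := ((EtCoh.bc f).obj P).prop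
  obtain ⟨j, t, ht⟩ := (cM_colim (((EtCoh.bc f).obj P).hom) (n + 1) (torSys J)).1
    (r0 f (colimit (torSys J)) (n + 1) i x)
  have hz := subsingleton_H_pull_kernel_nsmul ((EtCoh.bc f).obj P).hom J (tExp j) (Nat.factorial_pos _).ne' n
  have hx : r0 f (colimit (torSys J)) (n + 1) i x = 0 := by
    rw [← ht, @Subsingleton.elim _ hz t 0, map_zero]
  rw [← hz', ← H18Et.ConstSheaf.germ_map ξ _ i z']
  refine (congrArg _ ?_).trans (map_zero _)
  exact (toSect_map f (colimit (torSys J)) (n + 1) i x).trans ((congrArg _ hx).trans (map_zero _))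

/-- Torsion sheaves embed in torsion sheaves acyclic for a qcqs direct image. -/
theorem exists_mono_torsion_Rpush_acyclic (f : X ⟶ Y) [QuasiCompact f] [QuasiSeparated f]
    (F : EtCoh.Ab X) (hF : EtCoh.IsTorsion F) :
    ∃ (G : EtCoh.Ab X) (ι : F ⟶ G), Mono ι ∧ EtCoh.IsTorsion G ∧
      ∀ q, 0 < q → IsZero ((EtCoh.Rpush f q).obj G) := by
  let J := Injective.under F
  haveI := isIso_desc_torSys F hF
  let d : colimit (torSys F) ⟶ F := colimit.desc (torSys F) (torCocone F)
  haveI : IsIso d := this
  let a : colimit (torSys F) ⟶ colimit (torSys J) := colimMap (torSysMap (Injective.ι F))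
  have ha : a ≫ colimit.desc (torSys J) (torCocone J) = d ≫ Injective.ι F := colimit.hom_ext fun j => by
    simp only [a, d, ι_colimMap_assoc, colimit.ι_desc, colimit.ι_desc_assoc]
    exact kernel.lift_ι _ _ _
  haveI : Mono (a ≫ colimit.desc (torSys J) (torCocone J)) := by rw [ha]; infer_instance
  haveI : Mono a := mono_of_mono a (colimit.desc (torSys J) (torCocone J))
  exact ⟨colimit (torSys J), inv d ≫ a, inferInstance, isTorsion_colimit_torSys J,
    fun q hq => isZero_Rpush_colimit_torSys f J q hq⟩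

end Groth.Agent.H15Site.Shriek
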