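import Groth.Agent.H15Site.Shriek.ProperLqf
import Groth.Agent.H1DFun.PBCTorsion
import Groth.Agent.H1DFun.EfaceClosed

/-!
# From base change on stalks to the base change morphisms

The isomorphisms of stalks of `StalkBC` imply that the base change morphisms `EtBC.bcQ` are isomorphisms:
it is enough that the inverse images of injective sheaves of `ℤ/ℓ`-modules be acyclic, and this can be
tested on geometric fibres.
-/

set_option autoImplicit false
set_option linter.style.haveILetI false
set_option linter.unusedSectionVars false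
set_option backward.isDefEq.respectTransparency false
set_option backward.isDefEq.respectTransparency.types false

universe u

open CategoryTheory CategoryTheory.Limits AlgebraicGeometry Opposite
open scoped Groth.Agent.H18Et

namespace Groth.Agent.H15Site.Shriek

attribute [local instance] Groth.Agent.H18Et.pull_preservesFiniteLimits

/-- Higher direct images of sheaves injective among sheaves killed by `ℓ` vanish. -/
theorem isZero_Rpush_lInj {T S : Scheme.{u}} (g : T ⟶ S) {ℓ : ℕ} (I : EtCoh.Ab T) (hI : EtCoh.KilledBy ℓ I)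
    (hinj : H1DFun.LInj ℓ I) (q : ℕ) (hq : 0 < q) : IsZero ((EtCoh.Rpush g q).obj I) := by
  obtain ⟨q, rfl⟩ := Nat.exists_eq_succ_of_ne_zero hq.ne'
  obtain ⟨G, ι, hι, hG, hz⟩ := H1DFun.exists_efface hI
  obtain ⟨r, hr⟩ := hinj I hI (𝟙 I) ι hG hι
  rw [IsZero.iff_id_eq_zero, ← CategoryTheory.Functor.map_id, ← hr, Functor.map_comp,
    (hz S g q).eq_zero_of_tgt ((EtCoh.Rpush g (q + 1)).map ι), zero_comp]

/-- Vanishing on the geometric fibres passes to base changes. -/
theorem isZero_Rpush_pull {X S Y T : Scheme.{u}} (hbc : StalkBC.{u}) (g : T ⟶ S) [IsProper g] (h : Y ⟶ X)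
    (f : X ⟶ S) (e : Y ⟶ T) (sq : IsPullback e h g f) (F : EtCoh.Ab T) (hF : EtCoh.IsTorsion F) (q : ℕ)
    (hz : IsZero ((EtCoh.Rpush g q).obj F)) :
    IsZero ((EtCoh.Rpush h q).obj ((EtCoh.pull e).obj F)) := by
  haveI : IsProper h := MorphismProperty.of_isPullback sq inferInstance
  refine H1DFun.isZero_of_stalks _ fun Ω _ _ η => ?_
  obtain ⟨e₁⟩ := hbc h η _ (H18Et.Coh.isTorsion_pull e F hF) q
  suffices h' : Subsingleton (EtCoh.H (pullback h η)
      ((EtCoh.pull (pullback.fst h η)).obj ((EtCoh.pull e).obj F)) q) from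
    @Equiv.subsingleton _ _ e₁.addCommGroupIsoToAddEquiv.toEquiv h'
  obtain ⟨e₂⟩ := hbc g (η ≫ f) F hF q
  have h0 : Subsingleton (EtCoh.H (pullback g (η ≫ f)) ((EtCoh.pull (pullback.fst g (η ≫ f))).obj F) q) :=
    @Equiv.subsingleton _ _ e₂.addCommGroupIsoToAddEquiv.symm.toEquiv
      (AddCommGrpCat.subsingleton_of_isZero ((EtCoh.stalk (η ≫ f)).map_isZero hz))
  have hpb : IsPullback (pullback.fst h η ≫ e) (pullback.snd h η) g (η ≫ f) :=
    (IsPullback.of_hasPullback h η).paste_horiz sq
  let i := hpb.isoPullback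
  have h1 := (subsingleton_H_iff_surjective_closed i.hom _ q).1 h0
  have hfst : i.hom ≫ pullback.fst g (η ≫ f) = pullback.fst h η ≫ e := hpb.isoPullback_hom_fst
  exact subsingleton_H_of_iso (((EtCore.pullComp i.hom (pullback.fst g (η ≫ f))).app F).symm ≪≫
    eqToIso (by rw [hfst]) ≪≫ (EtCore.pullComp (pullback.fst h η) e).app F) q h1

/-- **The base change morphisms of a proper morphism are isomorphisms on torsion sheaves**, given
base change on stalks. -/
theorem isIso_bcQ (hbc : StalkBC.{u}) {X S Y T : Scheme.{u}} (g : T ⟶ S) [IsProper g] (f : X ⟶ S) (h : Y ⟶ X)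
    (e : Y ⟶ T) (sq : IsPullback e h g f) (q : ℕ) (F : EtCoh.Ab T) (hF : EtCoh.IsTorsion F) :
    IsIso (EtBC.bcQ g f h e sq.w q F) :=
  H1DFun.isIso_bcQ_of_acyclic f g h e (fun _ℓ hℓ I hI hinj q hq => isZero_Rpush_pull hbc g h f e sq I
    (H1DFun.isTorsion_of_nsmul_id hℓ.pos ((H1DFun.killedBy_iff_nsmul_id _ I).1 hI)) q
    (isZero_Rpush_lInj g I hI hinj q hq)) sq q F hF

end Groth.Agent.H15Site.Shriek
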