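import Groth.Agent.H15Site.Shriek.CdShriek
import Groth.Agent.H7Lim.FibreDimDescend
import Groth.Agent.H8Props.FibreDimSemicont
import Groth.Agent.H06EGA12.GeomRkLocus

/-!
# Cohomological dimension of proper morphisms, given base change on stalks
-/

set_option autoImplicit false
set_option linter.style.haveILetI false
set_option linter.unusedSectionVars false
set_option backward.isDefEq.respectTransparency false
set_option backward.isDefEq.respectTransparency.types false

universe u

open CategoryTheory CategoryTheory.Limits AlgebraicGeometry Opposite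
open scoped Groth.Agent.H18Et

namespace Groth.Agent.H15Site.Shriek

attribute [local instance] Groth.Agent.H18Et.pull_preservesFiniteLimits

/-- `R^q p_*` vanishes above twice the dimension of the fibres, for `p` proper. -/
theorem isZero_Rpush_of_dim (hbc : StalkBC.{u}) {P S : Scheme.{u}} (p : P ⟶ S) [IsProper p] (d : ℕ)
    (hdim : ∀ s : S, topologicalKrullDim (p.fiber s) ≤ d) (F : EtCoh.Ab P) (hF : EtCoh.IsTorsion F) (i : ℕ)
    (hi : 2 * d < i) : IsZero ((EtCoh.Rpush p i).obj F) := by
  refine H1DFun.isZero_of_stalks _ fun Ω _ _ ξ => ?_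
  obtain ⟨e⟩ := hbc p ξ F hF i
  suffices h : Subsingleton (EtCoh.H (pullback p ξ) ((EtCoh.pull (pullback.fst p ξ)).obj F) i) from
    @Equiv.subsingleton _ _ e.addCommGroupIsoToAddEquiv.toEquiv h
  let π := pullback.snd p ξ
  have hd : topologicalKrullDim ↥(pullback p ξ) ≤ d := by
    let y' : ↥(Spec (CommRingCat.of Ω)) := default
    have h1 := H8Props.FieldDim.dim_fiber_baseChange p (IsPullback.of_hasPullback p ξ) y'
    have h2 : IsHomeomorph (π.fiberι y') := by
      refine isHomeomorph_iff_isEmbedding_surjective.2 ⟨(π.fiberι y').isEmbedding, fun z => ?_⟩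
      exact (π.range_fiberι y').symm.subset (Subsingleton.elim _ _)
    rw [← h2.topologicalKrullDim_eq, h1]
    exact hdim _
  exact H18RelCd.cohDimLE_of_dim_le π hd _ (H18Et.Coh.isTorsion_pull (pullback.fst p ξ) F hF) i hi

/-- The dimensions of the fibres of a morphism locally of finite type on a quasi-compact scheme are bounded. -/
theorem exists_dim_bound {P S : Scheme.{u}} (p : P ⟶ S) [LocallyOfFiniteType p] [CompactSpace P] :
    ∃ d : ℕ, ∀ s : S, topologicalKrullDim (p.fiber s) ≤ d := by
  choose δ hδ using H06EGA12.exists_fibreDimAt_eq p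
  obtain ⟨t, ht⟩ := isCompact_univ.elim_finite_subcover (fun n : ℕ => {x : P | FlatMor.fibreDimAt p x ≤ n})
    (fun n => H8Props.FieldDim.isOpen_fibreDimAt_le p n) (fun x _ => Set.mem_iUnion.2 ⟨δ x, (hδ x).le⟩)
  refine ⟨t.sup id, fun s => H7Lim.dim_fiber_le_of_forall p s _ fun x => ?_⟩
  obtain ⟨n, hn, hx⟩ := Set.mem_iUnion₂.1 (ht (Set.mem_univ x))
  exact le_trans (hx : FlatMor.fibreDimAt p x ≤ n) (by exact_mod_cast Finset.le_sup (f := id) hn)

end Groth.Agent.H15Site.Shriek
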