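import Groth.Agent.H15Site.Shriek.EtaleIso
import Mathlib.CategoryTheory.Limits.Preserves.Shapes.Products

/-!
# `f_!` commutes with direct sums
-/

set_option autoImplicit false
set_option linter.style.haveILetI false
set_option linter.overlappingInstances false
set_option linter.unusedSectionVars false
set_option backward.isDefEq.respectTransparency false
set_option backward.isDefEq.respectTransparency.types false

universe u

open CategoryTheory CategoryTheory.Limits AlgebraicGeometry Opposite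

namespace Groth.Agent.H15Site.Shriek

open Groth.Agent.H18Et Groth.Agent.H18Et.AffineCriterion EtShriek

theorem coprod_elem' {ι : Type (u + 1)} (M : ι → AddCommGrpCat.{u + 1}) (x : ↑(∐ M)) :
    ∃ (s : Finset ι) (a : ∀ i, M i), x = ∑ i ∈ s, Sigma.ι M i (a i) := by
  classical
  let φ : ∐ M ⟶ AddCommGrpCat.of (Π₀ i, M i) :=
    Sigma.desc fun i => AddCommGrpCat.ofHom (DFinsupp.singleAddHom (fun i => M i) i)
  let ψ : AddCommGrpCat.of (Π₀ i, M i) ⟶ ∐ M :=
    AddCommGrpCat.ofHom (DFinsupp.sumAddHom fun i => (Sigma.ι M i).hom)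
  have h : φ ≫ ψ = 𝟙 _ := Sigma.hom_ext _ _ fun i => by
    rw [Sigma.ι_desc_assoc, Category.comp_id]
    ext a
    exact DFinsupp.sumAddHom_single (fun i => (Sigma.ι M i).hom) i a
  let p : Π₀ i, M i := φ x
  refine ⟨p.support, fun i => p i, ?_⟩
  conv_lhs => rw [← ConcreteCategory.id_apply (X := ∐ M) x, ← h, ConcreteCategory.comp_apply]
  exact DFinsupp.sumAddHom_apply _ p

variable {X Y : Scheme.{u}} {ι : Type (u + 1)} (F : ι → EtCoh.Ab X)

/-- The stalks commute with sums. -/
theorem stalk_elem {Ω : Type u} [Field Ω] [IsSepClosed Ω] (ξ : Spec (CommRingCat.of Ω) ⟶ X)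
    (p : (EtCoh.stalk ξ).obj (∐ F)) :
    ∃ (S : Finset ι) (a : ∀ i, (EtCoh.stalk ξ).obj (F i)),
      p = ∑ i ∈ S, (EtCoh.stalk ξ).map (Sigma.ι F i) (a i) := by
  haveI : PreservesColimitsOfShape (Discrete ι) (EtCoh.stalk ξ) :=
    (ExtZeroStalk.skyAdj ξ).leftAdjoint_preservesColimits.preservesColimitsOfShape
  let e := PreservesCoproduct.iso (EtCoh.stalk ξ) F
  obtain ⟨S, a, h⟩ := coprod_elem' _ (e.hom p)
  refine ⟨S, a, ?_⟩
  have h' := congrArg e.inv h
  rw [Iso.hom_inv_id_apply, map_sum] at h'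
  refine h'.trans (Finset.sum_congr rfl fun i _ => ?_)
  rw [← ConcreteCategory.comp_apply]
  refine ConcreteCategory.congr_hom ?_ (a i)
  rw [PreservesCoproduct.inv_hom]
  exact ι_comp_sigmaComparison (EtCoh.stalk ξ) F i

theorem stalk_ι_π_ne {Ω : Type u} [Field Ω] [IsSepClosed Ω] (ξ : Spec (CommRingCat.of Ω) ⟶ X) [DecidableEq ι]
    {i j : ι} (h : i ≠ j) (a : (EtCoh.stalk ξ).obj (F i)) :
    (EtCoh.stalk ξ).map (Sigma.π F j) ((EtCoh.stalk ξ).map (Sigma.ι F i) a) = 0 := by
  rw [← ConcreteCategory.comp_apply, ← Functor.map_comp, Sigma.ι_π_of_ne _ h, Functor.map_zero]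
  rfl

/-- A section of a sum vanishing in every factor is zero. -/
theorem eq_zero_of_proj [DecidableEq ι] {U : X.Etale} (s : EtCoh.sect (∐ F) U)
    (h : ∀ i, (Sigma.π F i).hom.app (op U) s = 0) : s = 0 := by
  refine sect_ext _ _ fun Ω _ _ ξ z => ?_
  refine Eq.trans ?_ (map_zero (germ ξ (∐ F) U z).hom).symm
  obtain ⟨S, a, ha⟩ := stalk_elem F ξ (germ ξ (∐ F) U z s)
  refine ha.trans (Finset.sum_eq_zero fun i hi => ?_)
  have h0 : (EtCoh.stalk ξ).map (Sigma.π F i) (germ ξ (∐ F) U z s) = 0 := by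
    refine (germ_naturality ξ (Sigma.π F i) U z s).trans ?_
    rw [h i, map_zero]
  rw [ha, map_sum, Finset.sum_eq_single i (fun j _ hji => stalk_ι_π_ne F ξ hji _) (fun hn => absurd hi hn),
    ← ConcreteCategory.comp_apply, ← Functor.map_comp, Sigma.ι_π_eq_id, CategoryTheory.Functor.map_id] at h0
  rw [show a i = 0 from h0, map_zero]

/-- A section of a sum vanishes in almost all factors, locally. -/
theorem exists_finite_support [DecidableEq ι] {U : X.Etale} (s : EtCoh.sect (∐ F) U) (x : U.left) :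
    ∃ (S : Finset ι) (O : U.left.Opens), x ∈ O ∧
      ∀ i ∉ S, ∀ y ∈ O, y ∉ sectSupp (F i) U ((Sigma.π F i).hom.app (op U) s) := by
  let ξ := geomPt (U.hom.base x)
  obtain ⟨z, hz⟩ := exists_fiber_over x ξ (geomPt_base (U.hom.base x))
  let Q : (EtCoh.stalk ξ).obj (∐ F) → Prop := fun p =>
    ∃ (W : X.Etale) (w : (Scheme.pointSmallEtale ξ).fiber.obj W) (t : EtCoh.sect (∐ F) W) (S : Finset ι),
      germ ξ (∐ F) W w t = p ∧ ∀ i ∉ S, (Sigma.π F i).hom.app (op W) t = 0
  have hQι : ∀ i a, Q ((EtCoh.stalk ξ).map (Sigma.ι F i) a) := fun i a => by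
    obtain ⟨W, w, t, rfl⟩ := germ_surjective ξ (F i) a
    refine ⟨W, w, (Sigma.ι F i).hom.app (op W) t, {i}, (germ_naturality ξ (Sigma.ι F i) W w t).symm, fun k hk => ?_⟩
    have := congrArg (fun φ : F i ⟶ F k => φ.hom.app (op W) t)
      (Sigma.ι_π_of_ne F (b := i) (c := k) (fun e => hk (by simp [e])))
    exact this
  have hQ0 : Q 0 := ⟨U, z, 0, ∅, map_zero _, fun i _ => map_zero _⟩
  have hQadd : ∀ p q, Q p → Q q → Q (p + q) := by
    rintro _ _ ⟨W, w, t, S, rfl, hS⟩ ⟨W', w', t', S', rfl, hS'⟩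
    obtain ⟨⟨Z, ζ⟩, ⟨a, ha⟩, ⟨b, hb⟩, -⟩ := IsCofilteredOrEmpty.cone_objs
      (C := (Scheme.pointSmallEtale ξ).fiber.Elements) ⟨W, w⟩ ⟨W', w'⟩
    dsimp at a b ha hb
    refine ⟨Z, ζ, (∐ F).obj.map a.op t + (∐ F).obj.map b.op t', S ∪ S', ?_, fun i hi => ?_⟩
    · rw [map_add, ← ha, ← hb]
      exact congrArg₂ (· + ·) ((Scheme.pointSmallEtale ξ).toPresheafFiber_w_apply a ζ (∐ F).obj t)
        ((Scheme.pointSmallEtale ξ).toPresheafFiber_w_apply b ζ (∐ F).obj t')
    · simp only [Finset.mem_union, not_or] at hi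
      have e1 := ConcreteCategory.congr_hom ((Sigma.π F i).hom.naturality a.op) t
      have e2 := ConcreteCategory.congr_hom ((Sigma.π F i).hom.naturality b.op) t'
      simp only [ConcreteCategory.comp_apply] at e1 e2
      rw [map_add, e1, e2, hS i hi.1, hS' i hi.2, map_zero, map_zero, add_zero]
  obtain ⟨S₀, a, ha⟩ := stalk_elem F ξ (germ ξ (∐ F) U z s)
  obtain ⟨W, w, t, S, hwt, hS⟩ : Q (germ ξ (∐ F) U z s) := by
    rw [ha]
    exact Finset.sum_induction _ Q hQadd hQ0 fun i _ => hQι i (a i)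
  obtain ⟨Z, c, b, ζ, hb, hc⟩ := germ_eq_germ ξ (∐ F) z w s t hwt
  haveI := etale_left b
  refine ⟨S, ⟨Set.range b.left.base, b.left.isOpenMap.isOpen_range⟩, ?_, ?_⟩
  · exact ⟨ptOf ζ, (ptOf_map b ζ).trans ((congrArg ptOf hb).trans hz)⟩
  · rintro i hi _ ⟨q, rfl⟩ hq
    refine hq Z b ⟨q, rfl⟩ ?_
    have e1 := ConcreteCategory.congr_hom ((Sigma.π F i).hom.naturality b.op) s
    have e2 := ConcreteCategory.congr_hom ((Sigma.π F i).hom.naturality c.op) t
    simp only [ConcreteCategory.comp_apply] at e1 e2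
    rw [← e1, ← hc, e2, hS i hi, map_zero]

variable (f : X ⟶ Y) [LocallyOfFiniteType f]

instance shriek_preservesZero : (shriek f).PreservesZeroMorphisms where
  map_zero F G := by
    ext V t
    exact Subtype.ext rfl

/-- The comparison map. -/
noncomputable abbrev comparison : (∐ fun i => (shriek f).obj (F i)) ⟶ (shriek f).obj (∐ F) :=
  sigmaComparison (shriek f) F

theorem comparison_π [DecidableEq ι] (i : ι) :
    comparison F f ≫ (shriek f).map (Sigma.π F i) = Sigma.π (fun i => (shriek f).obj (F i)) i := by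
  refine Sigma.hom_ext _ _ fun k => ?_
  rw [ι_comp_sigmaComparison_assoc, ← Functor.map_comp]
  rcases eq_or_ne k i with rfl | h
  · rw [Sigma.ι_π_eq_id, Sigma.ι_π_eq_id, CategoryTheory.Functor.map_id]
  · rw [Sigma.ι_π_of_ne _ h, Sigma.ι_π_of_ne _ h, Functor.map_zero]

theorem mono_comparison : Mono (comparison F f) := by
  classical
  refine Sheaf.mono_of_injective (comparison F f) fun U x y h => ?_
  induction U using Opposite.rec with
  | op U =>
    rw [← sub_eq_zero]
    refine eq_zero_of_proj (fun i => (shriek f).obj (F i)) _ fun i => ?_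
    rw [← comparison_π F f i, map_sub]
    show ((shriek f).map (Sigma.π F i)).hom.app (op U) ((comparison F f).hom.app (op U) x) -
      ((shriek f).map (Sigma.π F i)).hom.app (op U) ((comparison F f).hom.app (op U) y) = 0
    rw [h, sub_self]

theorem isProperOver_compact {P V : Scheme.{u}} {p : P ⟶ V} {Z : Set P} (h : ClSub.IsProperOver p Z)
    {K : Set V} (hK : IsCompact K) : IsCompact (p ⁻¹' K ∩ Z) := by
  obtain ⟨T, i, hi, hr, hp, -⟩ := Groth.Agent.LeadProper.exists_closedSubscheme h
  haveI := hp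
  have hc : IsCompact ((i ≫ p) ⁻¹' K) := (i ≫ p).isProperMap.isCompact_preimage hK
  have := hc.image i.continuous
  convert this using 1
  rw [← hr]
  ext q
  constructor
  · rintro ⟨hq, a, rfl⟩; exact ⟨a, hq, rfl⟩
  · rintro ⟨a, ha, rfl⟩; exact ⟨ha, a, rfl⟩

theorem epi_comparison : Epi (comparison F f) := by
  classical
  haveI : Sheaf.IsLocallySurjective (comparison F f) := ⟨fun {V} t => by
    refine mem_topology_of_forall_point _ fun v => ?_
    obtain ⟨K, hK, hvK, -⟩ := exists_isAffineOpen_mem_and_subset (x := v) (U := (⊤ : V.left.Opens)) trivial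
    have hZ := (mem_iff f (∐ F) t.1).1 t.2
    have hcpt := isProperOver_compact hZ hK.isCompact
    choose S O hO hS using fun x : ((EtCoh.bc f).obj V).left => exists_finite_support F t.1 x
    obtain ⟨T, -, hTf, hT⟩ := hcpt.elim_finite_subcover_image (b := Set.univ)
      (c := fun x => (O x : Set _)) (fun x _ => (O x).2) (fun x _ => Set.mem_iUnion₂.2 ⟨x, trivial, hO x⟩)
    let S' : Finset ι := hTf.toFinset.biUnion S
    let V' := openObj V K
    let g : V' ⟶ V := openHom V K
    let t' : EtCoh.sect ((shriek f).obj (∐ F)) V' := ((shriek f).obj (∐ F)).obj.map g.op t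
    refine ⟨V', g, ⟨v, hvK⟩, ⟨∑ i ∈ S', (Sigma.ι (fun i => (shriek f).obj (F i)) i).hom.app (op V')
      (((shriek f).map (Sigma.π F i)).hom.app (op V') t'), ?_⟩, rfl⟩
    show (comparison F f).hom.app (op V') _ = t'
    refine Subtype.ext (sub_eq_zero.1 (eq_zero_of_proj F _ fun k => ?_))
    rw [map_sub, sub_eq_zero]
    change (((shriek f).map (Sigma.π F k)).hom.app (op V') ((comparison F f).hom.app (op V') _)).1 =
      (((shriek f).map (Sigma.π F k)).hom.app (op V') t').1
    refine congrArg Subtype.val ?_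
    rw [← ConcreteCategory.comp_apply]
    erw [show (comparison F f).hom.app (op V') ≫ ((shriek f).map (Sigma.π F k)).hom.app (op V') =
      (Sigma.π (fun i => (shriek f).obj (F i)) k).hom.app (op V') from
        congrArg (fun φ : (∐ fun i => (shriek f).obj (F i)) ⟶ (shriek f).obj (F k) => φ.hom.app (op V')) (comparison_π F f k)]
    rw [map_sum]
    by_cases hk : k ∈ S'
    · rw [Finset.sum_eq_single k]
      · exact congrArg (fun φ : (shriek f).obj (F k) ⟶ (shriek f).obj (F k) =>
          φ.hom.app (op V') (((shriek f).map (Sigma.π F k)).hom.app (op V') t')) (Sigma.ι_π_eq_id (fun i => (shriek f).obj (F i)) k)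
      · intro i _ hik
        exact congrArg (fun φ : (shriek f).obj (F i) ⟶ (shriek f).obj (F k) =>
          φ.hom.app (op V') (((shriek f).map (Sigma.π F i)).hom.app (op V') t')) (Sigma.ι_π_of_ne (fun i => (shriek f).obj (F i)) hik)
      · exact fun h => absurd hk h
    · have h0 : ((shriek f).map (Sigma.π F k)).hom.app (op V') t' = 0 := by
        refine Subtype.ext (S0728.eq_zero_of_supp_empty (F k) _ fun q hq => ?_)
        have e : ((Sigma.π F k).hom.app _ ((∐ F).obj.map ((EtCoh.bc f).map g).op t.1)) =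
            (F k).obj.map ((EtCoh.bc f).map g).op ((Sigma.π F k).hom.app _ t.1) :=
          ConcreteCategory.congr_hom ((Sigma.π F k).hom.naturality ((EtCoh.bc f).map g).op) t.1
        have hq' : q ∈ sectSupp (F k) _ ((F k).obj.map ((EtCoh.bc f).map g).op ((Sigma.π F k).hom.app _ t.1)) :=
          e ▸ hq
        rw [sectSupp_map] at hq'
        have hqZ : ((EtCoh.bc f).map g).left q ∈ sectSupp (∐ F) _ t.1 := sectSupp_map_subset _ _ _ hq'
        have hqK : prV f V (((EtCoh.bc f).map g).left q) ∈ (K : Set V.left) := by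
          rw [← Scheme.Hom.comp_apply, (isPullback_bc f g).w, Scheme.Hom.comp_apply]
          exact (prV f V' q).2
        obtain ⟨x, hxT, hx⟩ := Set.mem_iUnion₂.1 (hT ⟨hqK, hqZ⟩)
        exact hS x k (fun h => hk (Finset.mem_biUnion.2 ⟨x, hTf.mem_toFinset.2 hxT, h⟩)) _ hx hq'
      rw [h0]
      refine Finset.sum_eq_zero fun i hi => ?_
      exact congrArg (fun φ : (shriek f).obj (F i) ⟶ (shriek f).obj (F k) =>
          φ.hom.app (op V') (((shriek f).map (Sigma.π F i)).hom.app (op V') t'))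
        (Sigma.ι_π_of_ne (fun i => (shriek f).obj (F i)) (fun e : i = k => hk (e ▸ hi)))⟩
  exact Sheaf.epi_of_isLocallySurjective _

theorem preservesCoproducts (ι : Type (u + 1)) : PreservesColimitsOfShape (Discrete ι) (shriek f) where
  preservesColimit {K} := by
    let F : ι → EtCoh.Ab X := fun i => K.obj ⟨i⟩
    haveI := mono_comparison F f
    haveI := epi_comparison F f
    haveI : IsIso (sigmaComparison (shriek f) F) := isIso_of_mono_of_epi (comparison F f)
    haveI : PreservesColimit (Discrete.functor (K.obj ∘ Discrete.mk)) (shriek f) :=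
      PreservesCoproduct.of_iso_comparison (shriek f) F
    exact preservesColimit_of_iso_diagram _ (Discrete.natIsoFunctor (F := K)).symm

theorem preservesCoproducts_small (ι : Type u) : PreservesColimitsOfShape (Discrete ι) (shriek f) :=
  haveI := preservesCoproducts f (ULift.{u + 1} ι)
  preservesColimitsOfShape_of_equiv (Discrete.equivalence Equiv.ulift) (shriek f)

end Groth.Agent.H15Site.Shriek
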