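import Groth.Agent.H15Site.Shriek.BaseChangeMain
import Groth.Agent.S0687

/-!
# Stalks of direct images with proper support as sections with compact support
-/

set_option autoImplicit false
set_option linter.style.haveILetI false
set_option linter.overlappingInstances false
set_option linter.unusedSectionVars false
set_option backward.isDefEq.respectTransparency false
set_option backward.isDefEq.respectTransparency.types false

universe u

open CategoryTheory CategoryTheory.Limits AlgebraicGeometry Opposite
open scoped Groth.Agent.H18Et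

namespace Groth.Agent.H15Site.Shriek

open Groth.Agent.H18Et EtShriek

/-- Sections with proper support over the base field are the compactly supported sections. -/
theorem nonempty_shriekTop_equiv {k : Type u} [Field k] {X : Scheme.{u}} (p : X ⟶ Spec (CommRingCat.of k))
    [IsSeparated p] [LocallyOfFiniteType p] (F : EtCoh.Ab X) :
    Nonempty ((shriekSubgroup p F (EtCoh.top (Spec (CommRingCat.of k)))) ≃+ (EtShriek.H0c p F)) := by
  let S := Spec (CommRingCat.of k)
  let φ : EtCoh.sect F ((EtCoh.bc p).obj (EtCoh.top S)) ≃+ EtCoh.sect F (EtCoh.top X) :=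
    (F.obj.mapIso (EtCore.bcTopIso p).op.symm).addCommGroupIsoToAddEquiv
  have hsq : IsPullback (EtCore.bcTopIso p).inv.left p
      (prV p (EtCoh.top S)) (𝟙 S) := by
    haveI : IsIso (EtCore.bcTopIso p).inv.left :=
      inferInstanceAs (IsIso ((Scheme.Etale.forget X ⋙ CategoryTheory.Over.forget X).map (EtCore.bcTopIso p).inv))
    haveI : IsIso (𝟙 S) := IsIso.id S
    refine IsPullback.of_horiz_isIso ⟨?_⟩
    have h1 := pullback.condition (f := (EtCoh.top S).hom) (g := p)
    have h2 := MorphismProperty.Over.w (EtCore.bcTopIso p).inv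
    calc (EtCore.bcTopIso p).inv.left ≫ pullback.fst (EtCoh.top S).hom p
        = (EtCore.bcTopIso p).inv.left ≫ (pullback.fst (EtCoh.top S).hom p ≫ (EtCoh.top S).hom) :=
          congrArg (_ ≫ ·) (Category.comp_id _).symm
      _ = ((EtCore.bcTopIso p).inv.left ≫ pullback.snd (EtCoh.top S).hom p) ≫ p := by
          rw [h1, Category.assoc]
      _ = 𝟙 X ≫ p := congrArg (· ≫ p) h2
      _ = p ≫ 𝟙 S := by rw [Category.id_comp, Category.comp_id]
  have hsq' : IsPullback (EtCore.bcTopIso p).hom.left (prV p (EtCoh.top S)) p (𝟙 S) := by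
    haveI : IsIso (EtCore.bcTopIso p).hom.left :=
      inferInstanceAs (IsIso ((Scheme.Etale.forget X ⋙ CategoryTheory.Over.forget X).map (EtCore.bcTopIso p).hom))
    haveI : IsIso (𝟙 S) := IsIso.id S
    refine IsPullback.of_horiz_isIso ⟨?_⟩
    have h1 : (EtCore.bcTopIso p).inv.left ≫ prV p (EtCoh.top S) = p :=
      hsq.w.trans (Category.comp_id _)
    have h2 : (EtCore.bcTopIso p).hom.left ≫ (EtCore.bcTopIso p).inv.left = 𝟙 _ :=
      congrArg (fun k => k.left) (EtCore.bcTopIso p).hom_inv_id
    calc (EtCore.bcTopIso p).hom.left ≫ p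
        = (EtCore.bcTopIso p).hom.left ≫ (EtCore.bcTopIso p).inv.left ≫ prV p (EtCoh.top S) :=
          congrArg (_ ≫ ·) h1.symm
      _ = ((EtCore.bcTopIso p).hom.left ≫ (EtCore.bcTopIso p).inv.left) ≫ prV p (EtCoh.top S) :=
          (Category.assoc _ _ _).symm
      _ = prV p (EtCoh.top S) := (congrArg (· ≫ _) h2).trans (Category.id_comp _)
      _ = prV p (EtCoh.top S) ≫ 𝟙 S := (Category.comp_id _).symm
  have hH0 : ∀ s, s ∈ EtShriek.H0c p F ↔
      ClSub.IsProperOver p (sectSupp F (EtCoh.top X) s) := by
    intro s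
    refine ⟨fun h => ?_, fun h => AddSubgroup.subset_closure ⟨_, subset_rfl, h⟩⟩
    induction h using AddSubgroup.closure_induction with
    | mem x hx => exact (Groth.Agent.H15Site.Shriek.hasProperSupport_iff F _ x).1 hx
    | zero =>
      rw [Groth.Agent.H15Site.Shriek.sectSupp_zero]
      exact Groth.Agent.H15Site.Shriek.isProperOver_empty _
    | add a b _ _ ha hb =>
      refine Groth.Agent.LeadProper.isProperOver_mono
        (Groth.Agent.LeadProper.isProperOver_iUnion _ (fun t : Bool => bif t then sectSupp F (EtCoh.top X) a else sectSupp F (EtCoh.top X) b)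
          (fun t => by cases t <;> assumption)) (Groth.Agent.H18Et.isClosed_sectSupp F (EtCoh.top X) _) fun x hx => ?_
      by_contra hn
      simp only [Set.mem_iUnion, Bool.exists_bool, cond_true, cond_false, not_or] at hn
      have h0 : x ∉ sectSupp F (EtCoh.top X) (0 - b) := Groth.Agent.S0728.notMem_supp_sub F (U := EtCoh.top X) _ _ x
        (by rw [Groth.Agent.H15Site.Shriek.sectSupp_zero]; simp) hn.1
      exact Groth.Agent.S0728.notMem_supp_sub F (U := EtCoh.top X) a (0 - b) x hn.2 h0 (by simpa using hx)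
    | neg a _ ha =>
      refine Groth.Agent.LeadProper.isProperOver_mono ha (Groth.Agent.H18Et.isClosed_sectSupp F (EtCoh.top X) _) fun x hx => ?_
      by_contra hn
      exact Groth.Agent.S0728.notMem_supp_sub F (U := EtCoh.top X) 0 a x
        (by rw [Groth.Agent.H15Site.Shriek.sectSupp_zero]; simp) hn (by simpa using hx)
  have hmem : ∀ s, s ∈ shriekSubgroup p F (EtCoh.top S) ↔ φ s ∈ EtShriek.H0c p F := by
    intro s
    rw [Groth.Agent.H15Site.Shriek.mem_iff, hH0]
    constructor
    · intro h
      rw [show sectSupp F _ (φ s) = _ from Groth.Agent.H15Site.Shriek.sectSupp_map F (EtCore.bcTopIso p).inv s]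
      exact Groth.Agent.H15Site.Shriek.isProperOver_baseChange hsq h
    · intro h
      have e : s = F.obj.map (EtCore.bcTopIso p).hom.op (φ s) := (φ.symm_apply_apply s).symm
      rw [show sectSupp F _ s = _ from (congrArg (sectSupp F _) e).trans
        (Groth.Agent.H15Site.Shriek.sectSupp_map F (EtCore.bcTopIso p).hom (φ s))]
      exact Groth.Agent.H15Site.Shriek.isProperOver_baseChange hsq' h
  let ψ : (shriekSubgroup p F (EtCoh.top S)) ≃+ (EtShriek.H0c p F) :=
    { toFun := fun s => ⟨φ s.1, (hmem s.1).1 s.2⟩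
      invFun := fun s => ⟨φ.symm s.1, (hmem _).2 (by rw [φ.apply_symm_apply]; exact s.2)⟩
      left_inv := fun s => Subtype.ext (φ.symm_apply_apply _)
      right_inv := fun s => Subtype.ext (φ.apply_symm_apply _)
      map_add' := fun a b => Subtype.ext (map_add φ a.1 b.1) }
  exact ⟨ψ⟩

/-- Over a separably closed field the stalk at the point is the group of global sections. -/
theorem bijective_germ_top {Ω : Type u} [Field Ω] [IsSepClosed Ω] (G : EtCoh.Ab (Spec (CommRingCat.of Ω)))
    (z : (Scheme.pointSmallEtale (𝟙 (Spec (CommRingCat.of Ω)))).fiber.obj (EtCoh.top (Spec (CommRingCat.of Ω)))) :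
    Function.Bijective (germ (𝟙 _) G (EtCoh.top (Spec (CommRingCat.of Ω))) z) := by
  refine ⟨(injective_iff_map_eq_zero _).2 fun s hs => S0728.eq_zero_of_supp_empty G s fun x hx => ?_, fun p => ?_⟩
  · refine (germ_eq_zero_iff G z s).1 hs ?_
    exact (@Subsingleton.elim (Spec (CommRingCat.of Ω)) _ (ptOf z) x).symm ▸ hx
  · obtain ⟨U, y, s, rfl⟩ := germ_surjective (𝟙 _) G p
    let g : EtCoh.top (Spec (CommRingCat.of Ω)) ⟶ U := MorphismProperty.Over.homMk y.left (Over.w y) trivial
    refine ⟨G.obj.map g.op s, ?_⟩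
    refine ((Scheme.pointSmallEtale (𝟙 _)).toPresheafFiber_w_apply g z G.obj s).trans
      (congrArg (fun v => germ (𝟙 _) G U v s) (Over.OverMorphism.ext ?_))
    show z.left ≫ y.left = y.left
    have hz : z.left = 𝟙 _ := (Category.comp_id _).symm.trans (Over.w z)
    rw [hz]
    exact Category.id_comp _

end Groth.Agent.H15Site.Shriek
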