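import Groth.Agent.H15Site.Shriek.BaseChangeMain
import Groth.Agent.H15Site.Shriek.StalkH0c
import Groth.Agent.H15Site.Shriek.Coprod
import Groth.Agent.H18Et.Cons.SectColim
import Mathlib.Algebra.Category.Grp.FilteredColimits

/-!
# Direct images with proper support are left exact and commute with filtered colimits
-/

set_option autoImplicit false
set_option linter.style.haveILetI false
set_option linter.unusedSectionVars false
set_option linter.overlappingInstances false
set_option backward.isDefEq.respectTransparency false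
set_option backward.isDefEq.respectTransparency.types false

universe u

open CategoryTheory CategoryTheory.Limits AlgebraicGeometry Opposite
open scoped Groth.Agent.H18Et

namespace Groth.Agent.H15Site.Shriek

open Groth.Agent.H18Et EtShriek

/-! ### Left exactness -/

section LeftExact

variable {X Y : Scheme.{u}} (f : X ⟶ Y) [IsSeparated f] [LocallyOfFiniteType f]

theorem exists_preimage (S : ShortComplex (EtCoh.Ab X)) (hS : S.Exact) [Mono S.f] (V : Y.Etale)
    (t : EtCoh.sect ((shriek f).obj S.X₂) V) (ht : ((shriek f).map S.g).hom.app (op V) t = 0) :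
    ∃ s : EtCoh.sect ((shriek f).obj S.X₁) V, ((shriek f).map S.f).hom.app (op V) s = t := by
  let P := (EtCoh.bc f).obj V
  let Φ : EtCoh.Ab X ⥤ AddCommGrpCat.{u + 1} :=
    sheafToPresheaf X.smallEtaleTopology AddCommGrpCat.{u + 1} ⋙ (evaluation _ _).obj (op P)
  haveI : Φ.Additive := { }
  have hΦ : (S.map Φ).Exact := hS.map_of_mono_of_preservesKernel Φ inferInstance inferInstance
  obtain ⟨s, hs⟩ := (ShortComplex.ab_exact_iff _).1 hΦ t.1 (congrArg Subtype.val ht)
  refine ⟨⟨s, (mem_iff f S.X₁ s).2 (Groth.Agent.LeadProper.isProperOver_mono ((mem_iff f S.X₂ t.1).1 t.2)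
    (isClosed_sectSupp _ _ _) ((sectSupp_subset_of_mono S.f P s).trans ?_))⟩, Subtype.ext hs⟩
  rw [show S.f.hom.app (op P) s = t.1 from hs]

theorem preservesFiniteLimits : PreservesFiniteLimits (shriek f) := by
  refine ((shriek f).preservesFiniteLimits_tfae.out 0 3).1 fun S hS => ?_
  haveI := hS.mono_f
  haveI : Mono ((shriek f).map S.f) := by
    refine Sheaf.mono_of_injective _ fun V a b h => ?_
    induction V using Opposite.rec with
    | op V =>
      haveI : Mono ((sheafToPresheaf X.smallEtaleTopology AddCommGrpCat.{u + 1} ⋙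
          (evaluation _ _).obj (op ((EtCoh.bc f).obj V))).map S.f) := inferInstance
      refine Subtype.ext ((AddCommGrpCat.mono_iff_injective _).1 this ?_)
      exact congrArg Subtype.val h
  haveI : Mono (S.map (shriek f)).f := ‹_›
  refine ⟨?_, ‹_›⟩
  refine (exact_iff_stalk _).2 fun Ω _ _ η => ?_
  rw [ShortComplex.ab_exact_iff]
  intro y hy
  obtain ⟨V, z, t, rfl⟩ := germ_surjective η ((shriek f).obj S.X₂) y
  have h0 : germ η ((shriek f).obj S.X₃) V z (((shriek f).map S.g).hom.app (op V) t) = 0 :=
    (germ_naturality η ((shriek f).map S.g) V z t).symm.trans hy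
  obtain ⟨V', g, z', hz', hg⟩ := (germ_eq_iff η ((shriek f).obj S.X₃) V z _ 0).1 (h0.trans (map_zero _).symm)
  rw [map_zero] at hg
  obtain ⟨s, hs⟩ := exists_preimage f S hS.exact V' (((shriek f).obj S.X₂).obj.map g.op t)
    ((ConcreteCategory.congr_hom (((shriek f).map S.g).hom.naturality g.op) t).trans hg)
  refine ⟨germ η ((shriek f).obj S.X₁) V' z' s, ?_⟩
  refine (germ_naturality η ((shriek f).map S.f) V' z' s).trans ?_
  rw [hs, ← hz']
  exact (Scheme.pointSmallEtale η).toPresheafFiber_w_apply g z' ((shriek f).obj S.X₂).obj t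

end LeftExact

/-! ### Filtered colimits -/

section Field

variable {Ω : Type u} [Field Ω] {X : Scheme.{u}} (p : X ⟶ Spec (CommRingCat.of Ω))
  [IsSeparated p] [LocallyOfFiniteType p] {J : Type u} [SmallCategory J] [IsFiltered J]
  [PreservesColimitsOfShape J (CategoryTheory.forget AddCommGrpCat.{u + 1})]
  {D : J ⥤ EtCoh.Ab X} {c : Cocone D} (hc : IsColimit c)

/-- The base. -/
noncomputable abbrev top₀ : X.Etale := (EtCoh.bc p).obj (EtCoh.top (Spec (CommRingCat.of Ω)))

theorem isCompact_supp (G : EtCoh.Ab X) (t : EtCoh.sect ((shriek p).obj G) (EtCoh.top _)) :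
    IsCompact (sectSupp G (top₀ p) t.1) := by
  have := isProperOver_compact ((mem_iff p G t.1).1 t.2) (K := Set.univ)
    (Set.finite_univ (α := Spec (CommRingCat.of Ω))).isCompact
  rwa [Set.preimage_univ, Set.univ_inter] at this

theorem noetherian_compact_open (W : (top₀ p).left.Opens) (hW : IsCompact (W : Set (top₀ p).left)) :
    TopologicalSpace.NoetherianSpace W.toScheme := by
  haveI : CompactSpace W.toScheme := isCompact_iff_compactSpace.1 hW
  haveI : LocallyOfFiniteType (prV p (EtCoh.top (Spec (CommRingCat.of Ω)))) :=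
    MorphismProperty.pullback_fst (P := @LocallyOfFiniteType) _ _ inferInstance
  haveI : IsLocallyNoetherian (EtCoh.top (Spec (CommRingCat.of Ω))).left :=
    inferInstanceAs (IsLocallyNoetherian (Spec (CommRingCat.of Ω)))
  haveI : IsLocallyNoetherian W.toScheme :=
    LocallyOfFiniteType.isLocallyNoetherian (W.ι ≫ prV p (EtCoh.top (Spec (CommRingCat.of Ω))))
  haveI : IsNoetherian W.toScheme := {}
  infer_instance

theorem eq_zero_of_open {G : EtCoh.Ab X} {U : X.Etale} (s : EtCoh.sect G U) (W : U.left.Opens)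
    (hW : sectSupp G U s ⊆ (W : Set U.left)) (h : G.obj.map (openHom U W).op s = 0) : s = 0 := by
  refine Cons.sect_eq_zero_of_sectSupp s fun u hu => ?_
  exact (map_eq_zero_iff_range_subset G s (openHom U W)).1 h ⟨⟨u, hW hu⟩, rfl⟩ hu

include hc in
theorem colim_inj {j : J} (t : EtCoh.sect ((shriek p).obj (D.obj j)) (EtCoh.top _))
    (h : ((shriek p).map (c.ι.app j)).hom.app (op (EtCoh.top _)) t = 0) :
    ∃ (k : J) (f : j ⟶ k), ((shriek p).map (D.map f)).hom.app (op (EtCoh.top _)) t = 0 := by
  obtain ⟨W, hWc, hW, -⟩ := exists_compact_open (isCompact_supp p _ t) (O := ⊤) (fun _ _ => trivial)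
  haveI : CompactSpace (openObj (top₀ p) W).left := isCompact_iff_compactSpace.1 hWc
  obtain ⟨k, f, hf⟩ := Cons.sect_colim_inj hc ((D.obj j).obj.map (openHom (top₀ p) W).op t.1) (by
    refine (NatTrans.naturality_apply (c.ι.app j).hom (openHom (top₀ p) W).op t.1).trans ?_
    rw [show (c.ι.app j).hom.app (op (top₀ p)) t.1 = 0 from congrArg Subtype.val h, map_zero])
  refine ⟨k, f, Subtype.ext ?_⟩
  show (D.map f).hom.app (op (top₀ p)) t.1 = 0
  refine eq_zero_of_open _ W (fun u hu => hW ?_) ?_
  · by_contra hn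
    exact Cons.notMem_sectSupp_map (D.map f) t.1 hn hu
  · exact (NatTrans.naturality_apply (D.map f).hom (openHom (top₀ p) W).op t.1).symm.trans hf

theorem exists_glue_zero_open {G : EtCoh.Ab X} {U : X.Etale} (W : U.left.Opens) (Z : Set U.left)
    (hZ : IsClosed Z) (hZW : Z ⊆ (W : Set U.left)) (s : EtCoh.sect G (openObj U W))
    (hs : sectSupp G (openObj U W) s ⊆ (openHom U W).left.base ⁻¹' Z) :
    ∃ t : EtCoh.sect G U, G.obj.map (openHom U W).op t = s ∧ sectSupp G U t ⊆ Z := by
  let O : Bool → U.left.Opens := fun b => bif b then W else ⟨Zᶜ, hZ.isOpen_compl⟩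
  let r : ∀ b, EtCoh.sect G (openObj U (O b)) := fun b => match b with
    | true => s
    | false => 0
  have hgen : Sieve.generate (Presieve.ofArrows (fun b => openObj U (O b)) fun b => openHom U (O b)) ∈
      X.smallEtaleTopology U := by
    refine mem_topology_of_forall_point _ fun x => ?_
    by_cases hx : x ∈ W
    · exact ⟨_, openHom U (O true), ⟨x, hx⟩, ⟨_, 𝟙 _, _, Presieve.ofArrows.mk true, Category.id_comp _⟩, rfl⟩
    · exact ⟨_, openHom U (O false), ⟨x, fun h => hx (hZW h)⟩,
        ⟨_, 𝟙 _, _, Presieve.ofArrows.mk false, Category.id_comp _⟩, rfl⟩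
  have hsheaf : Presieve.IsSheafFor (G.obj ⋙ CategoryTheory.forget _)
      (Presieve.ofArrows (fun b => openObj U (O b)) fun b => openHom U (O b)) := by
    rw [Presieve.isSheafFor_iff_generate]
    exact ((isSheaf_iff_isSheaf_of_type _ _).1
      ((sheafCompose _ (CategoryTheory.forget _)).obj G).property) _ hgen
  have hzero : ∀ {T : X.Etale} (a : T ⟶ openObj U W) (b : T ⟶ openObj U (O false)),
      a ≫ openHom U W = b ≫ openHom U (O false) → G.obj.map a.op s = 0 := fun {T} a b hab => by
    refine (map_eq_zero_iff_range_subset G s a).2 ?_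
    rintro _ ⟨q, rfl⟩ hq
    have h1 : (openHom U W).left.base (a.left.base q) ∈ Z := hs hq
    have h2 : (openHom U W).left.base (a.left.base q) = (openHom U (O false)).left.base (b.left.base q) :=
      (Scheme.Hom.comp_apply _ _ _).symm.trans ((congrArg (fun k => k.left.base q) hab).trans
        (Scheme.Hom.comp_apply _ _ _))
    exact (b.left.base q).2 (Eq.mp (congrArg (· ∈ Z) h2) h1)
  have hcomp : Presieve.Arrows.Compatible (G.obj ⋙ CategoryTheory.forget _)
      (fun b => openHom U (O b)) r := by
    intro i j T gi gj hg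
    have hm : ∀ (b : Bool) (g g' : T ⟶ openObj U (O b)), g ≫ openHom U (O b) = g' ≫ openHom U (O b) → g = g' :=
      fun b g g' e => (Scheme.Etale.forget X).map_injective (Over.OverMorphism.ext
        ((cancel_mono (O b).ι).1 (congrArg (fun k => k.left) e)))
    cases i <;> cases j
    · obtain rfl := hm false gi gj hg; rfl
    · show G.obj.map gi.op 0 = G.obj.map gj.op s
      exact (map_zero _).trans (hzero gj gi hg.symm).symm
    · show G.obj.map gi.op s = G.obj.map gj.op 0
      exact (hzero gi gj hg).trans (map_zero _).symm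
    · obtain rfl := hm true gi gj hg; rfl
  obtain ⟨t, ht, -⟩ := (Presieve.isSheafFor_arrows_iff _ _).1 hsheaf r hcomp
  refine ⟨t, ht true, fun u hu => ?_⟩
  by_contra hn
  exact (map_eq_zero_iff_range_subset G t (openHom U (O false))).1 (ht false) ⟨⟨u, hn⟩, rfl⟩ hu

include hc in
theorem colim_surj (t : EtCoh.sect ((shriek p).obj c.pt) (EtCoh.top _)) :
    ∃ (j : J) (s : EtCoh.sect ((shriek p).obj (D.obj j)) (EtCoh.top _)),
      ((shriek p).map (c.ι.app j)).hom.app (op (EtCoh.top _)) s = t := by
  let U := top₀ p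
  let Z := sectSupp c.pt U t.1
  have hZ : IsClosed Z := isClosed_sectSupp _ _ _
  obtain ⟨W, hWc, hW, -⟩ := exists_compact_open (isCompact_supp p _ t) (O := ⊤) (fun _ _ => trivial)
  haveI : CompactSpace (openObj U W).left := isCompact_iff_compactSpace.1 hWc
  haveI hN : TopologicalSpace.NoetherianSpace W.toScheme := noetherian_compact_open p W hWc
  haveI : QuasiSeparatedSpace (openObj U W).left :=
    ⟨fun A B _ _ _ _ => TopologicalSpace.NoetherianSpace.isCompact (α := W.toScheme) _⟩
  obtain ⟨j, s, hs⟩ := Cons.sect_colim_surj hc (c.pt.obj.map (openHom U W).op t.1)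
  -- the part of the piece off the support
  let O' : (openObj U W).left.Opens :=
    ⟨(openHom U W).left.base ⁻¹' Zᶜ, hZ.isOpen_compl.preimage (openHom U W).left.continuous⟩
  haveI : CompactSpace (openObj (openObj U W) O').left :=
    isCompact_iff_compactSpace.1 (TopologicalSpace.NoetherianSpace.isCompact (α := W.toScheme) _)
  obtain ⟨k, f, hf⟩ := Cons.sect_colim_inj hc ((D.obj j).obj.map (openHom (openObj U W) O').op s) (by
    refine (NatTrans.naturality_apply (c.ι.app j).hom (openHom (openObj U W) O').op s).trans ?_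
    rw [hs]
    show c.pt.obj.map _ (c.pt.obj.map _ t.1) = 0
    rw [← Functor.map_comp_apply, ← op_comp]
    refine (map_eq_zero_iff_range_subset c.pt t.1 _).2 ?_
    rintro _ ⟨q, rfl⟩
    exact q.2)
  let s' := (D.map f).hom.app (op (openObj U W)) s
  have hs' : sectSupp (D.obj k) (openObj U W) s' ⊆ (openHom U W).left.base ⁻¹' Z := fun q hq => by
    by_contra hn
    exact (map_eq_zero_iff_range_subset (D.obj k) s' (openHom (openObj U W) O')).1
      ((NatTrans.naturality_apply (D.map f).hom (openHom (openObj U W) O').op s).symm.trans hf)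
      ⟨⟨q, hn⟩, rfl⟩ hq
  obtain ⟨σ, hσ, hσZ⟩ := exists_glue_zero_open W Z hZ hW s' hs'
  refine ⟨k, ⟨σ, (mem_iff p _ σ).2 (Groth.Agent.LeadProper.isProperOver_mono ((mem_iff p c.pt t.1).1 t.2)
    (isClosed_sectSupp _ _ _) hσZ)⟩, Subtype.ext ?_⟩
  show (c.ι.app k).hom.app (op U) σ = t.1
  rw [← sub_eq_zero]
  refine eq_zero_of_open _ W (fun u hu => ?_) ?_
  · by_contra hn
    refine S0728.notMem_supp_sub c.pt (U := U) _ _ u ?_ (fun h => hn (hW h)) hu
    exact Cons.notMem_sectSupp_map (c.ι.app k) σ (fun h => hn (hW (hσZ h)))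
  · rw [map_sub, sub_eq_zero]
    refine (NatTrans.naturality_apply (c.ι.app k).hom (openHom U W).op σ).symm.trans ?_
    rw [hσ]
    refine Eq.trans ?_ hs
    exact ConcreteCategory.congr_hom
      (congrArg (fun φ : D.obj j ⟶ c.pt => φ.hom.app (op (openObj U W))) (c.w f)) s

include hc in
theorem isIso_desc [IsSepClosed Ω] :
    IsIso (colimit.desc _ (((shriek p) ⋙ EtCoh.stalk (𝟙 _)).mapCocone c)) := by
  let T : (Spec (CommRingCat.of Ω)).Etale := EtCoh.top _
  let z : (Scheme.pointSmallEtale (𝟙 (Spec (CommRingCat.of Ω)))).fiber.obj T :=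
    Over.homMk (𝟙 _) (Category.comp_id _)
  let E := shriek p ⋙ EtCoh.stalk (𝟙 (Spec (CommRingCat.of Ω)))
  have hι : ∀ j x, colimit.desc _ (E.mapCocone c) (colimit.ι (D ⋙ E) j x) = E.map (c.ι.app j) x :=
    fun j x => ConcreteCategory.congr_hom (colimit.ι_desc (E.mapCocone c) j) x
  refine (ConcreteCategory.isIso_iff_bijective _).2 ⟨(injective_iff_map_eq_zero _).2 fun y hy => ?_, fun y => ?_⟩
  · obtain ⟨j, x, rfl⟩ := Concrete.colimit_exists_rep (D ⋙ E) y
    obtain ⟨t, rfl⟩ := (bijective_germ_top ((shriek p).obj (D.obj j)) z).2 x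
    have h := (hι j _).symm.trans hy
    have h1 : ((shriek p).map (c.ι.app j)).hom.app (op T) t = 0 := (bijective_germ_top _ z).1
      (((germ_naturality _ ((shriek p).map (c.ι.app j)) T z t).symm.trans h).trans (map_zero _).symm)
    obtain ⟨k, f, hf⟩ := colim_inj p hc t h1
    refine ((ConcreteCategory.congr_hom (colimit.w (D ⋙ E) f) _).symm.trans ?_)
    refine (congrArg (colimit.ι (D ⋙ E) k) ((germ_naturality _ ((shriek p).map (D.map f)) T z t).trans ?_)).trans
      (map_zero _)
    rw [hf, map_zero]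
  · obtain ⟨t, rfl⟩ := (bijective_germ_top ((shriek p).obj c.pt) z).2 y
    obtain ⟨j, s, hs⟩ := colim_surj p hc t
    refine ⟨colimit.ι (D ⋙ E) j (germ _ ((shriek p).obj (D.obj j)) T z s), (hι j _).trans ?_⟩
    exact (germ_naturality _ ((shriek p).map (c.ι.app j)) T z s).trans (congrArg _ hs)

theorem preservesColimitsOfShape_field [IsSepClosed Ω] :
    PreservesColimitsOfShape J (shriek p ⋙ EtCoh.stalk (𝟙 (Spec (CommRingCat.of Ω)))) where
  preservesColimit {D} := ⟨fun {c} hc => ⟨by
    haveI := isIso_desc p hc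
    exact IsColimit.ofPointIso (colimit.isColimit _) (i := this)⟩⟩

end Field

section General

variable {X Y : Scheme.{u}} (f : X ⟶ Y) [IsSeparated f] [LocallyOfFiniteType f]
  {J : Type u} [SmallCategory J] [IsFiltered J]
  [PreservesColimitsOfShape J (CategoryTheory.forget AddCommGrpCat.{u + 1})]

theorem preservesColimitsOfShape_stalk {Ω : Type u} [Field Ω] [IsAlgClosed Ω]
    (η : Spec (CommRingCat.of Ω) ⟶ Y) : PreservesColimitsOfShape J (shriek f ⋙ EtCoh.stalk η) := by
  let g' := pullback.fst f η
  let f' := pullback.snd f η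
  have h : IsPullback g' f' f η := IsPullback.of_hasPullback f η
  haveI : LocallyOfFiniteType f' := MorphismProperty.pullback_snd (P := @LocallyOfFiniteType) _ _ inferInstance
  haveI : IsSeparated f' := MorphismProperty.pullback_snd (P := @IsSeparated) _ _ inferInstance
  haveI : ∀ F, IsIso ((bcHom h).app F) := fun F => bc_main f η f' g' h F
  haveI : IsIso (bcHom h) := NatIso.isIso_of_isIso_app _
  haveI := (EtCoh.pullPushAdj g').leftAdjoint_preservesColimits
  haveI := preservesColimitsOfShape_field (J := J) f'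
  haveI : PreservesColimitsOfShape J (EtCoh.pull g' ⋙ shriek f' ⋙ EtCoh.stalk (𝟙 _)) := inferInstance
  refine preservesColimitsOfShape_of_natIso (F := EtCoh.pull g' ⋙ shriek f' ⋙ EtCoh.stalk (𝟙 _)) ?_
  exact (Functor.associator _ _ _).symm ≪≫ Functor.isoWhiskerRight (asIso (bcHom h)).symm _ ≪≫
    Functor.associator _ _ _ ≪≫ Functor.isoWhiskerLeft (shriek f)
      (H18Et.stalkPullIso η (𝟙 _) ≪≫ eqToIso (congrArg (fun k => EtCoh.stalk k) (Category.id_comp η)))

theorem preservesColimitsOfShape : PreservesColimitsOfShape J (shriek f) where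
  preservesColimit {D} := ⟨fun {c} hc => ⟨by
    let φ := colimit.desc _ ((shriek f).mapCocone c)
    haveI hφ : IsIso φ := isIso_of_stalk_algClosed φ fun Ω _ _ η => by
      haveI := preservesColimitsOfShape_stalk (J := J) f η
      haveI : PreservesColimitsOfShape J (EtCoh.stalk η) :=
        (ExtZeroStalk.skyAdj η).leftAdjoint_preservesColimits.preservesColimitsOfShape
      let h₁ := isColimitOfPreserves (EtCoh.stalk η) (colimit.isColimit (D ⋙ shriek f))
      let h₂ := isColimitOfPreserves (shriek f ⋙ EtCoh.stalk η) hc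
      haveI : IsIso ((EtCoh.stalk η).map φ) := by
        have e : (EtCoh.stalk η).map φ = (h₁.coconePointUniqueUpToIso h₂).hom := h₁.hom_ext fun j => by
          rw [h₁.comp_coconePointUniqueUpToIso_hom h₂ j]
          exact ((EtCoh.stalk η).map_comp _ _).symm.trans
            (congrArg (EtCoh.stalk η).map (colimit.ι_desc ((shriek f).mapCocone c) j))
        rw [e]; infer_instance
      exact ConcreteCategory.bijective_of_isIso _
    exact IsColimit.ofPointIso (colimit.isColimit _) (i := hφ)⟩⟩

end General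

theorem preservesFilteredColimits {X Y : Scheme.{u}} (f : X ⟶ Y) [IsSeparated f] [LocallyOfFiniteType f] :
    PreservesFilteredColimitsOfSize.{u, u} (shriek f) where
  preserves_filtered_colimits J _ _ :=
    haveI : PreservesColimitsOfShape J (CategoryTheory.forget AddCommGrpCat.{u + 1}) :=
      (preservesFilteredColimitsOfSize_shrink (CategoryTheory.forget AddCommGrpCat.{u + 1})).preserves_filtered_colimits J
    preservesColimitsOfShape f

end Groth.Agent.H15Site.Shriek
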