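import Groth.Agent.H15Site.Shriek.Descend
import Groth.Agent.S0728

/-!
# Sections with proper support
-/

set_option autoImplicit false
set_option linter.style.haveILetI false
set_option backward.isDefEq.respectTransparency false
set_option backward.isDefEq.respectTransparency.types false

universe u

open CategoryTheory CategoryTheory.Limits AlgebraicGeometry Opposite

namespace Groth.Agent.H15Site.Shriek

open Groth.Agent.H18Et EtShriek

variable {X Y : Scheme.{u}} (F : EtCoh.Ab X)

theorem sectSupp_map {U V : X.Etale} (g : V ⟶ U) (s : EtCoh.sect F U) :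
    sectSupp F V (F.obj.map g.op s) = g.left.base ⁻¹' sectSupp F U s := by
  refine Set.Subset.antisymm (S0728.supp_map_subset F g s) fun v hv W h hW e => ?_
  obtain ⟨w, rfl⟩ := hW
  exact hv W (h ≫ g) ⟨w, rfl⟩ ((S0728.map_comp' F h g s).trans e)

theorem sectSupp_zero (U : X.Etale) : sectSupp F U 0 = ∅ :=
  Set.eq_empty_of_forall_notMem fun x hx => hx U (𝟙 U) ⟨x, rfl⟩ (map_zero _)

theorem sectSupp_sub_subset (U : X.Etale) (s t : EtCoh.sect F U) :
    sectSupp F U (s - t) ⊆ sectSupp F U s ∪ sectSupp F U t := fun x hx => by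
  by_contra h
  simp only [Set.mem_union, not_or] at h
  exact S0728.notMem_supp_sub F s t x h.1 h.2 hx

theorem isProperOver_empty {P S : Scheme.{u}} (p : P ⟶ S) [LocallyOfFiniteType p] :
    ClSub.IsProperOver p (∅ : Set P) :=
  (Groth.Agent.LeadProper.isProperOver_iff p (Scheme.emptyTo P) (Set.range_eq_empty_iff.2 inferInstance)).2
    inferInstance

instance lft_prV (f : X ⟶ Y) [LocallyOfFiniteType f] (V : Y.Etale) : LocallyOfFiniteType (prV f V) :=
  inferInstanceAs (LocallyOfFiniteType (pullback.fst V.hom f))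

theorem hasProperSupport_iff {U : X.Etale} {S : Scheme.{u}} (g : U.left ⟶ S) [LocallyOfFiniteType g]
    (s : EtCoh.sect F U) : HasProperSupport F U s g ↔ ClSub.IsProperOver g (sectSupp F U s) :=
  ⟨fun ⟨_, hZ, h⟩ => Groth.Agent.LeadProper.isProperOver_mono h (isClosed_sectSupp F U s) hZ,
    fun h => ⟨_, subset_rfl, h⟩⟩

/-- The defining predicate is closed under subtraction. -/
theorem shriekPred_sub (f : X ⟶ Y) [LocallyOfFiniteType f] {V : Y.Etale}
    {s t : EtCoh.sect F ((EtCoh.bc f).obj V)} (hs : ShriekPred f F V s) (ht : ShriekPred f F V t) :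
    ShriekPred f F V (s - t) := fun V' φ => by
  rw [hasProperSupport_iff, map_sub]
  have hu := Groth.Agent.LeadProper.isProperOver_iUnion (prV f V')
    (fun b : Bool => bif b then sectSupp F _ (F.obj.map ((EtCoh.bc f).map φ).op s)
      else sectSupp F _ (F.obj.map ((EtCoh.bc f).map φ).op t)) fun b => by
    cases b
    · exact (hasProperSupport_iff F _ _).1 (ht V' φ)
    · exact (hasProperSupport_iff F _ _).1 (hs V' φ)
  refine Groth.Agent.LeadProper.isProperOver_mono hu (isClosed_sectSupp F _ _) fun x hx => ?_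
  rcases sectSupp_sub_subset F _ _ _ hx with h | h
  · exact Set.mem_iUnion.2 ⟨true, h⟩
  · exact Set.mem_iUnion.2 ⟨false, h⟩

theorem shriekPred_zero (f : X ⟶ Y) [LocallyOfFiniteType f] (V : Y.Etale) : ShriekPred f F V 0 := fun V' φ => by
  rw [hasProperSupport_iff, map_zero, sectSupp_zero]
  exact isProperOver_empty _

/-- The sections with proper support form the subgroup. -/
theorem mem_shriekSubgroup_iff (f : X ⟶ Y) [LocallyOfFiniteType f] (V : Y.Etale)
    (s : EtCoh.sect F ((EtCoh.bc f).obj V)) : s ∈ shriekSubgroup f F V ↔ ShriekPred f F V s := by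
  refine ⟨fun h => ?_, fun h => AddSubgroup.subset_closure h⟩
  induction h using AddSubgroup.closure_induction with
  | mem x hx => exact hx
  | zero => exact shriekPred_zero F f V
  | add a b _ _ ha hb =>
    have := shriekPred_sub F f ha (shriekPred_sub F f (shriekPred_zero F f V) hb)
    simpa using this
  | neg a _ ha => simpa using shriekPred_sub F f (shriekPred_zero F f V) ha

/-- Base change of etale schemes is cartesian. -/
theorem isPullback_bc (f : X ⟶ Y) {V V' : Y.Etale} (φ : V' ⟶ V) :
    IsPullback ((EtCoh.bc f).map φ).left (prV f V') (prV f V) φ.left := by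
  let l : pullback V'.hom f ⟶ pullback V.hom f := ((EtCoh.bc f).map φ).left
  have h₁ : l ≫ pullback.fst V.hom f = pullback.fst V'.hom f ≫ φ.left := by
    simp [l, EtCoh.bc]
  have h₂ : l ≫ pullback.snd V.hom f = pullback.snd V'.hom f := by
    simp [l, EtCoh.bc]
  refine IsPullback.of_right (h₁₂ := pullback.snd V.hom f) ?_ h₁ (IsPullback.of_hasPullback V.hom f).flip
  rw [h₂, show φ.left ≫ V.hom = V'.hom from MorphismProperty.Over.w φ]
  exact (IsPullback.of_hasPullback V'.hom f).flip

/-- Proper support is etale local on the base. -/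
theorem shriekPred_of_covering (f : X ⟶ Y) [LocallyOfFiniteType f] {V : Y.Etale}
    (t : EtCoh.sect F ((EtCoh.bc f).obj V)) (S : Sieve V) (hS : S ∈ Y.smallEtaleTopology V)
    (h : ∀ ⦃W : Y.Etale⦄ (g : W ⟶ V), S g → ShriekPred f F W (F.obj.map ((EtCoh.bc f).map g).op t)) :
    ShriekPred f F V t := fun V' φ => by
  rw [hasProperSupport_iff]
  have hS' := Y.smallEtaleTopology.pullback_stable φ hS
  rw [show Y.smallEtaleTopology =
      (Y.smallPretopology (P := EtCoh.etaleMP) (Q := EtCoh.etaleMP)).toGrothendieck from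
    Scheme.smallGrothendieckTopology_eq_toGrothendieck_smallPretopology Y le_rfl] at hS'
  choose W g w hg _ hw using (Scheme.mem_toGrothendieck_smallPretopology V' (S.pullback φ)).1 hS'
  refine isProperOver_of_etale_family (isClosed_sectSupp F _ _) (W := fun x => (W x).left)
    (fun x => (g x).left) (fun x => etale_left (g x)) (fun x => ⟨x, w x, hw x⟩)
    (fun x => ((EtCoh.bc f).map (g x)).left) (fun x => prV f (W x)) (fun x => isPullback_bc f (g x)) fun x => ?_
  have h1 := (hasProperSupport_iff F _ _).1 (h (g x ≫ φ) (hg x) (W x) (𝟙 _))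
  rw [CategoryTheory.Functor.map_id, op_id, CategoryTheory.Functor.map_id, Functor.map_comp,
    S0728.map_comp'] at h1
  exact (sectSupp_map F ((EtCoh.bc f).map (g x)) _) ▸ h1

end Groth.Agent.H15Site.Shriek
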