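import Groth.Agent.H15Site.Shriek.Pred
import Groth.Agent.S0680

/-!
# The sheaf of sections with proper support
-/

set_option autoImplicit false
set_option linter.style.haveILetI false
set_option linter.overlappingInstances false
set_option backward.isDefEq.respectTransparency false
set_option backward.isDefEq.respectTransparency.types false

universe u

open CategoryTheory CategoryTheory.Limits AlgebraicGeometry Opposite

namespace Groth.Agent.H15Site.Shriek

open Groth.Agent.H18Et EtShriek

variable {X Y : Scheme.{u}} (f : X ⟶ Y) [LocallyOfFiniteType f]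

/-- Sections with proper support, as a functor to sheaves. -/
noncomputable def shriek : EtCoh.Ab X ⥤ EtCoh.Ab Y :=
  ObjectProperty.lift _ (lowerShriekPreFunctor f) (fun F => S0680.result f F)

/-- The sheafification in the definition does nothing. -/
noncomputable def shriekIso : lowerShriek f ≅ shriek f :=
  Functor.isoWhiskerLeft (shriek f)
      (asIso (sheafificationAdjunction Y.smallEtaleTopology AddCommGrpCat.{u + 1}).counit) ≪≫
    (shriek f).rightUnitor

/-- The inclusion in the direct image. -/
noncomputable def incl : shriek f ⟶ EtCoh.push f where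
  app F := ⟨lowerShriekPreι f F⟩
  naturality F G α := by
    ext V ⟨s, hs⟩
    rfl

/-- The criterion: proper support over the base. -/
theorem shriekPred_iff (F : EtCoh.Ab X) {V : Y.Etale} (s : EtCoh.sect F ((EtCoh.bc f).obj V)) :
    ShriekPred f F V s ↔ ClSub.IsProperOver (prV f V) (sectSupp F _ s) := by
  refine ⟨fun h => ?_, fun h V' φ => ?_⟩
  · have h1 := (hasProperSupport_iff F _ _).1 (h V (𝟙 V))
    rw [CategoryTheory.Functor.map_id, op_id, CategoryTheory.Functor.map_id] at h1
    exact h1
  · rw [hasProperSupport_iff, sectSupp_map]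
    exact isProperOver_baseChange (isPullback_bc f φ) h

theorem mem_iff (F : EtCoh.Ab X) {V : Y.Etale} (s : EtCoh.sect F ((EtCoh.bc f).obj V)) :
    s ∈ shriekSubgroup f F V ↔ ClSub.IsProperOver (prV f V) (sectSupp F _ s) :=
  (mem_shriekSubgroup_iff F f V s).trans (shriekPred_iff f F s)

theorem shriek_ext {F : EtCoh.Ab X} {V : Y.Etale} {a b : EtCoh.sect ((shriek f).obj F) V}
    (h : ((incl f).app F).hom.app (op V) a = ((incl f).app F).hom.app (op V) b) : a = b :=
  Subtype.ext h

instance (F : EtCoh.Ab X) : Mono ((incl f).app F) := by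
  refine Functor.mono_of_mono_map (sheafToPresheaf _ _) ?_
  refine @NatTrans.mono_of_mono_app _ _ _ _ _ _ _ fun V => ?_
  exact (AddCommGrpCat.mono_iff_injective _).2 Subtype.val_injective

section Proper

/-- For a proper morphism every section has proper support. -/
theorem mem_of_isProper [IsProper f] (F : EtCoh.Ab X) {V : Y.Etale}
    (s : EtCoh.sect F ((EtCoh.bc f).obj V)) : s ∈ shriekSubgroup f F V := by
  haveI : IsProper (prV f V) := inferInstanceAs (IsProper (pullback.fst V.hom f))
  refine (mem_iff f F s).2 ?_
  refine Groth.Agent.LeadProper.isProperOver_mono (Z := Set.univ) ?_ (isClosed_sectSupp F _ s) (Set.subset_univ _)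
  exact (Groth.Agent.LeadProper.isProperOver_iff (prV f V) (𝟙 _) Set.range_id).2 (by simpa using ‹IsProper (prV f V)›)

instance [IsProper f] : IsIso (incl f) := by
  refine @NatIso.isIso_of_isIso_app _ _ _ _ _ _ _ fun F => ?_
  refine (isIso_iff_of_reflects_iso _ (sheafToPresheaf _ _)).1 ?_
  refine @NatIso.isIso_of_isIso_app _ _ _ _ _ _ _ fun V => ?_
  exact (ConcreteCategory.isIso_iff_bijective _).2
    ⟨Subtype.val_injective, fun s => ⟨⟨s, mem_of_isProper f F s⟩, rfl⟩⟩

/-- For a proper morphism `f_! = f_*`. -/
noncomputable def shriekPushIso [IsProper f] : lowerShriek f ≅ EtCoh.push f :=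
  shriekIso f ≪≫ asIso (incl f)

end Proper

end Groth.Agent.H15Site.Shriek
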