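import Groth.Agent.H15Site.Shriek.Comp
import Groth.Agent.H15Site.Shriek.Sheaf
import Groth.Agent.H15Site.Shriek.EtaleIso
import Groth.Agent.H15Site.Shriek.FilteredColim
import Groth.Agent.H15Site.IntDesc.PushH
import Groth.Agent.H18Et.PushClosed
import Groth.Agent.H18Et.PushStalk
import Groth.Agent.H18Et.ExtZeroCounit
import Groth.Agent.H18Et.EtaleRestrict
import Groth.Agent.H18Et.Cons.ExtZero
import Groth.Agent.H18Et.Coh.Colimit
import Mathlib.CategoryTheory.Limits.Constructions.Filtered

/-!
# Compactly supported cohomology over a discrete quasi-finite base, piece by piece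

`subsingleton_H_shriek_discrete`: for `g : W ⟶ P` quasi-finite into a scheme proper over an algebraically
closed field, `W` proper over a quasi-finite `b : W ⟶ Y₀`, the group `H^n(P, g_! M)` vanishes as soon as
`M` has no `H^n` on the fibres of `b`.
-/

set_option autoImplicit false
set_option linter.style.haveILetI false
set_option linter.unusedSectionVars false
set_option backward.isDefEq.respectTransparency false
set_option backward.isDefEq.respectTransparency.types false

universe u

open CategoryTheory CategoryTheory.Limits AlgebraicGeometry Opposite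
open CategoryTheory.Limits.CoproductsFromFiniteFiltered
open scoped Groth.Agent.H18Et Groth.Agent.H18Et.CohColim

namespace Groth.Agent.H15Site.Shriek

theorem subsingleton_H_of_iso {X : Scheme.{u}} {A B : EtCoh.Ab X} (e : A ≅ B) (n : ℕ)
    (h : Subsingleton (EtCoh.H X A n)) : Subsingleton (EtCoh.H X B n) :=
  Function.Injective.subsingleton (f := Sheaf.H.map e.inv n)
    (Function.LeftInverse.injective (g := Sheaf.H.map e.hom n) fun x => by
      rw [← Sheaf.H.map_comp_apply, Iso.inv_hom_id, Sheaf.H.map_id_apply])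

/-- The unit of a surjective closed immersion is invertible. -/
theorem isIso_unit_surjective_closed {T U : Scheme.{u}} (k : T ⟶ U) [IsClosedImmersion k] [Surjective k]
    (G : EtCoh.Ab U) : IsIso ((EtCoh.pullPushAdj k).unit.app G) := by
  have hf : H18Et.LiftsEtaleUniv k := H18Et.liftsEtaleUniv_of_isClosedImmersion k
  refine H18Et.isIso_of_stalk _ fun x => ?_
  obtain ⟨z, rfl⟩ := k.surjective x
  exact ⟨_, _, _, H18Et.geomPt z ≫ k, H18Et.geomPt_comp_base k z, H18Et.bijective_stalk_unit hf G (H18Et.geomPt z)⟩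

/-- Cohomology is insensitive to surjective closed immersions. -/
theorem subsingleton_H_iff_surjective_closed {T U : Scheme.{u}} (k : T ⟶ U) [IsClosedImmersion k] [Surjective k]
    (G : EtCoh.Ab U) (n : ℕ) :
    Subsingleton (EtCoh.H U G n) ↔ Subsingleton (EtCoh.H T ((EtCoh.pull k).obj G) n) := by
  haveI := isIso_unit_surjective_closed k G
  obtain ⟨e⟩ := IntDesc.nonempty_H_push k ((EtCoh.pull k).obj G) n
  let e' := e.addCommGroupIsoToAddEquiv
  constructor
  · intro h
    exact @Equiv.subsingleton _ _ e'.symm.toEquiv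
      (subsingleton_H_of_iso (asIso ((EtCoh.pullPushAdj k).unit.app G)) n h)
  · intro h
    exact subsingleton_H_of_iso (asIso ((EtCoh.pullPushAdj k).unit.app G)).symm n
      (@Equiv.subsingleton _ _ e'.toEquiv h)

/-- A finite direct sum has no cohomology if its summands have none. -/
theorem subsingleton_H_of_total {P : Scheme.{u}} {C : Type*} [Category C] [Preadditive C]
    (Φ : C ⥤ EtCoh.Ab P) [Φ.Additive] {κ : Type*} [Finite κ] (A : κ → C) [HasBiproduct A] (n : ℕ)
    (h : ∀ i, Subsingleton (EtCoh.H P (Φ.obj (A i)) n)) :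
    Subsingleton (EtCoh.H P (Φ.obj (⨁ A)) n) := by
  haveI := Fintype.ofFinite κ
  refine subsingleton_of_forall_eq 0 fun x => ?_
  have hid : ∑ i, Φ.map (biproduct.π A i) ≫ Φ.map (biproduct.ι A i) = 𝟙 (Φ.obj (⨁ A)) := by
    classical
    simp only [← Functor.map_comp, ← Functor.map_sum]
    rw [← CategoryTheory.Functor.map_id]
    refine congrArg Φ.map (biproduct.hom_ext' _ _ fun j => ?_)
    rw [Preadditive.comp_sum, Finset.sum_eq_single j]
    · rw [biproduct.ι_π_self_assoc, Category.comp_id]
    · intro i _ hij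
      rw [biproduct.ι_π_ne_assoc _ (Ne.symm hij), zero_comp]
    · exact fun h => absurd (Finset.mem_univ j) h
  have hx : x = Sheaf.H.map (∑ i, Φ.map (biproduct.π A i) ≫ Φ.map (biproduct.ι A i)) n x := by
    rw [hid, Sheaf.H.map_id_apply]
  rw [hx, Sheaf.H.map_apply, Abelian.Ext.mk₀_sum, Abelian.Ext.comp_sum]
  refine Finset.sum_eq_zero fun i _ => ?_
  rw [← Abelian.Ext.mk₀_comp_mk₀, ← Abelian.Ext.comp_assoc_of_second_deg_zero,
    show x.comp (Abelian.Ext.mk₀ (Φ.map (biproduct.π A i))) (add_zero n) = 0 from @Subsingleton.elim _ (h i) _ _,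
    Abelian.Ext.zero_comp]

/-- Cohomology of a filtered colimit of sheaves without cohomology. -/
theorem subsingleton_H_colimit {P : Scheme.{u}} [CompactSpace P] [QuasiSeparatedSpace P] {J : Type u}
    [SmallCategory J] [IsFiltered J] (D : J ⥤ EtCoh.Ab P) (n : ℕ)
    (h : ∀ j, Subsingleton (EtCoh.H P (D.obj j) n)) : Subsingleton (EtCoh.H P (colimit D) n) := by
  refine subsingleton_of_forall_eq 0 fun x => ?_
  obtain ⟨j, y, hy⟩ := (H18Et.CohColim.hSurj_hInj n D).1 x
  rw [← hy, @Subsingleton.elim _ (h j) y 0, map_zero]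

section Pieces

variable {Ω : Type u} [Field Ω] [IsAlgClosed Ω] {Y₀ : Scheme.{u}} (q : Y₀ ⟶ Spec (CommRingCat.of Ω))
  [LocallyQuasiFinite q] [LocallyOfFiniteType q]

include q in
theorem discrete_base : DiscreteTopology ↥Y₀ := by
  have hd := q.isDiscrete_preimage_singleton default
  rw [show (q ⁻¹' {default}) = Set.univ from Set.eq_univ_of_forall fun _ => Subsingleton.elim _ _] at hd
  exact isDiscrete_univ_iff.1 hd

/-- A point of a discrete scheme quasi-finite over an algebraically closed field, as an open subscheme. -/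
noncomputable def ptOpen (y : ↥Y₀) : Y₀.Opens := ⟨{y}, @isOpen_discrete _ _ (discrete_base q) _⟩

theorem exists_section (y : ↥Y₀) :
    ∃ η : Spec (CommRingCat.of Ω) ⟶ ↑(ptOpen q y), η ≫ (ptOpen q y).ι ≫ q = 𝟙 _ := by
  haveI : DiscreteTopology ↥Y₀ := discrete_base q
  haveI : DiscreteTopology ↥(ptOpen q y).toScheme :=
    (ptOpen q y).ι.isOpenEmbedding.isEmbedding.discreteTopology
  let v : ↥(ptOpen q y).toScheme := ⟨y, rfl⟩
  obtain ⟨⟨η, hη⟩, -⟩ :=
    (pointEquivClosedPoint ((ptOpen q y).ι ≫ q)).surjective ⟨v, isClosed_discrete _⟩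
  exact ⟨η, hη⟩

theorem isProper_ptOpen (y : ↥Y₀) : IsProper ((ptOpen q y).ι ≫ q) := by
  let V := ptOpen q y
  haveI : IsAffine ↑V := by
    obtain ⟨U, hU, hyU, hUV⟩ := exists_isAffineOpen_mem_and_subset (U := V) (x := y) rfl
    have : U = V := le_antisymm hUV (fun z hz => (Set.mem_singleton_iff.1 hz) ▸ hyU)
    exact this ▸ hU
  haveI : IsSeparated (V.ι ≫ q) := inferInstance
  obtain ⟨η, hη⟩ := exists_section q y
  haveI : Subsingleton ↥V.toScheme :=
    ⟨fun a b => Subtype.ext ((Set.mem_singleton_iff.1 a.2).trans (Set.mem_singleton_iff.1 b.2).symm)⟩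
  haveI : Surjective η := ⟨fun v => ⟨default, Subsingleton.elim _ _⟩⟩
  haveI : IsProper (η ≫ V.ι ≫ q) := by rw [hη]; infer_instance
  haveI : UniversallyClosed (V.ι ≫ q) := UniversallyClosed.of_comp_surjective η _
  exact {}

variable {W P : Scheme.{u}} (g : W ⟶ P) [IsSeparated g] [LocallyOfFiniteType g] [LocallyQuasiFinite g]
  (π : P ⟶ Spec (CommRingCat.of Ω)) [IsProper π] (b : W ⟶ Y₀) [IsProper b] (M : EtCoh.Ab W) (n : ℕ)

/-- The fibre over a point as an open subscheme. -/
noncomputable abbrev piece (y : ↥Y₀) : W.Opens := b ⁻¹ᵁ ptOpen q y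

/-- The extension by zero of the restriction to a fibre. -/
noncomputable def pieceSh (y : ↥Y₀) : EtCoh.Ab W :=
  haveI : EtShriek.JCont (piece q b y).ι := H18Et.jCont _
  (EtShriek.extZero (piece q b y).ι).obj ((EtShriek.restrAlong (piece q b y).ι).obj M)

/-- The decomposition along the fibres. -/
noncomputable def decompose : ∐ pieceSh q b M ⟶ M :=
  Sigma.desc fun y =>
    haveI : EtShriek.JCont (piece q b y).ι := H18Et.jCont _
    (EtShriek.extZeroAdj (piece q b y).ι).counit.app M

theorem isIso_decompose : IsIso (decompose q b M) := by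
  refine (H18Et.isIso_iff_stalk _).2 fun Θ _ _ ξ => ?_
  let S := EtCoh.stalk ξ
  let y₀ : ↥Y₀ := b.base (ξ.base default)
  haveI : ∀ y, EtShriek.JCont (piece q b y).ι := fun y => H18Et.jCont _
  haveI : PreservesColimitsOfShape (Discrete ↥Y₀) S :=
    (H18Et.ExtZeroStalk.skyAdj ξ).leftAdjoint_preservesColimits.preservesColimitsOfShape
  have hz : ∀ y, y ≠ y₀ → IsZero (S.obj (pieceSh q b M y)) := fun y hy => by
    haveI : IsEmpty (H18Et.ExtZeroStalk.Pts (piece q b y).ι ξ) := ⟨fun v => hy (by
      have h := ((v.1).base default).2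
      exact ((Set.mem_singleton_iff.1 h).symm.trans
        (congrArg b.base ((Scheme.Hom.comp_apply _ _ _).symm.trans (congrArg (fun a => a.base default) v.2)))))⟩
    exact H18Et.ExtZeroStalk.isZero_stalk_extZero _ ξ _
  have hc : IsIso (S.map (Sigma.ι (pieceSh q b M) y₀) ≫ S.map (decompose q b M)) := by
    rw [← Functor.map_comp, decompose, Sigma.ι_desc]
    have hr : Set.range ξ.base ⊆ Set.range (piece q b y₀).ι.base := by
      rintro _ ⟨z, rfl⟩
      rw [Scheme.Opens.range_ι, Subsingleton.elim z default]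
      exact Set.mem_singleton _
    let v : H18Et.ExtZeroStalk.Pts (piece q b y₀).ι ξ :=
      ⟨IsOpenImmersion.lift _ ξ hr, IsOpenImmersion.lift_fac _ _ _⟩
    haveI : Subsingleton (H18Et.ExtZeroStalk.Pts (piece q b y₀).ι ξ) :=
      ⟨fun v w => Subtype.ext ((cancel_mono (piece q b y₀).ι).1 (v.2.trans w.2.symm))⟩
    exact H18Et.ExtZeroStalk.isIso_stalk_counit v M
  haveI : Epi (S.map (Sigma.ι (pieceSh q b M) y₀)) := ⟨fun {Z} a c hac => by
    refine Cofan.IsColimit.hom_ext (isColimitCofanMkObjOfIsColimit S _ _ (coproductIsCoproduct (pieceSh q b M)))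
      _ _ fun y => ?_
    by_cases hy : y = y₀
    · subst hy; exact hac
    · exact (hz y hy).eq_of_src _ _⟩
  haveI := hc
  haveI : IsSplitMono (S.map (Sigma.ι (pieceSh q b M) y₀)) :=
    IsSplitMono.mk' ⟨S.map (decompose q b M) ≫ inv (S.map (Sigma.ι (pieceSh q b M) y₀) ≫ S.map (decompose q b M)),
      by rw [← Category.assoc, IsIso.hom_inv_id]⟩
  haveI : IsIso (S.map (Sigma.ι (pieceSh q b M) y₀)) := isIso_of_epi_of_isSplitMono _
  exact IsIso.of_isIso_comp_left (S.map (Sigma.ι (pieceSh q b M) y₀)) _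

include π in
theorem subsingleton_H_piece (w : g ≫ π = b ≫ q) (y : ↥Y₀)
    (hM : ∀ η : Spec (CommRingCat.of Ω) ⟶ Y₀, η ≫ q = 𝟙 _ →
      Subsingleton (EtCoh.H (pullback b η) ((EtCoh.pull (pullback.fst b η)).obj M) n)) :
    Subsingleton (EtCoh.H P ((EtShriek.lowerShriek g).obj (pieceSh q b M y)) n) := by
  let ι := (piece q b y).ι
  haveI : EtShriek.JCont ι := H18Et.jCont _
  let N := (EtShriek.restrAlong ι).obj M
  haveI : IsProper (b ∣_ ptOpen q y) :=
    MorphismProperty.of_isPullback (isPullback_morphismRestrict b (ptOpen q y)).flip ‹IsProper b›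
  haveI := isProper_ptOpen q y
  have hfac : (ι ≫ g) ≫ π = (b ∣_ ptOpen q y) ≫ (ptOpen q y).ι ≫ q := by
    rw [Category.assoc, w, ← Category.assoc, ← morphismRestrict_ι, Category.assoc]
  haveI : IsProper ((ι ≫ g) ≫ π) := by rw [hfac]; infer_instance
  haveI : IsProper (ι ≫ g) := IsProper.of_comp (ι ≫ g) π
  haveI : IsFinite (ι ≫ g) := IsFinite.of_isProper_of_locallyQuasiFinite _
  obtain ⟨η, hη⟩ := exists_section q y
  let η₀ := η ≫ (ptOpen q y).ι
  have hη₀ : η₀ ≫ q = 𝟙 _ := (Category.assoc _ _ _).trans hη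
  let k₀ := pullback.fst b η₀
  have hk₀ : Set.range k₀.base ⊆ Set.range ι.base := by
    rintro _ ⟨z, rfl⟩
    rw [Scheme.Opens.range_ι]
    show b.base (k₀.base z) ∈ (ptOpen q y : Set Y₀)
    rw [← Scheme.Hom.comp_apply, pullback.condition, Scheme.Hom.comp_apply, Scheme.Hom.comp_apply]
    exact (η.base ((pullback.snd b η₀).base z)).2
  let k := IsOpenImmersion.lift ι k₀ hk₀
  have hk : k ≫ ι = k₀ := IsOpenImmersion.lift_fac _ _ _
  have hsq : IsPullback k (pullback.snd b η₀) (b ∣_ ptOpen q y) η := by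
    refine IsPullback.of_right ?_ ?_ (isPullback_morphismRestrict b (ptOpen q y)).flip
    · rw [hk]; exact IsPullback.of_hasPullback b η₀
    · rw [← cancel_mono (ptOpen q y).ι, Category.assoc, morphismRestrict_ι, ← Category.assoc, hk,
        Category.assoc]
      exact pullback.condition
  haveI : IsClosedImmersion η :=
    haveI : IsClosedImmersion (η ≫ (ptOpen q y).ι ≫ q) := by rw [hη]; infer_instance
    IsClosedImmersion.of_comp η ((ptOpen q y).ι ≫ q)
  haveI : Surjective η := ⟨fun v => ⟨default, Subtype.ext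
    ((Set.mem_singleton_iff.1 (η.base default).2).trans (Set.mem_singleton_iff.1 v.2).symm)⟩⟩
  haveI : IsClosedImmersion k := MorphismProperty.of_isPullback hsq.flip ‹IsClosedImmersion η›
  haveI : Surjective k := MorphismProperty.of_isPullback hsq.flip ‹Surjective η›
  have h1 : Subsingleton (EtCoh.H ↑(piece q b y) N n) := by
    rw [subsingleton_H_iff_surjective_closed k N n]
    refine subsingleton_H_of_iso (?_ : (EtCoh.pull k₀).obj M ≅ (EtCoh.pull k).obj N) n (hM η₀ hη₀)
    exact eqToIso (by rw [hk]) ≪≫ (EtCore.pullComp k ι).app M ≪≫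
      (EtCoh.pull k).mapIso ((H18Et.EtaleRestrict.pullIso ι).app M)
  obtain ⟨e⟩ := IntDesc.nonempty_H_push (ι ≫ g) N n
  haveI : Subsingleton (EtCoh.H P ((EtCoh.push (ι ≫ g)).obj N) n) := e.addCommGroupIsoToAddEquiv.toEquiv.subsingleton
  exact subsingleton_H_of_iso ((EtShriek.lowerShriek g).mapIso ((extZeroIso ι).app N) ≪≫
    (lowerShriekCompIso ι g).app N ≪≫ (shriekPushIso (ι ≫ g)).app N).symm n inferInstance

include π in
/-- **Vanishing piece by piece.** -/
theorem subsingleton_H_shriek_discrete (w : g ≫ π = b ≫ q)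
    (hM : ∀ η : Spec (CommRingCat.of Ω) ⟶ Y₀, η ≫ q = 𝟙 _ →
      Subsingleton (EtCoh.H (pullback b η) ((EtCoh.pull (pullback.fst b η)).obj M) n)) :
    Subsingleton (EtCoh.H P ((EtShriek.lowerShriek g).obj M) n) := by
  haveI : CompactSpace ↥P := QuasiCompact.compactSpace_of_compactSpace π
  haveI : QuasiSeparatedSpace ↥P := quasiSeparatedSpace_of_quasiSeparated π
  let L := EtShriek.lowerShriek g
  haveI : L.Additive := Functor.additive_of_iso (shriekIso g).symm
  let K := liftToFinsetObj (Discrete.functor (pieceSh q b M))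
  haveI : PreservesColimitsOfShape (Finset (Discrete ↥Y₀)) L :=
    haveI := preservesFilteredColimits g
    preservesColimitsOfShape_of_natIso (shriekIso g).symm
  haveI := isIso_decompose q b M
  let i : colimit K ≅ M :=
    (liftToFinsetColimitCocone (Discrete.functor (pieceSh q b M))).isColimit.coconePointUniqueUpToIso
        (colimit.isColimit (Discrete.functor (pieceSh q b M))) ≪≫
      asIso (decompose q b M)
  refine subsingleton_H_of_iso ((preservesColimitIso L K).symm ≪≫ L.mapIso i) n
    (subsingleton_H_colimit _ n fun s => ?_)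
  refine subsingleton_H_of_iso (L.mapIso (biproduct.isoCoproduct _)) n ?_
  exact subsingleton_H_of_total L _ n fun z => subsingleton_H_piece q g π b M n w _ hM

end Pieces

end Groth.Agent.H15Site.Shriek
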