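import Groth.Agent.H15Site.Shriek.BaseChange
import Groth.Agent.H15Site.Shriek.EtaleIso
import Groth.Agent.H18Et.ExtZeroOpen
import Groth.Agent.S0157
import Groth.Agent.S0384

/-!
# Base change for direct images with proper support
-/

set_option autoImplicit false
set_option linter.style.haveILetI false
set_option linter.overlappingInstances false
set_option linter.unusedSectionVars false
set_option backward.isDefEq.respectTransparency false
set_option backward.isDefEq.respectTransparency.types false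

universe u

open CategoryTheory CategoryTheory.Limits AlgebraicGeometry Opposite

namespace Groth.Agent.H15Site.Shriek

open Groth.Agent.H18Et EtShriek H15Site.SetDescent H18PBC.DegZero

theorem isIso_of_stalk_algClosed {X : Scheme.{u}} {F G : EtCoh.Ab X} (φ : F ⟶ G)
    (hφ : ∀ (Ω : Type u) [Field Ω] [IsAlgClosed Ω] (η : Spec (CommRingCat.of Ω) ⟶ X),
      Function.Bijective ((EtCoh.stalk η).map φ)) : IsIso φ :=
  H18Et.isIso_of_stalk φ fun x =>
    ⟨AlgebraicClosure (X.residueField x), inferInstance, inferInstance, algPt x, algPt_base x, hφ _ _⟩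

section Proper

variable {X Y X' Y' : Scheme.{u}} {f : X ⟶ Y} {g : Y' ⟶ Y} {f' : X' ⟶ Y'} {g' : X' ⟶ X}
  (h : IsPullback g' f' f g) [IsProper f] [IsProper f']

theorem bcHom_incl (F : EtCoh.Ab X) :
    (bcHom h).app F ≫ (incl f').app ((EtCoh.pull g').obj F) =
      (EtCoh.pull g).map ((incl f).app F) ≫ EtCoh.baseChange0 f g f' g' h.w F := by
  apply ((EtCoh.pullPushAdj g).homEquiv _ _).injective
  refine ((EtCoh.pullPushAdj g).homEquiv_naturality_right _ _).trans ?_
  refine Eq.trans ?_ ((EtCoh.pullPushAdj g).homEquiv_naturality_left _ _).symm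
  refine (congrArg (· ≫ _) (Equiv.apply_symm_apply _ _)).trans ?_
  refine Eq.trans ?_ (congrArg (_ ≫ ·) (Equiv.apply_symm_apply _ _)).symm
  ext V s
  rfl

theorem isIso_bcHom_of_isProper (F : EtCoh.Ab X) : IsIso ((bcHom h).app F) := by
  haveI := S0157.result f f' g' g h F
  haveI : IsIso ((bcHom h).app F ≫ (incl f').app ((EtCoh.pull g').obj F)) := by
    rw [bcHom_incl]; infer_instance
  exact IsIso.of_isIso_comp_right _ ((incl f').app ((EtCoh.pull g').obj F))

end Proper

section Comp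

variable {X M Y X' M' Y' : Scheme.{u}} {j : X ⟶ M} {π : M ⟶ Y} {g : Y' ⟶ Y} {j' : X' ⟶ M'} {π' : M' ⟶ Y'}
  {g₂ : M' ⟶ M} {g' : X' ⟶ X} (h₁ : IsPullback g' j' j g₂) (h₂ : IsPullback g₂ π' π g)
  [LocallyOfFiniteType j] [LocallyOfFiniteType π] [LocallyOfFiniteType j'] [LocallyOfFiniteType π']

theorem bc_bc_bc_hom_ext {U : X'.Etale} {V : Y.Etale}
    {m m' : U ⟶ (EtCoh.bc g').obj ((EtCoh.bc j).obj ((EtCoh.bc π).obj V))}
    (e : ((m.left ≫ pullback.fst ((EtCoh.bc j).obj ((EtCoh.bc π).obj V)).hom g') ≫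
        prV j ((EtCoh.bc π).obj V)) ≫ prV π V =
      ((m'.left ≫ pullback.fst ((EtCoh.bc j).obj ((EtCoh.bc π).obj V)).hom g') ≫
        prV j ((EtCoh.bc π).obj V)) ≫ prV π V) : m = m' := by
  have hs : ∀ k : U ⟶ (EtCoh.bc g').obj ((EtCoh.bc j).obj ((EtCoh.bc π).obj V)),
      ((k.left ≫ pullback.fst ((EtCoh.bc j).obj ((EtCoh.bc π).obj V)).hom g') ≫
        prV j ((EtCoh.bc π).obj V)) ≫ pullback.snd V.hom π = (U.hom ≫ g') ≫ j := fun k => by
    refine (Category.assoc _ _ _).trans ((congrArg (_ ≫ ·)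
      (pullback.condition (f := ((EtCoh.bc π).obj V).hom) (g := j))).trans ?_)
    refine (Category.assoc _ _ _).symm.trans (congrArg (· ≫ j) ?_)
    refine (Category.assoc _ _ _).trans ((congrArg (_ ≫ ·)
      (pullback.condition (f := ((EtCoh.bc j).obj ((EtCoh.bc π).obj V)).hom) (g := g'))).trans ?_)
    exact (Category.assoc _ _ _).symm.trans (congrArg (· ≫ g') (MorphismProperty.Over.w k))
  exact bc_bc_hom_ext (pullback.hom_ext e ((hs m).trans (hs m').symm))

theorem bcHom_comp (F : EtCoh.Ab X) :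
    (EtCoh.pull g).map ((compHom j π).app F) ≫ (bcHom (h₁.paste_vert h₂)).app F =
      (bcHom h₂).app ((shriek j).obj F) ≫ (shriek π').map ((bcHom h₁).app F) ≫
        (compHom j' π').app ((EtCoh.pull g').obj F) := by
  apply ((EtCoh.pullPushAdj g).homEquiv _ _).injective
  refine ((EtCoh.pullPushAdj g).homEquiv_naturality_left _ _).trans ?_
  refine Eq.trans ?_ ((EtCoh.pullPushAdj g).homEquiv_naturality_right _ _).symm
  refine (congrArg (_ ≫ ·) (Equiv.apply_symm_apply _ _)).trans ?_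
  refine Eq.trans ?_ (congrArg (· ≫ _) (Equiv.apply_symm_apply _ _)).symm
  ext V σ
  refine Subtype.ext ?_
  let V₀ := V.unop
  let F' := (EtCoh.pull g').obj F
  let W := (EtCoh.bc π).obj V₀
  let cp := cMap π g π' g₂ h₂.w V₀
  let σ₁ : EtCoh.sect ((shriek j).obj F) W := σ.1
  show ((bcAdjunct (h₁.paste_vert h₂) F).hom.app (op V₀) (((compHom j π).app F).hom.app (op V₀) σ)).1 =
    F'.obj.map ((bcComp j' π').hom.app ((EtCoh.bc g).obj V₀)).op
      (((bcHom h₁).app F).hom.app (op ((EtCoh.bc π').obj ((EtCoh.bc g).obj V₀)))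
        ((bcAdjunct h₂ ((shriek j).obj F)).hom.app (op V₀) σ).1).1
  rw [bcAdjunct_val, bcAdjunct_val]
  have e1 : ((bcHom h₁).app F).hom.app (op ((EtCoh.bc π').obj ((EtCoh.bc g).obj V₀)))
      (((EtCoh.pull g₂).obj ((shriek j).obj F)).obj.map cp.op
        (((EtCoh.pullPushAdj g₂).unit.app ((shriek j).obj F)).hom.app (op W) σ₁)) =
      ((shriek j').obj F').obj.map cp.op ((bcAdjunct h₁ F).hom.app (op W) σ₁) :=
    (NatTrans.naturality_apply ((bcHom h₁).app F).hom cp.op _).trans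
      (congrArg _ (bcHom_unit h₁ F W σ₁))
  rw [e1]
  show F'.obj.map (cMap (j ≫ π) g (j' ≫ π') g' _ V₀).op
      (((EtCoh.pullPushAdj g').unit.app F).hom.app (op ((EtCoh.bc (j ≫ π)).obj V₀))
        (F.obj.map ((bcComp j π).hom.app V₀).op σ₁.1)) =
    F'.obj.map ((bcComp j' π').hom.app ((EtCoh.bc g).obj V₀)).op
      (F'.obj.map ((EtCoh.bc j').map cp).op ((bcAdjunct h₁ F).hom.app (op W) σ₁).1)
  rw [bcAdjunct_val]
  have e2 := NatTrans.naturality_apply ((EtCoh.pullPushAdj g').unit.app F).hom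
    ((bcComp j π).hom.app V₀).op σ₁.1
  refine (congrArg _ e2).trans ?_
  show F'.obj.map (cMap (j ≫ π) g (j' ≫ π') g' _ V₀).op
      (F'.obj.map ((EtCoh.bc g').map ((bcComp j π).hom.app V₀)).op _) = _
  refine (S0728.map_comp' F' _ _ _).symm.trans ?_
  refine Eq.trans ?_ (S0728.map_comp' F' _ _ _)
  refine Eq.trans ?_ (S0728.map_comp' F' _ _ _)
  refine congrArg (fun k => F'.obj.map (Quiver.Hom.op k) _) (bc_bc_bc_hom_ext ?_)
  let k₁ := cMap (j ≫ π) g (j' ≫ π') g' (h₁.paste_vert h₂).w V₀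
  let P := (EtCoh.bc g).obj V₀
  show (((k₁.left ≫ ((EtCoh.bc g').map ((bcComp j π).hom.app V₀)).left) ≫
      pullback.fst ((EtCoh.bc j).obj W).hom g') ≫ prV j W) ≫ prV π V₀ =
    (((((bcComp j' π').hom.app P).left ≫ ((EtCoh.bc j').map cp).left ≫ (cMap j g₂ j' g' h₁.w W).left) ≫
      pullback.fst ((EtCoh.bc j).obj W).hom g') ≫ prV j W) ≫ prV π V₀
  simp only [Category.assoc]
  rw [reassoc_of% (bc_map_fst g' ((bcComp j π).hom.app V₀))]
  refine (congrArg (fun q => k₁.left ≫ pullback.fst _ _ ≫ q) (bcComp_prV j π V₀)).trans ?_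
  refine (cMap_fst_fst (j ≫ π) g (j' ≫ π') g' (h₁.paste_vert h₂).w V₀).trans ?_
  refine Eq.symm ?_
  rw [reassoc_of% (cMap_fst_fst j g₂ j' g' h₁.w W), reassoc_of% (bc_map_fst j' cp)]
  refine (congrArg (fun q => _ ≫ pullback.fst _ _ ≫ q) (cMap_fst_fst π g π' g₂ h₂.w V₀)).trans ?_
  rw [← Category.assoc ((bcComp j' π').hom.app P).left]
  refine (Category.assoc _ _ _).symm.trans (congrArg (· ≫ pullback.fst V₀.hom g) ?_)
  exact (Category.assoc _ _ _).trans (bcComp_prV j' π' P)

end Comp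

section Glue

/-- Base change for direct images with proper support holds along `f`. -/
def BC {X Y : Scheme.{u}} (f : X ⟶ Y) [LocallyOfFiniteType f] : Prop :=
  ∀ ⦃X' Y' : Scheme.{u}⦄ (g : Y' ⟶ Y) (f' : X' ⟶ Y') (g' : X' ⟶ X) [LocallyOfFiniteType f']
    (h : IsPullback g' f' f g) (F : EtCoh.Ab X), IsIso ((bcHom h).app F)

theorem bc_of_lqf {X Y : Scheme.{u}} (f : X ⟶ Y) [IsSeparated f] [LocallyOfFiniteType f]
    [LocallyQuasiFinite f] : BC f := fun _ _ g f' g' _ h F =>
  isIso_of_stalk_algClosed _ fun Ω _ _ η =>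
    ⟨bcHom_stalk_injective h η F, bcHom_stalk_surjective_of_lqf h η F⟩

theorem bc_of_isProper {X Y : Scheme.{u}} (f : X ⟶ Y) [IsProper f] : BC f := fun _ _ g f' g' _ h F =>
  haveI : IsProper f' := MorphismProperty.of_isPullback (P := @IsProper) h ‹_›
  isIso_bcHom_of_isProper h F

theorem isIso_compHom {X M Y : Scheme.{u}} (j : X ⟶ M) (π : M ⟶ Y) [LocallyOfFiniteType j]
    [LocallyOfFiniteType π] [IsSeparated π] : IsIso (compHom j π) :=
  inferInstanceAs (IsIso (compIso j π).hom)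

theorem bc_comp {X M Y : Scheme.{u}} (j : X ⟶ M) (π : M ⟶ Y) [LocallyOfFiniteType j]
    [LocallyOfFiniteType π] [IsSeparated π] (hj : BC j) (hπ : BC π) : BC (j ≫ π) := by
  intro X' Y' g f' g' _ h F
  have h₂ : IsPullback (pullback.fst π g) (pullback.snd π g) π g := IsPullback.of_hasPullback π g
  let j' : X' ⟶ pullback π g := h₂.lift (g' ≫ j) f' ((Category.assoc _ _ _).trans h.w)
  have e : f' = j' ≫ pullback.snd π g := (h₂.lift_snd _ _ _).symm
  have e' : j' ≫ pullback.fst π g = g' ≫ j := h₂.lift_fst _ _ _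
  clear_value j'
  subst e
  have h₁ : IsPullback g' j' j (pullback.fst π g) := IsPullback.of_bot h e'.symm h₂
  haveI : LocallyOfFiniteType j' := MorphismProperty.of_isPullback (P := @LocallyOfFiniteType) h₁ ‹_›
  haveI := isIso_compHom j π
  haveI := isIso_compHom j' (pullback.snd π g)
  haveI := hj (pullback.fst π g) j' g' h₁ F
  haveI := hπ g (pullback.snd π g) (pullback.fst π g) h₂ ((shriek j).obj F)
  haveI : IsIso ((EtCoh.pull g).map ((compHom j π).app F) ≫ (bcHom (h₁.paste_vert h₂)).app F) := by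
    rw [bcHom_comp h₁ h₂]; infer_instance
  exact IsIso.of_isIso_comp_left ((EtCoh.pull g).map ((compHom j π).app F)) _

end Glue

end Groth.Agent.H15Site.Shriek
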