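import Groth.Agent.H15Site.Shriek.Single
import Groth.Agent.H15Site.Shriek.EtaleIso

/-!
# The stalks of `f_!` for separated locally quasi-finite morphisms
-/

set_option autoImplicit false
set_option linter.style.haveILetI false
set_option linter.overlappingInstances false
set_option linter.unusedSectionVars false
set_option backward.isDefEq.respectTransparency false
set_option backward.isDefEq.respectTransparency.types false

universe u

open CategoryTheory CategoryTheory.Limits AlgebraicGeometry Opposite

namespace Groth.Agent.H15Site.Shriek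

open Groth.Agent.H18Et EtShriek

variable {X Y : Scheme.{u}} (f : X ⟶ Y) [IsSeparated f] [LocallyOfFiniteType f] [LocallyQuasiFinite f]
  {Ω : Type u} [Field Ω] [IsAlgClosed Ω] (η : Spec (CommRingCat.of Ω) ⟶ Y) (F : EtCoh.Ab X)

theorem eq_of_evalW {y y' : (EtCoh.stalk η).obj ((shriek f).obj F)}
    (h : ∀ w, evalW f η F w y = evalW f η F w y') : y = y' :=
  sub_eq_zero.1 (evalW_jointly_injective f η F _ fun w => by rw [map_sub, h, sub_self])

/-- The inclusion of the stalk at a lift. -/
noncomputable def insW (w : H7Weight.Pts f η) :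
    (EtCoh.stalk w.1).obj F ⟶ (EtCoh.stalk η).obj ((shriek f).obj F) :=
  AddCommGrpCat.ofHom (AddMonoidHom.mk' (fun a => (exists_single_germ f F w a).choose) fun a b =>
    eq_of_evalW f η F fun v => by
      rw [map_add]
      rcases eq_or_ne v w with rfl | h
      · rw [(exists_single_germ f F v (a + b)).choose_spec.1, (exists_single_germ f F v a).choose_spec.1,
          (exists_single_germ f F v b).choose_spec.1]
      · rw [(exists_single_germ f F w (a + b)).choose_spec.2 v h, (exists_single_germ f F w a).choose_spec.2 v h,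
          (exists_single_germ f F w b).choose_spec.2 v h, add_zero])

theorem evalW_insW_same (w : H7Weight.Pts f η) (a : (EtCoh.stalk w.1).obj F) :
    evalW f η F w (insW f η F w a) = a :=
  (exists_single_germ f F w a).choose_spec.1

theorem evalW_insW_ne {w v : H7Weight.Pts f η} (h : v ≠ w) (a : (EtCoh.stalk w.1).obj F) :
    evalW f η F v (insW f η F w a) = 0 :=
  (exists_single_germ f F w a).choose_spec.2 v h

/-- The comparison map. -/
noncomputable def stalkMapW :
    (∐ fun w : H7Weight.Pts f η => (EtCoh.stalk w.1).obj F) ⟶ (EtCoh.stalk η).obj ((shriek f).obj F) :=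
  Sigma.desc fun w => insW f η F w

theorem stalkMapW_ι (w : H7Weight.Pts f η) (a : (EtCoh.stalk w.1).obj F) :
    stalkMapW f η F (Sigma.ι (fun w : H7Weight.Pts f η => (EtCoh.stalk w.1).obj F) w a) = insW f η F w a := by
  rw [← ConcreteCategory.comp_apply, stalkMapW, Sigma.ι_desc]

theorem sum_insW (y : (EtCoh.stalk η).obj ((shriek f).obj F)) :
    y = ∑ w ∈ (finite_evalW_ne_zero f η F y).toFinset, insW f η F w (evalW f η F w y) := by
  classical
  refine eq_of_evalW f η F fun v => ?_
  rw [map_sum]
  by_cases hv : evalW f η F v y = 0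
  · rw [hv]
    refine (Finset.sum_eq_zero fun w hw => evalW_insW_ne f η F ?_ _).symm
    rintro rfl
    exact (Set.Finite.mem_toFinset _).1 hw hv
  · rw [Finset.sum_eq_single v]
    · exact (evalW_insW_same f η F v _).symm
    · exact fun w _ hwv => evalW_insW_ne f η F (Ne.symm hwv) _
    · exact fun h => absurd ((Set.Finite.mem_toFinset _).2 hv) h

theorem bijective_stalkMapW : Function.Bijective (stalkMapW f η F) := by
  classical
  refine ⟨(injective_iff_map_eq_zero _).2 fun x hx => ?_, fun y => ?_⟩
  · obtain ⟨s, a, rfl⟩ := coprod_elem _ x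
    rw [map_sum] at hx
    refine Finset.sum_eq_zero fun w hw => ?_
    have h := congrArg (evalW f η F w) hx
    rw [map_sum, map_zero, Finset.sum_eq_single w] at h
    · rw [stalkMapW_ι, evalW_insW_same] at h
      rw [h, map_zero]
    · intro v _ hvw
      rw [stalkMapW_ι]
      exact evalW_insW_ne f η F (Ne.symm hvw) _
    · exact fun h => absurd hw h
  · refine ⟨∑ w ∈ (finite_evalW_ne_zero f η F y).toFinset,
      Sigma.ι (fun w : H7Weight.Pts f η => (EtCoh.stalk w.1).obj F) w (evalW f η F w y), ?_⟩
    rw [map_sum]
    simp only [stalkMapW_ι]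
    exact (sum_insW f η F y).symm

/-- The stalk is the sum of the stalks over the lifts. -/
noncomputable def stalkShriekIso :
    (EtCoh.stalk η).obj ((shriek f).obj F) ≅ ∐ fun w : H7Weight.Pts f η => (EtCoh.stalk w.1).obj F :=
  haveI : IsIso (stalkMapW f η F) := (ConcreteCategory.isIso_iff_bijective _).2 (bijective_stalkMapW f η F)
  (asIso (stalkMapW f η F)).symm

variable {F} in
theorem evalW_naturality {G : EtCoh.Ab X} (α : F ⟶ G) (w : H7Weight.Pts f η)
    (y : (EtCoh.stalk η).obj ((shriek f).obj F)) :
    evalW f η G w ((EtCoh.stalk η).map ((shriek f).map α) y) = (EtCoh.stalk w.1).map α (evalW f η F w y) := by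
  obtain ⟨V, z, t, rfl⟩ := germ_surjective η ((shriek f).obj F) y
  rw [evalW_germ]
  refine (congrArg (evalW f η G w) (germ_naturality η ((shriek f).map α) V z t)).trans ?_
  rw [evalW_germ]
  exact (germ_naturality w.1 α ((EtCoh.bc f).obj V) (bcFib w z) t.1).symm

end Groth.Agent.H15Site.Shriek
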