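import Groth.Agent.S0681
import Groth.Agent.S0683
import Groth.Agent.S0171
import Groth.Agent.H15Site.Shriek.Comp
import Groth.Agent.H15Site.Shriek.Sheaf
import Groth.Agent.H18Et.Support
import Groth.Agent.H18Et.Coh.TorsionRpush
import Groth.Agent.H15Site.Shriek.BaseChangeIso

/-!
# Extensions by zero from schemes quasi-finite over the base have no higher cohomology on geometric fibres
-/

set_option autoImplicit false
set_option linter.style.haveILetI false
set_option linter.unusedSectionVars false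
set_option backward.isDefEq.respectTransparency false
set_option backward.isDefEq.respectTransparency.types false

universe u

open CategoryTheory CategoryTheory.Limits AlgebraicGeometry Opposite
open scoped Groth.Agent.H18Et

namespace Groth.Agent.H15Site.Shriek

theorem not_isZero_imp_exists_point {X Y : Scheme.{u}} (f : X ⟶ Y) [IsSeparated f]
    [LocallyOfFiniteType f] [LocallyQuasiFinite f] (F : EtCoh.Ab X) {Ω : Type u} [Field Ω] [IsAlgClosed Ω]
    (η : Spec (CommRingCat.of Ω) ⟶ Y) (h : ¬ IsZero ((EtCoh.stalk η).obj ((EtShriek.lowerShriek f).obj F))) :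
    ∃ ξ : Spec (CommRingCat.of Ω) ⟶ X, ξ ≫ f = η := by
  by_contra hn
  obtain ⟨e⟩ := S0683.result f F η
  haveI : IsEmpty {ξ : Spec (CommRingCat.of Ω) ⟶ X // ξ ≫ f = η} := ⟨fun ξ => hn ⟨ξ.1, ξ.2⟩⟩
  refine h (IsZero.of_iso ?_ e)
  rw [IsZero.iff_id_eq_zero]
  refine Sigma.hom_ext _ _ fun ξ => isEmptyElim ξ

/-- Torsion can be checked on stalks at algebraically closed points. -/
theorem isTorsion_of_stalk_algClosed {X : Scheme.{u}} (F : EtCoh.Ab X)
    (h : ∀ (Ω : Type u) [Field Ω] [IsAlgClosed Ω] (ξ : Spec (CommRingCat.of Ω) ⟶ X)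
      (p : (EtCoh.stalk ξ).obj F), IsOfFinAddOrder p) : EtCoh.IsTorsion F := by
  intro U s x
  let a : Spec (CommRingCat.of (AlgebraicClosure (X.residueField (U.hom.base x)))) ⟶ X :=
    (Scheme.SpecToEquivOfField _ _).symm ⟨U.hom.base x, CommRingCat.ofHom (algebraMap (X.residueField (U.hom.base x)) _)⟩
  have ha : a.base default = U.hom.base x := by simp [a]
  obtain ⟨z, hz⟩ := H18Et.exists_fiber_over x a ha
  obtain ⟨m, hm, hmz⟩ := (h _ a (H18Et.germ a F U z s)).exists_nsmul_eq_zero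
  obtain ⟨V, g, y, hy, he⟩ := (H18Et.germ_eq_iff _ F U z (m • s) 0).1
    ((map_nsmul _ m s).trans (hmz.trans (map_zero _).symm))
  rw [map_nsmul, map_zero] at he
  exact ⟨V, g, ⟨H18Et.ptOf y, (H18Et.ptOf_map g y).trans ((congrArg H18Et.ptOf hy).trans hz)⟩,
    isOfFinAddOrder_iff_nsmul_eq_zero.2 ⟨m, hm, he⟩⟩

/-- Coproducts of torsion groups are torsion. -/
theorem isOfFinAddOrder_coprod {ι : Type u} (A : ι → AddCommGrpCat.{u + 1})
    (h : ∀ i (a : A i), IsOfFinAddOrder a) (p : ↥(∐ A)) : IsOfFinAddOrder p := by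
  let T := AddCommGroup.torsion ↥(∐ A)
  let incl : AddCommGrpCat.of T ⟶ ∐ A := AddCommGrpCat.ofHom T.subtype
  let s : (∐ A) ⟶ AddCommGrpCat.of T := Sigma.desc fun i =>
    AddCommGrpCat.ofHom (AddMonoidHom.codRestrict (Sigma.ι A i).hom T fun a =>
      AddMonoidHom.isOfFinAddOrder (Sigma.ι A i).hom (h i a))
  have hs : s ≫ incl = 𝟙 _ := Sigma.hom_ext _ _ fun i => by
    rw [Sigma.ι_desc_assoc, Category.comp_id]
    rfl
  have := ConcreteCategory.congr_hom hs p
  change ((s p) : ↥(∐ A)) = p at this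
  exact this ▸ (s p).2

/-- Extension by zero along a quasi-finite separated morphism preserves torsion. -/
theorem isTorsion_lowerShriek {X Y : Scheme.{u}} (f : X ⟶ Y) [IsSeparated f] [LocallyOfFiniteType f]
    [LocallyQuasiFinite f] (F : EtCoh.Ab X) (hF : EtCoh.IsTorsion F) :
    EtCoh.IsTorsion ((EtShriek.lowerShriek f).obj F) := by
  refine isTorsion_of_stalk_algClosed _ fun Ω _ _ ξ p => ?_
  obtain ⟨e⟩ := S0683.result f F ξ
  have h1 := isOfFinAddOrder_coprod _ (fun i a => (H18Et.Coh.isTorsion_iff_stalk F).1 hF Ω i.1 a) (e.hom p)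
  have h2 := AddMonoidHom.isOfFinAddOrder e.inv.hom h1
  rwa [show e.inv.hom (e.hom p) = p from ConcreteCategory.congr_hom e.hom_inv_id p] at h2

variable {X Y Z : Scheme.{u}} (f : X ⟶ Y) (h : Y ⟶ Z) [IsSeparated f] [LocallyOfFiniteType f]
  [LocallyQuasiFinite f] [LocallyQuasiFinite (f ≫ h)] [LocallyOfFiniteType (f ≫ h)] [IsProper h]

theorem subsingleton_H_fibre_shriek {Ω : Type u} [Field Ω] [IsSepClosed Ω]
    (ξ : Spec (CommRingCat.of Ω) ⟶ Z) (F : EtCoh.Ab X) (q : ℕ) (hq : 0 < q) :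
    Subsingleton (EtCoh.H (pullback h ξ) ((EtCoh.pull (pullback.fst h ξ)).obj ((EtShriek.lowerShriek f).obj F)) q) := by
  let p := pullback.fst h ξ
  refine S0171.result (pullback h ξ) (pullback.snd h ξ) _ (fun z hz => ?_) q hq
  let f' := pullback.snd f p
  let g' := pullback.fst f p
  obtain ⟨e⟩ := S0681.result f p f' g' (IsPullback.of_hasPullback f p) F
  let a : Spec (CommRingCat.of (AlgebraicClosure ((pullback h ξ).residueField z))) ⟶ pullback h ξ :=
    (Scheme.SpecToEquivOfField _ _).symm ⟨z, CommRingCat.ofHom (algebraMap ((pullback h ξ).residueField z) _)⟩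
  have ha : a.base default = z := by simp [a]
  have hne : ¬ IsZero ((EtCoh.stalk a).obj ((EtShriek.lowerShriek f').obj ((EtCoh.pull g').obj F))) := by
    intro h0
    obtain ⟨U, u, s, hu, hs⟩ := (H18Et.mem_supp_iff _ z a ha).1 hz
    obtain ⟨w, hw⟩ := H18Et.exists_fiber_over u a (ha.trans hu.symm)
    have := AddCommGrpCat.isZero_iff_subsingleton.1 (h0.of_iso ((EtCoh.stalk a).mapIso e).symm)
    exact (H18Et.germ_eq_zero_iff _ w s).1 (Subsingleton.elim _ _) (hw ▸ hs)
  obtain ⟨b, hb⟩ := not_isZero_imp_exists_point f' _ a hne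
  let x := b.base default
  have hbc : IsPullback (f' ≫ pullback.snd h ξ) g' ξ (f ≫ h) :=
    ((IsPullback.of_hasPullback f p).paste_vert (IsPullback.of_hasPullback h ξ)).flip
  haveI : LocallyQuasiFinite (f' ≫ pullback.snd h ξ) :=
    MorphismProperty.of_isPullback (P := @LocallyQuasiFinite) hbc.flip ‹_›
  haveI : LocallyOfFiniteType (f' ≫ pullback.snd h ξ) :=
    MorphismProperty.of_isPullback (P := @LocallyOfFiniteType) hbc.flip ‹_›
  have hd := (f' ≫ pullback.snd h ξ).isDiscrete_preimage_singleton default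
  rw [show ((f' ≫ pullback.snd h ξ) ⁻¹' {default}) = Set.univ from
    Set.eq_univ_of_forall fun _ => Subsingleton.elim _ _] at hd
  haveI : DiscreteTopology ↥(pullback f p) := isDiscrete_univ_iff.1 hd
  haveI : JacobsonSpace ↥(pullback h ξ) := LocallyOfFiniteType.jacobsonSpace (pullback.snd h ξ)
  haveI : LocallyOfFiniteType f' := inferInstance
  have hx : x ∈ closedPoints ↥(pullback f p) := isClosed_discrete _
  have hz' := f'.closePoints_subset_preimage_closedPoints hx
  have hfx : f'.base x = z := by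
    rw [← ha, ← hb]
    rfl
  rw [Set.mem_preimage, hfx] at hz'
  exact hz'

/-- `R^q h_*` kills extensions by zero from schemes quasi-finite over the base, given proper base change. -/
theorem isZero_Rpush_shriek (q : ℕ) (hq : 0 < q) (F : EtCoh.Ab X)
    (hbc : ∀ (Ω : Type u) [Field Ω] [IsSepClosed Ω] (ξ : Spec (CommRingCat.of Ω) ⟶ Z),
      Nonempty ((EtCoh.stalk ξ).obj ((EtCoh.Rpush h q).obj ((EtShriek.lowerShriek f).obj F)) ≅
        AddCommGrpCat.of (EtCoh.H (pullback h ξ)
          ((EtCoh.pull (pullback.fst h ξ)).obj ((EtShriek.lowerShriek f).obj F)) q))) :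
    IsZero ((EtCoh.Rpush h q).obj ((EtShriek.lowerShriek f).obj F)) := by
  rw [H18Et.isZero_iff_stalk]
  intro Ω _ _ ξ
  obtain ⟨e⟩ := hbc Ω ξ
  refine IsZero.of_iso ?_ e
  haveI := subsingleton_H_fibre_shriek f h ξ F q hq
  exact AddCommGrpCat.isZero_of_subsingleton _

/-- `g_! ≅ h_* f_!` for `g = f ≫ h` with `h` proper. -/
noncomputable def shriekCompProperIso : EtShriek.lowerShriek (f ≫ h) ≅ EtShriek.lowerShriek f ⋙ EtCoh.push h :=
  (lowerShriekCompIso f h).symm ≪≫ Functor.isoWhiskerLeft _ (shriekPushIso h)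

end Groth.Agent.H15Site.Shriek
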