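import Groth.Agent.H15Site.Shriek.RpushAcyclic
import Groth.Agent.H15Site.Shriek.FibreVanish
import Groth.Agent.H15Site.Shriek.LqfVanish
import Groth.Agent.H15Site.Shriek.Exact
import Groth.Agent.H10Coh.DerivedShift
import Groth.Agent.H18Et.BaseChange

/-!
# Extension by zero commutes with proper direct images, given proper base change on stalks
-/

set_option autoImplicit false
set_option linter.style.haveILetI false
set_option linter.unusedSectionVars false
set_option backward.isDefEq.respectTransparency false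
set_option backward.isDefEq.respectTransparency.types false

universe u

open CategoryTheory CategoryTheory.Limits AlgebraicGeometry Opposite
open scoped Groth.Agent.H18Et

namespace Groth.Agent.H15Site.Shriek

attribute [local instance] Groth.Agent.H18Et.pull_preservesFiniteLimits

/-- Proper base change on stalks, for torsion sheaves. -/
def StalkBC : Prop :=
  ∀ {A B : Scheme.{u}} (h : A ⟶ B) [IsProper h] {Ω : Type u} [Field Ω] [IsSepClosed Ω]
    (ξ : Spec (CommRingCat.of Ω) ⟶ B) (F : EtCoh.Ab A), EtCoh.IsTorsion F → ∀ n : ℕ,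
    Nonempty ((EtCoh.stalk ξ).obj ((EtCoh.Rpush h n).obj F) ≅
      AddCommGrpCat.of (EtCoh.H (pullback h ξ) ((EtCoh.pull (pullback.fst h ξ)).obj F) n))

theorem isTorsion_of_epi' {X : Scheme.{u}} {F G : EtCoh.Ab X} (p : F ⟶ G) [Epi p] (hF : EtCoh.IsTorsion F) :
    EtCoh.IsTorsion G := by
  rw [H18Et.Coh.isTorsion_iff_stalk] at hF ⊢
  intro Ω _ _ ξ x
  obtain ⟨y, rfl⟩ := (AddCommGrpCat.epi_iff_surjective _).1
    ((H18Et.epi_iff_stalk p).1 inferInstance Ω ξ) x
  exact AddMonoidHom.isOfFinAddOrder _ (hF Ω ξ y)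

variable {X Y X' Y' : Scheme.{u}} (f : X ⟶ Y) (g : Y' ⟶ Y) (f' : X' ⟶ Y') (g' : X' ⟶ X)
  [IsProper f] [IsProper f'] [IsSeparated g] [LocallyOfFiniteType g] [LocallyQuasiFinite g]
  [IsSeparated g'] [LocallyOfFiniteType g'] [LocallyQuasiFinite g']

/-- The comparison in degree zero. -/
noncomputable def degZeroIso (w : g' ≫ f = f' ≫ g) :
    EtCoh.push f' ⋙ EtShriek.lowerShriek g ≅ EtShriek.lowerShriek g' ⋙ EtCoh.push f :=
  Functor.isoWhiskerRight (shriekPushIso f').symm _ ≪≫ lowerShriekCompIso f' g ≪≫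
    eqToIso (by rw [w]) ≪≫ (lowerShriekCompIso g' f).symm ≪≫ Functor.isoWhiskerLeft _ (shriekPushIso f)

/-- Extension by zero preserves short exact sequences. -/
theorem shortExact_map_lowerShriek {A B : Scheme.{u}} (a : A ⟶ B) [IsSeparated a] [LocallyOfFiniteType a]
    [LocallyQuasiFinite a] : PreservesFiniteLimits (EtShriek.lowerShriek a) ∧
      PreservesFiniteColimits (EtShriek.lowerShriek a) := by
  obtain ⟨h1, h2⟩ := preservesFiniteLimits_and_colimits a
  haveI := h1
  haveI := h2
  exact ⟨preservesFiniteLimits_of_natIso (shriekIso a).symm, preservesFiniteColimits_of_natIso (shriekIso a).symm⟩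

/-- Sheaves acyclic for `f'` become acyclic for `f` after extension by zero. -/
theorem isZero_Rpush_lowerShriek (hbc : StalkBC.{u}) (w : g' ≫ f = f' ≫ g) (G : EtCoh.Ab X')
    (hG : EtCoh.IsTorsion G) (q : ℕ) (hq : IsZero ((EtCoh.Rpush f' q).obj G)) :
    IsZero ((EtCoh.Rpush f q).obj ((EtShriek.lowerShriek g').obj G)) := by
  refine H1DFun.isZero_of_stalks _ fun Ω _ _ ξ => ?_
  obtain ⟨e⟩ := hbc f ξ _ (isTorsion_lowerShriek g' G hG) q
  suffices h : Subsingleton (EtCoh.H (pullback f ξ)
      ((EtCoh.pull (pullback.fst f ξ)).obj ((EtShriek.lowerShriek g').obj G)) q) from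
    @Equiv.subsingleton _ _ e.addCommGroupIsoToAddEquiv.toEquiv h
  let p := pullback.fst f ξ
  let π := pullback.snd f ξ
  let q₀ := pullback.snd g ξ
  let a := pullback.fst g' p
  let g'' := pullback.snd g' p
  obtain ⟨e₁⟩ := S0681.result g' p g'' a (IsPullback.of_hasPullback g' p) G
  refine subsingleton_H_of_iso e₁ q ?_
  have hw : (a ≫ f') ≫ g = (g'' ≫ π) ≫ ξ := by
    rw [Category.assoc, ← w, ← Category.assoc, pullback.condition, Category.assoc, pullback.condition,
      ← Category.assoc]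
  let b : pullback g' p ⟶ pullback g ξ := pullback.lift (a ≫ f') (g'' ≫ π) hw
  have hout : IsPullback a (g'' ≫ π) (f' ≫ g) ξ := by
    rw [← w]
    exact (IsPullback.of_hasPullback g' p).paste_vert (IsPullback.of_hasPullback f ξ)
  have hb : IsPullback a b f' (pullback.fst g ξ) := by
    refine IsPullback.of_bot (v₂₁ := q₀) (v₂₂ := g) (h₃₁ := ξ) ?_ ?_ (IsPullback.of_hasPullback g ξ)
    · rw [pullback.lift_snd]; exact hout
    · exact (pullback.lift_fst _ _ _).symm
  haveI : IsProper b := MorphismProperty.of_isPullback hb ‹IsProper f'›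
  haveI : LocallyQuasiFinite q₀ := MorphismProperty.pullback_snd (P := @LocallyQuasiFinite) _ _ inferInstance
  haveI : LocallyOfFiniteType q₀ := inferInstance
  refine subsingleton_H_shriek_discrete q₀ g'' π b _ q (pullback.lift_snd _ _ _).symm fun η hη => ?_
  let η' := η ≫ pullback.fst g ξ
  have hf : IsPullback (pullback.fst b η ≫ a) (pullback.snd b η) f' η' :=
    (IsPullback.of_hasPullback b η).paste_horiz hb
  let i := hf.isoPullback
  obtain ⟨e₂⟩ := hbc f' η' G hG q
  have h0 : Subsingleton (EtCoh.H (pullback f' η') ((EtCoh.pull (pullback.fst f' η')).obj G) q) :=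
    @Equiv.subsingleton _ _ e₂.addCommGroupIsoToAddEquiv.symm.toEquiv
      (AddCommGrpCat.subsingleton_of_isZero ((EtCoh.stalk η').map_isZero hq))
  have h1 := (subsingleton_H_iff_surjective_closed i.hom _ q).1 h0
  have hfst : i.hom ≫ pullback.fst f' η' = pullback.fst b η ≫ a := hf.isoPullback_hom_fst
  refine subsingleton_H_of_iso (((EtCore.pullComp i.hom (pullback.fst f' η')).app G).symm ≪≫ eqToIso (by rw [hfst]) ≪≫
    (EtCore.pullComp (pullback.fst b η) a).app G) q h1

/-- **`g_!` commutes with higher direct images along proper morphisms.** -/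
theorem nonempty_lowerShriek_Rpush (hbc : StalkBC.{u}) (w : g' ≫ f = f' ≫ g) :
    ∀ (q : ℕ) (F : EtCoh.Ab X'), EtCoh.IsTorsion F →
      Nonempty ((EtShriek.lowerShriek g).obj ((EtCoh.Rpush f' q).obj F) ≅
        (EtCoh.Rpush f q).obj ((EtShriek.lowerShriek g').obj F)) := by
  haveI := (shortExact_map_lowerShriek g).1
  haveI := (shortExact_map_lowerShriek g).2
  haveI := (shortExact_map_lowerShriek g').1
  haveI := (shortExact_map_lowerShriek g').2
  haveI : PreservesFiniteLimits (EtCoh.push f) :=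
    haveI : (EtCoh.push f).IsRightAdjoint := ⟨_, ⟨EtCoh.pullPushAdj f⟩⟩
    inferInstance
  haveI : PreservesFiniteLimits (EtCoh.push f') :=
    haveI : (EtCoh.push f').IsRightAdjoint := ⟨_, ⟨EtCoh.pullPushAdj f'⟩⟩
    inferInstance
  haveI : (EtShriek.lowerShriek g').Additive := Functor.additive_of_preserves_binary_products _
  let φ := degZeroIso f g f' g' w
  have step : ∀ F : EtCoh.Ab X', EtCoh.IsTorsion F →
      ∃ (S : ShortComplex (EtCoh.Ab X')) (_ : S.ShortExact), S.X₁ = F ∧ EtCoh.IsTorsion S.X₃ ∧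
        H16Derived.AcyclicLES.IsAcyclic (EtCoh.push f') S.X₂ ∧
        H16Derived.AcyclicLES.IsAcyclic (EtCoh.push f) ((EtShriek.lowerShriek g').obj S.X₂) := by
    intro F hF
    obtain ⟨G, ι, hι, hG, hz⟩ := exists_mono_torsion_Rpush_acyclic f' F hF
    refine ⟨ShortComplex.mk ι (cokernel.π ι) (cokernel.condition ι),
      { exact := ShortComplex.exact_of_g_is_cokernel _ (cokernelIsCokernel ι) }, rfl,
      isTorsion_of_epi' (cokernel.π ι) hG, fun i hi => hz i hi,
      fun i hi => isZero_Rpush_lowerShriek f g f' g' hbc w G hG i (hz i hi)⟩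
  intro q
  induction q with
  | zero =>
    intro F _
    exact ⟨(EtShriek.lowerShriek g).mapIso ((Functor.rightDerivedZeroIsoSelf (EtCoh.push f')).app F) ≪≫
      φ.app F ≪≫ ((Functor.rightDerivedZeroIsoSelf (EtCoh.push f)).app _).symm⟩
  | succ q ih =>
    intro F hF
    obtain ⟨S, hS, rfl, h3, ha, ha'⟩ := step F hF
    have hS' := hS.map_of_exact (EtShriek.lowerShriek g')
    match q, ih with
    | 0, _ =>
      obtain ⟨e⟩ := H10Coh.nonempty_rightDerived_one (EtCoh.push f') hS ha
      obtain ⟨e'⟩ := H10Coh.nonempty_rightDerived_one (EtCoh.push f) hS' ha'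
      exact ⟨(EtShriek.lowerShriek g).mapIso e ≪≫
        (PreservesCokernel.iso (EtShriek.lowerShriek g) ((EtCoh.push f').map S.g)) ≪≫
        cokernel.mapIso _ _ (φ.app S.X₂) (φ.app S.X₃) (φ.hom.naturality S.g) ≪≫ e'.symm⟩
    | m + 1, ih =>
      obtain ⟨e⟩ := H10Coh.nonempty_rightDerived_shift (EtCoh.push f') hS ha m
      obtain ⟨e'⟩ := H10Coh.nonempty_rightDerived_shift (EtCoh.push f) hS' ha' m
      obtain ⟨r⟩ := ih S.X₃ h3
      exact ⟨(EtShriek.lowerShriek g).mapIso e ≪≫ r ≪≫ e'.symm⟩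

end Groth.Agent.H15Site.Shriek
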