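import Groth.Agent.H15Site.Shriek.Stalk
import Groth.Agent.H15Site.Shriek.Exact
import Groth.Agent.H15Site.Shriek.Comp
import Groth.Agent.H18PBC.DegreeZero

/-!
# The base change morphism for direct images with proper support
-/

set_option autoImplicit false
set_option linter.style.haveILetI false
set_option linter.overlappingInstances false
set_option linter.unusedSectionVars false
set_option backward.isDefEq.respectTransparency false
set_option backward.isDefEq.respectTransparency.types false

universe u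

open CategoryTheory CategoryTheory.Limits AlgebraicGeometry Opposite

namespace Groth.Agent.H15Site.Shriek

open Groth.Agent.H18Et EtShriek H15Site.SetDescent H18PBC.DegZero

/-- The algebraically closed point over a point. -/
theorem algPt_eq {S : Scheme.{u}} (x : S) (a : Spec (CommRingCat.of (AlgebraicClosure (S.residueField x)))) :
    (algPt x).base a = x :=
  (congrArg (algPt x).base (Subsingleton.elim a default)).trans (algPt_base x)

theorem fiberCompIso_hom_inv_apply {X X' : Scheme.{u}} {Ω : Type u} [Field Ω] [IsSepClosed Ω] (g : X' ⟶ X)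
    (ξ : Spec (CommRingCat.of Ω) ⟶ X') (U : X.Etale)
    (z : (Scheme.pointSmallEtale ξ).fiber.obj ((EtCoh.bc g).obj U)) :
    (fiberCompIso g ξ).inv.app U ((fiberCompIso g ξ).hom.app U z) = z := by
  have h := ConcreteCategory.congr_hom ((fiberCompIso g ξ).hom_inv_id_app U) z
  simpa using h

/-- The support of a pulled back section is the preimage of the support. -/
theorem sectSupp_unit {X X' : Scheme.{u}} (g : X' ⟶ X) [EtCoh.BCCont g] (F : EtCoh.Ab X) (U : X.Etale)
    (s : EtCoh.sect F U) :
    sectSupp ((EtCoh.pull g).obj F) ((EtCoh.bc g).obj U)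
        (((EtCoh.pullPushAdj g).unit.app F).hom.app (op U) s) =
      (pullback.fst U.hom g) ⁻¹' sectSupp F U s := by
  ext p
  let l := algPt (Y := ((EtCoh.bc g).obj U).left) p
  let ξ := l ≫ ((EtCoh.bc g).obj U).hom
  obtain ⟨z, hzl⟩ : ∃ z : (Scheme.pointSmallEtale ξ).fiber.obj ((EtCoh.bc g).obj U), z.left = l :=
    ⟨Over.homMk l rfl, rfl⟩
  obtain ⟨v, rfl⟩ : ∃ v, v = (fiberCompIso g ξ).hom.app U z := ⟨_, rfl⟩
  have hz := fiberCompIso_hom_inv_apply g ξ U z
  have hp : ptOf z = p := by
    show z.left.base _ = p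
    rw [hzl]
    exact algPt_eq p _
  have hv : ptOf ((fiberCompIso g ξ).hom.app U z) = pullback.fst U.hom g p := by
    show (((fiberCompIso g ξ).hom.app U z).left).base _ = _
    rw [fiberCompIso_hom_left]
    refine (Scheme.Hom.comp_apply _ (pullback.fst U.hom g) _).trans (congrArg _ ?_)
    exact hp
  have key : germ ξ ((EtCoh.pull g).obj F) ((EtCoh.bc g).obj U) z
        (((EtCoh.pullPushAdj g).unit.app F).hom.app (op U) s) =
      (stalkPullIso g ξ).inv.app F (germ (ξ ≫ g) F U ((fiberCompIso g ξ).hom.app U z) s) := by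
    rw [stalkPullIso_inv_germ, hz]
  have h1 := germ_eq_zero_iff ((EtCoh.pull g).obj F) z (((EtCoh.pullPushAdj g).unit.app F).hom.app (op U) s)
  have h2 := germ_eq_zero_iff F ((fiberCompIso g ξ).hom.app U z) s
  rw [hp] at h1
  rw [hv] at h2
  refine not_iff_not.1 (h1.symm.trans (Iff.trans ?_ h2))
  rw [key]
  exact map_eq_zero_iff _ (ConcreteCategory.bijective_of_isIso ((stalkPullIso g ξ).inv.app F)).1

section Defs

variable {X Y X' Y' : Scheme.{u}} {f : X ⟶ Y} {g : Y' ⟶ Y} {f' : X' ⟶ Y'} {g' : X' ⟶ X}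
  (h : IsPullback g' f' f g) [EtCoh.BCCont f] [EtCoh.BCCont g] [EtCoh.BCCont f'] [EtCoh.BCCont g']

/-- The map of the base changes of an etale neighbourhood. -/
noncomputable abbrev kMap (V : Y.Etale) :
    ((EtCoh.bc f').obj ((EtCoh.bc g).obj V)).left ⟶ ((EtCoh.bc f).obj V).left :=
  (cMap f g f' g' h.w V).left ≫ pullback.fst ((EtCoh.bc f).obj V).hom g'

theorem kMap_fst (V : Y.Etale) :
    kMap h V ≫ pullback.fst V.hom f = prV f' ((EtCoh.bc g).obj V) ≫ pullback.fst V.hom g :=
  (Category.assoc _ _ _).trans (cMap_fst_fst f g f' g' h.w V)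

theorem kMap_snd (V : Y.Etale) :
    kMap h V ≫ pullback.snd V.hom f = pullback.snd ((EtCoh.bc g).obj V).hom f' ≫ g' := by
  refine (Category.assoc _ _ _).trans ((congrArg (_ ≫ ·)
    (pullback.condition (f := ((EtCoh.bc f).obj V).hom) (g := g'))).trans ?_)
  refine (Category.assoc _ _ _).symm.trans (congrArg (· ≫ g') ?_)
  exact MorphismProperty.Over.w (cMap f g f' g' h.w V)

theorem isPullback_kMap (V : Y.Etale) :
    IsPullback (kMap h V) (prV f' ((EtCoh.bc g).obj V)) (prV f V) (pullback.fst V.hom g) := by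
  have h1 : IsPullback (pullback.snd ((EtCoh.bc g).obj V).hom f' ≫ g') (prV f' ((EtCoh.bc g).obj V)) f
      (((EtCoh.bc g).obj V).hom ≫ g) :=
    (IsPullback.of_hasPullback ((EtCoh.bc g).obj V).hom f').flip.paste_horiz h
  have e : ((EtCoh.bc g).obj V).hom ≫ g = pullback.fst V.hom g ≫ V.hom := pullback.condition.symm
  rw [e, ← kMap_snd h V] at h1
  exact IsPullback.of_right h1 (kMap_fst h V) (IsPullback.of_hasPullback V.hom f).flip

variable [LocallyOfFiniteType f] [LocallyOfFiniteType f']

/-- Pull back of a section with proper support has proper support. -/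
theorem bcSect_mem (F : EtCoh.Ab X) (V : Y.Etale) (s : EtCoh.sect ((shriek f).obj F) V) :
    ((EtCoh.pull g').obj F).obj.map (cMap f g f' g' h.w V).op
        (((EtCoh.pullPushAdj g').unit.app F).hom.app (op ((EtCoh.bc f).obj V)) s.1) ∈
      shriekSubgroup f' ((EtCoh.pull g').obj F) ((EtCoh.bc g).obj V) := by
  refine (mem_iff f' _ _).2 ?_
  rw [sectSupp_map, sectSupp_unit, ← Set.preimage_comp]
  exact isProperOver_baseChange (isPullback_kMap h V) ((mem_iff f F s.1).1 s.2)

/-- The adjoint of the base change morphism, into the direct image. -/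
noncomputable def bcPush : EtCoh.push f ⟶ EtCoh.pull g' ⋙ EtCoh.push f' ⋙ EtCoh.push g :=
  Functor.whiskerRight (EtCoh.pullPushAdj g').unit (EtCoh.push f) ≫
    Functor.whiskerLeft (EtCoh.pull g') ((EtCoh.pushComp f g').hom ≫ (EtCoh.pushCongr h.w).hom ≫
      (EtCoh.pushComp g f').inv)

omit [LocallyOfFiniteType f] [LocallyOfFiniteType f'] in
theorem bcPush_apply (F : EtCoh.Ab X) (V : Y.Etale) (s : EtCoh.sect ((EtCoh.push f).obj F) V) :
    ((bcPush h).app F).hom.app (op V) s = ((EtCoh.pull g').obj F).obj.map (cMap f g f' g' h.w V).op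
      (((EtCoh.pullPushAdj g').unit.app F).hom.app (op ((EtCoh.bc f).obj V)) s) := by
  unfold cMap
  rw [op_comp, op_comp, Functor.map_comp_apply, Functor.map_comp_apply]
  rfl

/-- The adjoint of the base change morphism. -/
noncomputable def bcAdjunct (F : EtCoh.Ab X) :
    (shriek f).obj F ⟶ (EtCoh.push g).obj ((shriek f').obj ((EtCoh.pull g').obj F)) :=
  ⟨{ app := fun V => AddCommGrpCat.ofHom
      (((((incl f).app F ≫ (bcPush h).app F).hom.app V).hom).codRestrict
        (shriekSubgroup f' ((EtCoh.pull g').obj F) ((EtCoh.bc g).obj V.unop)) fun s => by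
          show ((bcPush h).app F).hom.app (op V.unop) s.1 ∈ _
          rw [bcPush_apply]
          exact bcSect_mem h F V.unop s)
     naturality := fun V V' φ => by
      ext s
      exact Subtype.ext (ConcreteCategory.congr_hom (((incl f).app F ≫ (bcPush h).app F).hom.naturality φ) s) }⟩

theorem bcAdjunct_val (F : EtCoh.Ab X) (V : Y.Etale) (s : EtCoh.sect ((shriek f).obj F) V) :
    ((bcAdjunct h F).hom.app (op V) s).1 = ((EtCoh.pull g').obj F).obj.map (cMap f g f' g' h.w V).op
      (((EtCoh.pullPushAdj g').unit.app F).hom.app (op ((EtCoh.bc f).obj V)) s.1) :=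
  bcPush_apply h F V s.1

theorem bcAdjunct_naturality {F G : EtCoh.Ab X} (α : F ⟶ G) :
    (shriek f).map α ≫ bcAdjunct h G =
      bcAdjunct h F ≫ (EtCoh.push g).map ((shriek f').map ((EtCoh.pull g').map α)) := by
  ext V s
  exact Subtype.ext (ConcreteCategory.congr_hom (congr_app (congrArg (fun k => k.hom)
    ((bcPush h).naturality α)) V) s.1)

/-- The base change morphism. -/
noncomputable def bcHom : shriek f ⋙ EtCoh.pull g ⟶ EtCoh.pull g' ⋙ shriek f' where
  app F := ((EtCoh.pullPushAdj g).homEquiv _ _).symm (bcAdjunct h F)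
  naturality F G α := by
    show (EtCoh.pull g).map ((shriek f).map α) ≫ _ = _ ≫ (shriek f').map ((EtCoh.pull g').map α)
    refine ((EtCoh.pullPushAdj g).homEquiv_naturality_left_symm _ _).symm.trans ?_
    refine (congrArg _ (bcAdjunct_naturality h α)).trans ?_
    exact (EtCoh.pullPushAdj g).homEquiv_naturality_right_symm _ _

theorem bcHom_unit (F : EtCoh.Ab X) (V : Y.Etale) (s : EtCoh.sect ((shriek f).obj F) V) :
    ((bcHom h).app F).hom.app (op ((EtCoh.bc g).obj V))
        (((EtCoh.pullPushAdj g).unit.app ((shriek f).obj F)).hom.app (op V) s) =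
      (bcAdjunct h F).hom.app (op V) s := by
  have e := ((EtCoh.pullPushAdj g).homEquiv _ _).apply_symm_apply (bcAdjunct h F)
  rw [Adjunction.homEquiv_unit] at e
  exact ConcreteCategory.congr_hom (congrArg (fun k => k.hom.app (op V)) e) s

section Stalk

variable {Ω : Type u} [Field Ω] [IsSepClosed Ω] (η' : Spec (CommRingCat.of Ω) ⟶ Y')

theorem bcHom_germ (F : EtCoh.Ab X) {V : Y.Etale} (z : (Scheme.pointSmallEtale (η' ≫ g)).fiber.obj V)
    (s : EtCoh.sect ((shriek f).obj F) V) :
    (EtCoh.stalk η').map ((bcHom h).app F)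
        ((stalkPullIso g η').inv.app ((shriek f).obj F) (germ (η' ≫ g) ((shriek f).obj F) V z s)) =
      germ η' ((shriek f').obj ((EtCoh.pull g').obj F)) ((EtCoh.bc g).obj V)
        ((fiberCompIso g η').inv.app V z) ((bcAdjunct h F).hom.app (op V) s) := by
  rw [stalkPullIso_inv_germ]
  exact (germ_naturality η' ((bcHom h).app F) _ _ _).trans (congrArg _ (bcHom_unit h F V s))

/-- The base change morphism is injective on stalks. -/
theorem bcHom_stalk_injective (F : EtCoh.Ab X) :
    Function.Injective ((EtCoh.stalk η').map ((bcHom h).app F)) := by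
  refine (injective_iff_map_eq_zero _).2 fun y hy => ?_
  have hi : Function.Bijective ((stalkPullIso g η').inv.app ((shriek f).obj F)) :=
    ConcreteCategory.bijective_of_isIso _
  obtain ⟨y₀, rfl⟩ := hi.2 y
  obtain ⟨V, z, s, rfl⟩ := germ_surjective (η' ≫ g) ((shriek f).obj F) y₀
  rw [bcHom_germ] at hy
  suffices germ (η' ≫ g) ((shriek f).obj F) V z s = 0 by rw [this, map_zero]
  refine (germ_eq_zero_iff _ z s).2 fun hm => ?_
  rw [sectSupp_shriek] at hm
  obtain ⟨p, hp, hpz⟩ := hm
  refine (germ_eq_zero_iff _ _ _).1 hy ?_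
  rw [sectSupp_shriek]
  obtain ⟨q, hq₁, hq₂⟩ := Scheme.Pullback.exists_preimage_pullback (f := prV f V)
    (g := pullback.fst V.hom g) p (ptOf ((fiberCompIso g η').inv.app V z)) (by
      refine hpz.trans ?_
      refine ((congrArg (fun k : Spec (CommRingCat.of Ω) ⟶ V.left => k.base _)
        (fiberCompIso_inv_left g η' V z)).symm.trans ?_)
      exact Scheme.Hom.comp_apply _ _ _)
  refine ⟨(isPullback_kMap h V).isoPullback.inv q, ?_, ?_⟩
  · rw [bcAdjunct_val, sectSupp_map, sectSupp_unit, ← Set.preimage_comp]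
    show kMap h V ((isPullback_kMap h V).isoPullback.inv q) ∈ sectSupp F _ s.1
    rw [← Scheme.Hom.comp_apply, IsPullback.isoPullback_inv_fst, hq₁]
    exact hp
  · exact (Scheme.Hom.comp_apply _ _ _).symm.trans
      ((congrArg (fun k => k q) (isPullback_kMap h V).isoPullback_inv_snd).trans hq₂)

end Stalk

section LQF

variable {Ω : Type u} [Field Ω] [IsAlgClosed Ω] (η' : Spec (CommRingCat.of Ω) ⟶ Y')

/-- The point of the fibre of `f` under a point of the fibre of `f'`. -/
noncomputable def ptImage (w : H7Weight.Pts f' η') : H7Weight.Pts f (η' ≫ g) :=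
  ⟨w.1 ≫ g', by rw [Category.assoc, h.w, ← Category.assoc, w.2]⟩

theorem ptImage_injective : Function.Injective (ptImage h η') := fun a b e =>
  Subtype.ext (h.hom_ext (congrArg Subtype.val e) (a.2.trans b.2.symm))

theorem evalW_bcHom (F : EtCoh.Ab X) (w : H7Weight.Pts f' η')
    (y : (EtCoh.stalk (η' ≫ g)).obj ((shriek f).obj F)) :
    evalW f' η' ((EtCoh.pull g').obj F) w
        ((EtCoh.stalk η').map ((bcHom h).app F) ((stalkPullIso g η').inv.app ((shriek f).obj F) y)) =
      (stalkPullIso g' w.1).inv.app F (evalW f (η' ≫ g) F (ptImage h η' w) y) := by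
  obtain ⟨V, z, s, rfl⟩ := germ_surjective (η' ≫ g) ((shriek f).obj F) y
  rw [bcHom_germ, evalW_germ, evalW_germ, bcAdjunct_val]
  refine ((Scheme.pointSmallEtale w.1).toPresheafFiber_w_apply (cMap f g f' g' h.w V)
    (bcFib w ((fiberCompIso g η').inv.app V z)) ((EtCoh.pull g').obj F).obj _).trans ?_
  refine Eq.trans ?_ (stalkPullIso_inv_germ g' w.1 F ((EtCoh.bc f).obj V) (bcFib (ptImage h η' w) z) s.1).symm
  refine congrArg (fun x => germ w.1 ((EtCoh.pull g').obj F) ((EtCoh.bc g').obj ((EtCoh.bc f).obj V)) x _) ?_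
  refine Over.OverMorphism.ext (pullback.hom_ext (pullback.hom_ext ?_ ?_) ?_)
  · refine Eq.trans ?_ (Eq.symm ((congrArg (· ≫ pullback.fst V.hom f)
      (fiberCompIso_inv_left g' w.1 ((EtCoh.bc f).obj V) (bcFib (ptImage h η' w) z))).trans
      (bcFib_fst (ptImage h η' w) z)))
    show (((bcFib w ((fiberCompIso g η').inv.app V z)).left ≫ (cMap f g f' g' h.w V).left) ≫
      pullback.fst ((EtCoh.bc f).obj V).hom g') ≫ pullback.fst V.hom f = _
    refine (Category.assoc _ _ _).trans ((Category.assoc _ _ _).trans ?_)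
    refine (congrArg (_ ≫ ·) (cMap_fst_fst f g f' g' h.w V)).trans ?_
    refine (Category.assoc _ _ _).symm.trans ?_
    exact (congrArg (· ≫ pullback.fst V.hom g) (bcFib_fst w ((fiberCompIso g η').inv.app V z))).trans
      (fiberCompIso_inv_left g η' V z)
  · refine Eq.trans ?_ (Eq.symm ((congrArg (· ≫ pullback.snd V.hom f)
      (fiberCompIso_inv_left g' w.1 ((EtCoh.bc f).obj V) (bcFib (ptImage h η' w) z))).trans
      (pullback.lift_snd _ _ _)))
    show (((bcFib w ((fiberCompIso g η').inv.app V z)).left ≫ (cMap f g f' g' h.w V).left) ≫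
      pullback.fst ((EtCoh.bc f).obj V).hom g') ≫ pullback.snd V.hom f = _
    refine (Category.assoc _ _ _).trans ((Category.assoc _ _ _).trans ?_)
    refine (congrArg (_ ≫ ·) ((Category.assoc _ _ _).symm.trans (kMap_snd h V))).trans ?_
    refine (Category.assoc _ _ _).symm.trans ?_
    exact congrArg (· ≫ g') (pullback.lift_snd _ _ _)
  · exact (Over.w ((Scheme.pointSmallEtale w.1).fiber.map (cMap f g f' g' h.w V)
      (bcFib w ((fiberCompIso g η').inv.app V z)))).trans
      (Over.w ((fiberCompIso g' w.1).inv.app ((EtCoh.bc f).obj V) (bcFib (ptImage h η' w) z))).symm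

theorem bcHom_stalk_surjective_of_lqf [IsSeparated f] [LocallyQuasiFinite f] (F : EtCoh.Ab X) :
    Function.Surjective ((EtCoh.stalk η').map ((bcHom h).app F)) := by
  haveI : IsSeparated f' := MorphismProperty.of_isPullback (P := @IsSeparated) h ‹_›
  haveI : LocallyQuasiFinite f' := MorphismProperty.of_isPullback (P := @LocallyQuasiFinite) h ‹_›
  let Φ := ((EtCoh.stalk η').map ((bcHom h).app F)).hom
  have h1 : ∀ (w : H7Weight.Pts f' η') (a : (EtCoh.stalk w.1).obj ((EtCoh.pull g').obj F)),
      insW f' η' ((EtCoh.pull g').obj F) w a ∈ Φ.range := by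
    intro w a
    obtain ⟨b, hb⟩ := (ConcreteCategory.bijective_of_isIso ((stalkPullIso g' w.1).inv.app F)).2 a
    let b' : (EtCoh.stalk (ptImage h η' w).1).obj F := b
    refine ⟨(stalkPullIso g η').inv.app ((shriek f).obj F) (insW f (η' ≫ g) F (ptImage h η' w) b'),
      eq_of_evalW f' η' _ fun v => ?_⟩
    refine (evalW_bcHom h η' F v _).trans ?_
    rcases eq_or_ne v w with rfl | hvw
    · rw [evalW_insW_same, evalW_insW_same]
      exact hb
    · rw [evalW_insW_ne f (η' ≫ g) F (fun e => hvw (ptImage_injective h η' e)),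
        evalW_insW_ne f' η' _ hvw, map_zero]
  intro y
  have := AddSubgroup.sum_mem Φ.range
    (t := (finite_evalW_ne_zero f' η' ((EtCoh.pull g').obj F) y).toFinset)
    fun w _ => h1 w (evalW f' η' ((EtCoh.pull g').obj F) w y)
  rw [← sum_insW f' η' ((EtCoh.pull g').obj F) y] at this
  exact this

end LQF

end Defs

end Groth.Agent.H15Site.Shriek
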