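import Groth.Agent.H15Site.Shriek.BaseChangeIso

/-!
# Base change for direct images with proper support along separated morphisms of finite type
-/

set_option autoImplicit false
set_option linter.style.haveILetI false
set_option linter.overlappingInstances false
set_option linter.unusedSectionVars false
set_option backward.isDefEq.respectTransparency false
set_option backward.isDefEq.respectTransparency.types false

universe u

open CategoryTheory CategoryTheory.Limits AlgebraicGeometry Opposite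
open scoped Groth.Agent.H18Et

namespace Groth.Agent.H15Site.Shriek

open Groth.Agent.H18Et EtShriek H15Site.SetDescent H18PBC.DegZero

/-- A section supported where a monomorphism is bijective on stalks lifts. -/
theorem exists_lift_of_supp {X : Scheme.{u}} {G F : EtCoh.Ab X} (e : G ⟶ F) [Mono e] (O : Set X)
    (he : ∀ (Ω : Type u) [Field Ω] [IsSepClosed Ω] (ξ : Spec (CommRingCat.of Ω) ⟶ X),
      ξ.base default ∈ O → Function.Surjective ((EtCoh.stalk ξ).map e))
    (P : X.Etale) (s : EtCoh.sect F P) (hs : sectSupp F P s ⊆ P.hom ⁻¹' O) :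
    ∃ t : EtCoh.sect G P, e.hom.app (op P) t = s := by
  let S := ShortComplex.mk e (cokernel.π e) (cokernel.condition e)
  have hS : S.Exact := ShortComplex.exact_cokernel e
  let Φ : EtCoh.Ab X ⥤ AddCommGrpCat.{u + 1} :=
    sheafToPresheaf X.smallEtaleTopology AddCommGrpCat.{u + 1} ⋙ (evaluation _ _).obj (op P)
  haveI : Φ.Additive := { }
  have hΦ : (S.map Φ).Exact := hS.map_of_mono_of_preservesKernel Φ inferInstance inferInstance
  refine (ShortComplex.ab_exact_iff _).1 hΦ s ?_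
  show (cokernel.π e).hom.app (op P) s = 0
  refine sect_ext _ _ fun Ω _ _ ξ z => ?_
  rw [map_zero, ← germ_naturality]
  by_cases hz : ptOf z ∈ sectSupp F P s
  · have hO : ξ.base default ∈ O := by
      have h1 : P.hom (ptOf z) ∈ O := hs hz
      have h2 : P.hom (ptOf z) = ξ.base default :=
        (Scheme.Hom.comp_apply z.left P.hom _).symm.trans
          (congrArg (fun k : Spec (CommRingCat.of Ω) ⟶ X => k.base default) (Over.w z))
      rwa [h2] at h1
    obtain ⟨a, ha⟩ := he Ω ξ hO (germ ξ F P z s)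
    rw [← ha]
    show ((EtCoh.stalk ξ).map (cokernel.π e)) (((EtCoh.stalk ξ).map e) a) = 0
    rw [← ConcreteCategory.comp_apply, ← Functor.map_comp, cokernel.condition, Functor.map_zero]
    rfl
  · rw [(germ_eq_zero_iff F z s).2 hz, map_zero]

/-- Supports do not shrink under a monomorphism. -/
theorem sectSupp_subset_of_mono {X : Scheme.{u}} {G F : EtCoh.Ab X} (e : G ⟶ F) [Mono e] (P : X.Etale)
    (t : EtCoh.sect G P) : sectSupp G P t ⊆ sectSupp F P (e.hom.app (op P) t) := by
  intro p hp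
  let l := algPt (Y := P.left) p
  let ξ := l ≫ P.hom
  let z : (Scheme.pointSmallEtale ξ).fiber.obj P := Over.homMk l rfl
  have hz : ptOf z = p := algPt_eq p _
  have hi : Function.Injective ((EtCoh.stalk ξ).map e) :=
    (AddCommGrpCat.mono_iff_injective _).1 inferInstance
  by_contra hn
  rw [← hz] at hp hn
  refine (germ_eq_zero_iff G z t).1 (hi ?_) hp
  rw [map_zero]
  exact (germ_naturality ξ e P z t).trans ((germ_eq_zero_iff F z _).2 hn)

/-- A compact set in an open set lies in a compact open inside it. -/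
theorem exists_compact_open {X : Scheme.{u}} {K : Set X} (hK : IsCompact K) {O : X.Opens}
    (h : K ⊆ (O : Set X)) :
    ∃ U : X.Opens, IsCompact (U : Set X) ∧ K ⊆ (U : Set X) ∧ U ≤ O := by
  have hx : ∀ x : K, ∃ U : X.Opens, IsAffineOpen U ∧ x.1 ∈ U ∧ U ≤ O := fun x =>
    exists_isAffineOpen_mem_and_subset (h x.2)
  choose U hU hxU hUO using hx
  obtain ⟨t, ht⟩ := hK.elim_finite_subcover (fun x => (U x : Set X)) (fun x => (U x).2)
    fun x hx => Set.mem_iUnion.2 ⟨⟨x, hx⟩, hxU ⟨x, hx⟩⟩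
  refine ⟨t.sup U, ?_, fun x hx => ?_, Finset.sup_le fun i _ => hUO i⟩
  · rw [TopologicalSpace.Opens.coe_finset_sup]
    rw [Finset.sup_set_eq_biUnion]
    exact t.isCompact_biUnion fun i _ => (hU i).isCompact
  · rw [TopologicalSpace.Opens.coe_finset_sup, Finset.sup_set_eq_biUnion]
    exact ht hx

theorem bc_congr {X Y : Scheme.{u}} {f₁ f₂ : X ⟶ Y} [LocallyOfFiniteType f₁] [LocallyOfFiniteType f₂]
    (e : f₁ = f₂) (h : BC f₁) : BC f₂ := by
  subst e
  exact h

section Main

variable {X Y : Scheme.{u}} (f : X ⟶ Y) [IsSeparated f] [LocallyOfFiniteType f]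

/-- Base change holds on quasi-compact pieces over affine opens. -/
theorem bc_piece (U : X.Opens) (hUc : IsCompact (U : Set X)) (V₀ : Y.Opens) (hV₀ : IsAffineOpen V₀)
    (hle : U ≤ f ⁻¹ᵁ V₀) : BC (U.ι ≫ f) := by
  haveI : IsAffine (V₀ : Scheme.{u}) := hV₀
  haveI : CompactSpace U.toScheme := isCompact_iff_compactSpace.1 hUc
  let fU : U.toScheme ⟶ (V₀ : Scheme.{u}) := f.resLE V₀ U hle
  have hfU : fU ≫ V₀.ι = U.ι ≫ f := Scheme.Hom.resLE_comp_ι _ _
  haveI : IsSeparated (fU ≫ V₀.ι) := by rw [hfU]; infer_instance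
  haveI : LocallyOfFiniteType (fU ≫ V₀.ι) := by rw [hfU]; infer_instance
  haveI : IsSeparated fU := IsSeparated.of_comp fU V₀.ι
  haveI : LocallyOfFiniteType fU := locallyOfFiniteType_of_comp fU V₀.ι
  haveI : QuasiCompact fU := quasiCompact_of_compactSpace fU
  obtain ⟨P, j, π, hj, -, hπ, hjπ⟩ := S0384.result fU
  have e : j ≫ π ≫ V₀.ι = U.ι ≫ f := by rw [← Category.assoc, hjπ, hfU]
  exact bc_congr e (bc_comp j (π ≫ V₀.ι) (bc_of_lqf j) (bc_comp π V₀.ι (bc_of_isProper π) (bc_of_lqf V₀.ι)))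

variable {X' Y' : Scheme.{u}} {g : Y' ⟶ Y} {f' : X' ⟶ Y'} {g' : X' ⟶ X} (h : IsPullback g' f' f g)
  [LocallyOfFiniteType f']

/-- Base change holds for sheaves extended by zero from good opens. -/
theorem isIso_bcHom_shriek {U : Scheme.{u}} (ι : U ⟶ X) [IsOpenImmersion ι] (hι : BC (ι ≫ f))
    (F : EtCoh.Ab U) : IsIso ((bcHom h).app ((shriek ι).obj F)) := by
  have h₁ : IsPullback (pullback.fst ι g') (pullback.snd ι g') ι g' := IsPullback.of_hasPullback ι g'
  haveI : IsOpenImmersion (pullback.snd ι g') := inferInstance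
  haveI := isIso_compHom ι f
  haveI : IsSeparated f' := MorphismProperty.of_isPullback (P := @IsSeparated) h ‹_›
  haveI := isIso_compHom (pullback.snd ι g') f'
  haveI := bc_of_lqf ι g' (pullback.snd ι g') (pullback.fst ι g') h₁ F
  haveI := hι g (pullback.snd ι g' ≫ f') (pullback.fst ι g') (h₁.paste_vert h) F
  haveI : IsIso ((bcHom h).app ((shriek ι).obj F) ≫ (shriek f').map ((bcHom h₁).app F) ≫
      (compHom (pullback.snd ι g') f').app ((EtCoh.pull (pullback.fst ι g')).obj F)) := by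
    rw [← bcHom_comp h₁ h]; infer_instance
  exact IsIso.of_isIso_comp_right ((bcHom h).app ((shriek ι).obj F))
    ((shriek f').map ((bcHom h₁).app F) ≫
      (compHom (pullback.snd ι g') f').app ((EtCoh.pull (pullback.fst ι g')).obj F))

theorem bcHom_stalk_surjective (F : EtCoh.Ab X) {Ω : Type u} [Field Ω] [IsAlgClosed Ω]
    (η : Spec (CommRingCat.of Ω) ⟶ Y') : Function.Surjective ((EtCoh.stalk η).map ((bcHom h).app F)) := by
  intro y
  let F' := (EtCoh.pull g').obj F
  obtain ⟨V, z, σ, rfl⟩ := germ_surjective η ((shriek f').obj F') y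
  let P := (EtCoh.bc f').obj V
  let kk : P.left ⟶ X := P.hom ≫ g'
  let K := sectSupp F' P σ.1
  have hK : ClSub.IsProperOver (prV f' V) K := (mem_iff f' F' σ.1).1 σ.2
  obtain ⟨V₀, hV₀, hyV₀, -⟩ := exists_isAffineOpen_mem_and_subset (U := (⊤ : Y.Opens))
    (x := (V.hom ≫ g) (ptOf z)) trivial
  obtain ⟨T, i, hi, hr, hp, -⟩ := Groth.Agent.LeadProper.exists_closedSubscheme hK
  haveI := hp
  let Kz : Set X := kk '' (i '' ((i ≫ prV f' V) ⁻¹' {ptOf z}))
  have hKz : IsCompact Kz :=
    (((i ≫ prV f' V).isCompact_preimage_singleton (ptOf z)).image i.continuous).image kk.continuous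
  have hKV : Kz ⊆ ((f ⁻¹ᵁ V₀ : X.Opens) : Set X) := by
    rintro _ ⟨_, ⟨a, ha, rfl⟩, rfl⟩
    have e : kk ≫ f = prV f' V ≫ V.hom ≫ g := by
      show (pullback.snd V.hom f' ≫ g') ≫ f = pullback.fst V.hom f' ≫ V.hom ≫ g
      rw [Category.assoc, h.w, ← Category.assoc, ← pullback.condition, Category.assoc]
    show f (kk (i a)) ∈ V₀
    rw [← Scheme.Hom.comp_apply, e, Scheme.Hom.comp_apply]
    have : prV f' V (i a) = ptOf z := (Scheme.Hom.comp_apply _ _ _).symm.trans ha
    exact this.symm ▸ hyV₀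
  obtain ⟨U, hUc, hKU, hUle⟩ := exists_compact_open hKz hKV
  let O : Set X' := g' ⁻¹' (U : Set X)
  -- shrink the neighbourhood
  have hcl : IsClosed (prV f' V '' (K \ P.hom ⁻¹' O)) := by
    refine isClosed_image_of_isProperOver (Groth.Agent.LeadProper.isProperOver_mono hK ?_ Set.sdiff_subset)
    exact (isClosed_sectSupp F' P σ.1).sdiff ((U.2.preimage g'.continuous).preimage P.hom.continuous)
  have hv : ptOf z ∉ prV f' V '' (K \ P.hom ⁻¹' O) := by
    rintro ⟨p, ⟨hpK, hpO⟩, hpz⟩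
    rw [← hr] at hpK
    obtain ⟨a, rfl⟩ := hpK
    refine hpO (hKU ⟨i a, ⟨a, ?_, rfl⟩, Scheme.Hom.comp_apply _ _ _⟩)
    exact (Scheme.Hom.comp_apply _ _ _).trans hpz
  let O₁ : V.left.Opens := ⟨_, hcl.isOpen_compl⟩
  let V₁ := openObj V O₁
  let φ := openHom V O₁
  obtain ⟨z₁, hz₁⟩ := exists_fiber_lift φ z (⟨ptOf z, hv⟩ : O₁.toScheme) rfl
  let σ₁ : EtCoh.sect ((shriek f').obj F') V₁ := ((shriek f').obj F').obj.map φ.op σ
  have hy : germ η ((shriek f').obj F') V₁ z₁ σ₁ = germ η ((shriek f').obj F') V z σ := by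
    rw [← hz₁]
    exact (Scheme.pointSmallEtale η).toPresheafFiber_w_apply φ z₁ ((shriek f').obj F').obj σ
  have hsupp : sectSupp F' ((EtCoh.bc f').obj V₁) σ₁.1 ⊆ ((EtCoh.bc f').obj V₁).hom ⁻¹' O := by
    intro q hq
    change q ∈ sectSupp F' _ (F'.obj.map ((EtCoh.bc f').map φ).op σ.1) at hq
    rw [sectSupp_map] at hq
    by_contra hn
    have hw : ((EtCoh.bc f').map φ).left ≫ P.hom = ((EtCoh.bc f').obj V₁).hom :=
      MorphismProperty.Over.w ((EtCoh.bc f').map φ)
    have hin : prV f' V (((EtCoh.bc f').map φ).left q) ∈ (O₁ : Set V.left) := by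
      rw [← Scheme.Hom.comp_apply, (isPullback_bc f' φ).w, Scheme.Hom.comp_apply]
      exact (prV f' V₁ q).2
    refine hin ⟨_, ⟨hq, fun hO => hn ?_⟩, rfl⟩
    show ((EtCoh.bc f').obj V₁).hom q ∈ O
    rw [← hw, Scheme.Hom.comp_apply]
    exact hO
  -- the extension by zero from the open
  haveI := jCont_of_mono U.ι
  let FU := (restrAlong U.ι).obj F
  let ε : (shriek U.ι).obj FU ⟶ F :=
    inv ((extZeroToShriek U.ι).app FU) ≫ (extZeroAdj U.ι).counit.app F
  have hεO : ∀ (Ω : Type u) [Field Ω] [IsSepClosed Ω] (ξ : Spec (CommRingCat.of Ω) ⟶ X),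
      ξ.base default ∈ Set.range U.ι → IsIso ((EtCoh.stalk ξ).map ε) := by
    intro Ω' _ _ ξ hξ
    haveI := ExtZeroStalk.isIso_stalk_counit_of_mem (j := U.ι) ξ F hξ
    simp only [ε, Functor.map_comp]
    infer_instance
  haveI : Mono ε := (mono_iff_stalk ε).2 fun Ω' _ _ ξ => by
    by_cases hξ : ξ.base default ∈ Set.range U.ι
    · haveI := hεO Ω' ξ hξ; infer_instance
    · have hz0 : IsZero ((EtCoh.stalk ξ).obj ((shriek U.ι).obj FU)) :=
        (ExtZeroStalk.isZero_stalk_extZero_of_notMem U.ι ξ FU hξ).of_iso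
          ((EtCoh.stalk ξ).mapIso (asIso ((extZeroToShriek U.ι).app FU))).symm
      exact ⟨fun a b _ => hz0.eq_of_tgt a b⟩
  let e' := (EtCoh.pull g').map ε
  haveI : Mono e' := inferInstanceAs (Mono ((EtCoh.pull g').map ε))
  have he' : ∀ (Ω : Type u) [Field Ω] [IsSepClosed Ω] (ξ : Spec (CommRingCat.of Ω) ⟶ X'),
      ξ.base default ∈ O → Function.Surjective ((EtCoh.stalk ξ).map e') := fun Ω' _ _ ξ hξ => by
    have hmem : (ξ ≫ g').base default ∈ Set.range U.ι := by
      rw [Scheme.Opens.range_ι]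
      exact hξ
    have := (pull_map_stalk_iff ε g' (MorphismProperty.isomorphisms _) ξ).2 (hεO Ω' (ξ ≫ g') hmem)
    exact ((ConcreteCategory.isIso_iff_bijective _).1 this).2
  obtain ⟨t, ht⟩ := exists_lift_of_supp e' O he' _ σ₁.1 hsupp
  have htmem : t ∈ shriekSubgroup f' ((EtCoh.pull g').obj ((shriek U.ι).obj FU)) V₁ := by
    refine (mem_iff f' _ t).2 (Groth.Agent.LeadProper.isProperOver_mono ((mem_iff f' F' σ₁.1).1 σ₁.2)
      (isClosed_sectSupp _ _ _) ?_)
    exact (sectSupp_subset_of_mono e' _ t).trans (by rw [ht])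
  haveI := isIso_bcHom_shriek f h U.ι (bc_piece f U hUc V₀ hV₀ hUle) FU
  obtain ⟨a, ha⟩ := (ConcreteCategory.bijective_of_isIso
    ((EtCoh.stalk η).map ((bcHom h).app ((shriek U.ι).obj FU)))).2
    (germ η ((shriek f').obj ((EtCoh.pull g').obj ((shriek U.ι).obj FU))) V₁ z₁ ⟨t, htmem⟩)
  refine ⟨(EtCoh.stalk η).map ((EtCoh.pull g).map ((shriek f).map ε)) a, ?_⟩
  refine Eq.trans ?_ hy
  refine (ConcreteCategory.comp_apply _ _ _).symm.trans ((ConcreteCategory.congr_hom
    (((EtCoh.stalk η).map_comp _ _).symm.trans (congrArg (EtCoh.stalk η).map ((bcHom h).naturality ε))) a).trans ?_)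
  rw [Functor.map_comp, ConcreteCategory.comp_apply]
  refine (congrArg _ ha).trans ?_
  refine (germ_naturality η ((shriek f').map e') V₁ z₁ _).trans (congrArg _ (Subtype.ext ?_))
  exact ht

/-- Base change for direct images with proper support. -/
theorem bc_main : BC f := fun _ _ g f' g' _ h F =>
  isIso_of_stalk_algClosed _ fun _ _ _ η =>
    ⟨bcHom_stalk_injective h η F, bcHom_stalk_surjective f h F η⟩

end Main

end Groth.Agent.H15Site.Shriek
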