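import Groth.Agent.H15Site.Shriek.ProperLqf
import Groth.Agent.H15Site.Shriek.EtaleIso
import Groth.Agent.H1DFun.PBCTorsion
import Groth.Agent.H18RelCd.Main
import Groth.Agent.H18Et.Support
import Groth.Agent.H18Et.ExtZeroOpen
import Groth.Agent.H8Props.FieldDimFibre

/-!
# Cohomological dimension of direct images with proper support

Given proper base change on stalks, `R^q fbar_* (j_! F)` vanishes for `q` above twice the dimension of the
fibres of `j ≫ fbar`: on a geometric fibre the sheaf is supported on points whose residue fields have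
transcendence degree at most the dimension of the fibre of `j ≫ fbar`.
-/

set_option autoImplicit false
set_option linter.style.haveILetI false
set_option linter.unusedSectionVars false
set_option linter.overlappingInstances false
set_option backward.isDefEq.respectTransparency false
set_option backward.isDefEq.respectTransparency.types false

universe u

open CategoryTheory CategoryTheory.Limits AlgebraicGeometry Opposite Abelian TopologicalSpace
open scoped Groth.Agent.H18Et

namespace Groth.Agent.H15Site.Shriek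

attribute [local instance] Groth.Agent.H18Et.pull_preservesFiniteLimits

section Supp

variable {X : Scheme.{u}}

theorem supp_subset_of_mono {F G : EtCoh.Ab X} (m : F ⟶ G) [Mono m] : EtPBC.supp F ⊆ EtPBC.supp G := by
  rintro x ⟨Ω, i₁, i₂, ξ, hξ, hne⟩
  refine ⟨Ω, i₁, i₂, ξ, hξ, fun h0 => hne ?_⟩
  haveI : Mono ((EtCoh.stalk ξ).map m) := inferInstance
  exact IsZero.of_mono ((EtCoh.stalk ξ).map m) h0

variable [AlgebraicGeometry.IsNoetherian X]

theorem subsingleton_H_killedBy_supp (P : Set X) (q : ℕ)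
    (h : ∀ ℓ : ℕ, ℓ.Prime → ∀ G : EtCoh.Ab X, Dix.IsPrimaryTorsion ℓ G → EtPBC.supp G ⊆ P →
      Subsingleton (EtCoh.H X G q)) :
    ∀ (N : ℕ), 0 < N → ∀ G : EtCoh.Ab X, EtCoh.KilledBy N G → EtPBC.supp G ⊆ P →
      Subsingleton (EtCoh.H X G q) := by
  intro N
  induction N using Nat.strong_induction_on with
  | _ N ih =>
  intro hN G hG hsupp
  by_cases h1 : N = 1
  · subst h1
    refine subsingleton_of_forall_eq 0 fun x => ?_
    rw [← Ext.comp_mk₀_id x, show 𝟙 G = (0 : G ⟶ G) from by
      rw [← one_smul ℕ (𝟙 G)]; exact (H05EGA4.EtCl.killedBy_iff 1 G).1 hG, Ext.mk₀_zero, Ext.comp_zero]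
  obtain ⟨ℓ, hℓ, M, rfl⟩ := Nat.exists_prime_and_dvd h1
  let φ : G ⟶ G := ℓ • 𝟙 G
  let g := Abelian.factorThruImage φ
  let i := Abelian.image.ι φ
  have hgi : g ≫ i = φ := Abelian.image.fac φ
  have hk : Subsingleton (EtCoh.H X (kernel φ) q) :=
    h ℓ hℓ _ (H05EGA4.EtCl.isPrimaryTorsion_of_killed 1 _ (by
      rw [pow_one, H05EGA4.EtCl.killedBy_iff, ← cancel_mono (kernel.ι φ), zero_comp, Preadditive.nsmul_comp,
        Category.id_comp]
      refine Eq.trans ?_ (kernel.condition φ)
      rw [Preadditive.comp_nsmul, Category.comp_id])) ((supp_subset_of_mono (kernel.ι φ)).trans hsupp)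
  have hi : Subsingleton (EtCoh.H X (Abelian.image φ) q) := ih M
    ((lt_mul_iff_one_lt_left (Nat.pos_of_mul_pos_left hN)).2 hℓ.one_lt) (Nat.pos_of_mul_pos_left hN) _
    ((H05EGA4.EtCl.killedBy_iff _ _).2 (by
      rw [← cancel_mono i, zero_comp, ← cancel_epi g, comp_zero, Preadditive.nsmul_comp, Category.id_comp,
        Preadditive.comp_nsmul, hgi, ← mul_nsmul', mul_comm]
      exact (H05EGA4.EtCl.killedBy_iff _ _).1 hG)) ((supp_subset_of_mono i).trans hsupp)
  have w : kernel.ι φ ≫ g = 0 := by rw [← cancel_mono i, Category.assoc, hgi, kernel.condition, zero_comp]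
  have hS : (ShortComplex.mk (kernel.ι φ) g w).ShortExact := by
    letI S₁ : ShortComplex (EtCoh.Ab X) := ShortComplex.mk (kernel.ι φ) g w
    haveI : Mono S₁.f := inferInstanceAs (Mono (kernel.ι φ))
    haveI : Epi S₁.g := inferInstanceAs (Epi g)
    refine ⟨ShortComplex.exact_of_f_is_kernel _ (KernelFork.IsLimit.ofι _ _
      (fun x hx => kernel.lift φ x (by rw [← hgi, ← Category.assoc, hx, zero_comp]))
      (fun x hx => kernel.lift_ι _ _ _) (fun x hx l hl => ?_))⟩
    rw [← cancel_mono (kernel.ι φ), kernel.lift_ι]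
    exact hl
  refine subsingleton_of_forall_eq 0 fun x => ?_
  obtain ⟨y, hy⟩ := Ext.covariant_sequence_exact₂ _ hS x (hi.elim _ _)
  rw [← hy, hk.elim y 0, Ext.zero_comp]

/-- Vanishing for torsion sheaves with bounded support from vanishing for `ℓ`-primary ones. -/
theorem subsingleton_H_of_supp (P : Set X) (q : ℕ)
    (h : ∀ ℓ : ℕ, ℓ.Prime → ∀ G : EtCoh.Ab X, Dix.IsPrimaryTorsion ℓ G → EtPBC.supp G ⊆ P →
      Subsingleton (EtCoh.H X G q))
    (F : EtCoh.Ab X) (hF : EtCoh.IsTorsion F) (hsupp : EtPBC.supp F ⊆ P) :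
    Subsingleton (EtCoh.H X F q) := by
  haveI := H1DFun.isIso_desc_torSys F hF
  haveI : IsFiltered (ULift.{u} ℕ) := inferInstance
  let e : colimit (H1DFun.torSys F) ≅ F := asIso (colimit.desc (H1DFun.torSys F) (H1DFun.torCocone F))
  suffices hs : Subsingleton (EtCoh.H X (colimit (H1DFun.torSys F)) q) from
    Function.Injective.subsingleton (β := EtCoh.H X (colimit (H1DFun.torSys F)) q)
      ((Sheaf.functorH _ q).mapIso e).addCommGroupIsoToAddEquiv.symm.injective
  refine subsingleton_of_forall_eq 0 fun x => ?_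
  obtain ⟨j, y, hy⟩ := (Groth.Agent.H18Et.CohColim.hSurj_hInj q (H1DFun.torSys F)).1 x
  haveI := subsingleton_H_killedBy_supp P q h (H1DFun.tExp j) (Nat.factorial_pos _) ((H1DFun.torSys F).obj j)
    (H1DFun.killedBy_kernel _ _) ((supp_subset_of_mono (kernel.ι (H1DFun.tExp j • 𝟙 F))).trans hsupp)
  rw [← hy, Subsingleton.elim (α := EtCoh.H X ((H1DFun.torSys F).obj j) q) y 0, map_zero]

end Supp

section Delta

open H05EGA4.EtCl

variable {k : Type u} [Field k] {X U : Scheme.{u}} (f : X ⟶ Spec (CommRingCat.of k)) (j : U ⟶ X)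
  [IsOpenImmersion j] [LocallyOfFiniteType f] [QuasiCompact f] [QuasiCompact (j ≫ f)]

/-- The dimension of a point does not depend on the open subscheme containing it. -/
theorem delta_openImm (x : U) : delta f (j x) = delta (j ≫ f) x := by
  let φ := toResidue f (j x)
  let ψ := toResidue (j ≫ f) x
  let e := j.residueFieldMap x
  have hcomp : e.hom.comp φ = ψ := by
    have h1 : Spec.map (e) ≫ Spec.map (CommRingCat.ofHom φ) = Spec.map (CommRingCat.ofHom ψ) := by
      rw [← toResidue_spec f (j x), ← toResidue_spec (j ≫ f) x, ← Category.assoc, ← Category.assoc,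
        Scheme.Hom.SpecMap_residueFieldMap_fromSpecResidueField]
    rw [← Spec.map_comp] at h1
    exact congrArg CommRingCat.Hom.hom (Spec.map_injective h1)
  have hbij : Function.Bijective e.hom := by
    haveI : IsIso e := inferInstance
    exact ConcreteCategory.bijective_of_isIso e
  letI := φ.toAlgebra
  letI := ψ.toAlgebra
  let a : X.residueField (j x) →ₐ[k] U.residueField x :=
    { e.hom with commutes' := fun t => RingHom.congr_fun hcomp t }
  have h := (AlgEquiv.ofBijective a hbij).trdeg_eq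
  have h1 : Algebra.trdeg k (X.residueField (j x)) = delta f (j x) := trdeg_eq_delta f (j x)
  have h2 : Algebra.trdeg k (U.residueField x) = delta (j ≫ f) x := trdeg_eq_delta (j ≫ f) x
  exact_mod_cast h1.symm.trans (h.trans h2)

end Delta

open H05EGA4.EtCl in
/-- `H^q` of an extension by zero over a separably closed field vanishes above twice the dimension of the
open subscheme. -/
theorem subsingleton_H_extZero {K : Type u} [Field K] [IsSepClosed K] {P U : Scheme.{u}}
    (g : P ⟶ Spec (CommRingCat.of K)) [LocallyOfFiniteType g] [QuasiCompact g] (j : U ⟶ P) [IsOpenImmersion j]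
    (n : ℕ) (hn : topologicalKrullDim U ≤ n) (F : EtCoh.Ab U)
    (hF : EtCoh.IsTorsion ((EtShriek.extZero j).obj F)) (q : ℕ) (hq : 2 * n < q) :
    Subsingleton (EtCoh.H P ((EtShriek.extZero j).obj F) q) := by
  haveI : IsLocallyNoetherian P := LocallyOfFiniteType.isLocallyNoetherian g
  haveI : CompactSpace P := QuasiCompact.compactSpace_of_compactSpace g
  haveI : AlgebraicGeometry.IsNoetherian P := {}
  haveI : CompactSpace ↥U := isCompact_univ_iff.1
    (j.isOpenEmbedding.toIsInducing.isCompact_iff.2 (NoetherianSpace.isCompact _))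
  haveI : QuasiCompact (j ≫ g) := inferInstance
  refine subsingleton_H_of_supp (Set.range j) q (fun ℓ hℓ G hG hs => ?_) _ hF fun y hy => ?_
  · refine subsingleton_H_of_cdFun (trdegCdFun g hℓ
      (cohDimLEAt_of_cohDimLE hℓ (H18RelCd.cohDimLE_sepClosed K))) hℓ G hG q fun y hy => ?_
    obtain ⟨x, rfl⟩ := hs hy
    show 0 + 2 * delta g (j x) < q
    rw [delta_openImm g j x]
    have := delta_le (j ≫ g) hn x
    omega
  · obtain ⟨Ω, _, _, ξ, hξ, hne⟩ := hy
    by_contra h
    refine hne (H18Et.ExtZeroStalk.isZero_stalk_extZero_of_notMem (ξ := ξ) j F ?_)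
    intro hm
    have : ξ default = y := Set.mem_singleton_iff.1 (hξ ▸ Set.mem_range_self _)
    exact h (this ▸ hm)

/-- **Direct images with proper support vanish above twice the fibre dimension**, given base change on
stalks. -/
theorem isZero_Rpush_extZero (hbc : StalkBC.{u}) {X P S : Scheme.{u}} (j : X ⟶ P) [IsOpenImmersion j]
    (p : P ⟶ S) [IsProper p] (d : ℕ) (hdim : ∀ s : S, topologicalKrullDim ((j ≫ p).fiber s) ≤ d)
    (F : EtCoh.Ab X) (hF : EtCoh.IsTorsion F) (i : ℕ) (hi : 2 * d < i) :
    IsZero ((EtCoh.Rpush p i).obj ((EtShriek.extZero j).obj F)) := by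
  have hFj : EtCoh.IsTorsion ((EtShriek.extZero j).obj F) :=
    isTorsion_of_epi' ((extZeroIso j).app F).inv (isTorsion_lowerShriek j F hF)
  refine H1DFun.isZero_of_stalks _ fun Ω _ _ ξ => ?_
  obtain ⟨e⟩ := hbc p ξ _ hFj i
  suffices h : Subsingleton (EtCoh.H (pullback p ξ)
      ((EtCoh.pull (pullback.fst p ξ)).obj ((EtShriek.extZero j).obj F)) i) from
    @Equiv.subsingleton _ _ e.addCommGroupIsoToAddEquiv.toEquiv h
  let a := pullback.fst j (pullback.fst p ξ)
  let b := pullback.snd j (pullback.fst p ξ)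
  let π := pullback.snd p ξ
  have sqU : IsPullback a b j (pullback.fst p ξ) := IsPullback.of_hasPullback _ _
  obtain ⟨e₁⟩ := S0681.result j (pullback.fst p ξ) b a sqU F
  have G_eq : (EtCoh.pull (pullback.fst p ξ)).obj ((EtShriek.extZero j).obj F) ≅
      (EtShriek.extZero b).obj ((EtCoh.pull a).obj F) :=
    (EtCoh.pull (pullback.fst p ξ)).mapIso ((extZeroIso j).app F) ≪≫ e₁.symm ≪≫
      ((extZeroIso b).app _).symm
  refine subsingleton_H_of_iso G_eq.symm i ?_
  have hout : IsPullback a (b ≫ π) (j ≫ p) ξ := sqU.paste_vert (IsPullback.of_hasPullback p ξ)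
  have hd : topologicalKrullDim ↥(pullback j (pullback.fst p ξ)) ≤ d := by
    let y' : ↥(Spec (CommRingCat.of Ω)) := default
    have h1 := H8Props.FieldDim.dim_fiber_baseChange (j ≫ p) hout y'
    have h2 : IsHomeomorph ((b ≫ π).fiberι y') := by
      refine isHomeomorph_iff_isEmbedding_surjective.2 ⟨((b ≫ π).fiberι y').isEmbedding, fun z => ?_⟩
      exact ((b ≫ π).range_fiberι y').symm.subset (Subsingleton.elim _ _)
    rw [← h2.topologicalKrullDim_eq, h1]
    exact hdim _
  refine subsingleton_H_extZero π b d hd _ ?_ i hi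
  exact isTorsion_of_epi' ((extZeroIso b).app _).inv
    (isTorsion_lowerShriek b _ (H18Et.Coh.isTorsion_pull a F hF))

end Groth.Agent.H15Site.Shriek
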