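import Groth.Agent.H15Site.Shriek.Sheaf
import Groth.Agent.H18Et.TopInvariance

/-!
# The unit of `j_! ⊣ j^{-1}` for sections with proper support
-/

set_option autoImplicit false
set_option linter.style.haveILetI false
set_option linter.overlappingInstances false
set_option backward.isDefEq.respectTransparency false
set_option backward.isDefEq.respectTransparency.types false

universe u

open CategoryTheory CategoryTheory.Limits AlgebraicGeometry Opposite

namespace Groth.Agent.H15Site.Shriek

open Groth.Agent.H18Et Groth.Agent.H18Et.AffineCriterion EtShriek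

variable {U X : Scheme.{u}} (j : U ⟶ X) [Etale j]

/-- The graph of an etale `U`-scheme. -/
noncomputable def graph (W : U.Etale) : W ⟶ (EtCoh.bc j).obj ((compEtale j).obj W) :=
  MorphismProperty.Over.homMk (pullback.lift (𝟙 W.left) W.hom (Category.id_comp _))
    (pullback.lift_snd _ _ _) trivial

theorem graph_prV (W : U.Etale) : (graph j W).left ≫ prV j ((compEtale j).obj W) = 𝟙 W.left :=
  pullback.lift_fst _ _ _

theorem graph_snd (W : U.Etale) :
    (graph j W).left ≫ pullback.snd ((compEtale j).obj W).hom j = W.hom :=
  pullback.lift_snd _ _ _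

theorem graph_naturality {W W' : U.Etale} (φ : W' ⟶ W) :
    graph j W' ≫ (EtCoh.bc j).map ((compEtale j).map φ) = φ ≫ graph j W := by
  refine MorphismProperty.Over.Hom.ext (pullback.hom_ext ?_ ?_)
  · show ((graph j W').left ≫ ((EtCoh.bc j).map ((compEtale j).map φ)).left) ≫ prV j _ =
      (φ.left ≫ (graph j W).left) ≫ prV j _
    rw [Category.assoc, (isPullback_bc j ((compEtale j).map φ)).w, ← Category.assoc, graph_prV, Category.assoc,
      graph_prV]
    exact (Category.id_comp _).trans (Category.comp_id _).symm
  · exact (MorphismProperty.Over.w (graph j W' ≫ (EtCoh.bc j).map ((compEtale j).map φ))).trans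
      (MorphismProperty.Over.w (φ ≫ graph j W)).symm

variable [IsSeparated j]

instance (W : U.Etale) : IsClosedImmersion (graph j W).left := by
  haveI : IsSeparated (prV j ((compEtale j).obj W)) := inferInstanceAs (IsSeparated (pullback.fst _ j))
  haveI : IsClosedImmersion ((graph j W).left ≫ prV j ((compEtale j).obj W)) := by
    rw [graph_prV]; infer_instance
  exact IsClosedImmersion.of_comp _ (prV j ((compEtale j).obj W))

instance (W : U.Etale) : IsOpenImmersion (graph j W).left := by
  haveI : Etale (graph j W).left := etale_left (graph j W)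
  exact Groth.Agent.H18Et.TopInv.isOpenImmersion_of_etale_of_universallyInjective _

theorem preimage_range_graph {W W' : U.Etale} (φ : W' ⟶ W) :
    ((EtCoh.bc j).map ((compEtale j).map φ)).left ⁻¹' Set.range (graph j W).left =
      Set.range (graph j W').left := by
  have outer : IsPullback φ.left ((graph j W').left ≫ prV j ((compEtale j).obj W'))
      ((graph j W).left ≫ prV j ((compEtale j).obj W)) ((compEtale j).map φ).left := by
    rw [graph_prV, graph_prV]
    exact IsPullback.of_vert_isIso ⟨by exact (Category.comp_id _).trans (Category.id_comp _).symm⟩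
  have sq : IsPullback φ.left (graph j W').left (graph j W).left ((EtCoh.bc j).map ((compEtale j).map φ)).left :=
    IsPullback.of_bot outer (congrArg (fun k => k.left) (graph_naturality j φ)).symm
      (isPullback_bc j ((compEtale j).map φ))
  ext p
  constructor
  · rintro ⟨w, hw⟩
    obtain ⟨a, -, ha⟩ := Scheme.Pullback.exists_preimage_pullback (f := (graph j W).left)
      (g := ((EtCoh.bc j).map ((compEtale j).map φ)).left) w p hw
    exact ⟨sq.isoPullback.inv a, by rw [← Scheme.Hom.comp_apply, IsPullback.isoPullback_inv_snd, ha]⟩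
  · rintro ⟨w', rfl⟩
    exact ⟨φ.left w', by
      rw [← Scheme.Hom.comp_apply, sq.w, Scheme.Hom.comp_apply]⟩

variable (F : EtCoh.Ab U)

theorem existsUnique_ext (W : U.Etale) (s : EtCoh.sect F W) :
    ∃! t : EtCoh.sect F ((EtCoh.bc j).obj ((compEtale j).obj W)),
      sectSupp F _ t ⊆ Set.range (graph j W).left ∧ F.obj.map (graph j W).op t = s := by
  have hpre : (graph j W).left ⁻¹' Set.range (graph j W).left = Set.univ := Set.preimage_range _
  have h := S0728.result F (graph j W) (Set.range (graph j W).left)
    (graph j W).left.isClosedEmbedding.isClosed_range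
    (by rw [hpre]; exact ⟨fun a _ => ⟨a, rfl⟩, (graph j W).left.isClosedEmbedding.injective.injOn,
      fun x ⟨a, ha⟩ => ⟨a, trivial, ha⟩⟩)
    (fun x _ => ConcreteCategory.bijective_of_isIso ((graph j W).left.residueFieldMap x))
  obtain ⟨t, ht, hts⟩ := h.surjOn (show s ∈ {s' | sectSupp F W s' ⊆ (graph j W).left ⁻¹' Set.range (graph j W).left} by
    intro x _; exact ⟨x, rfl⟩)
  exact ⟨t, ⟨ht, hts⟩, fun t' h' => h.injOn h'.1 ht (h'.2.trans hts.symm)⟩

/-- The extension by zero of a section from the graph. -/
noncomputable def extGraph (W : U.Etale) (s : EtCoh.sect F W) :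
    EtCoh.sect F ((EtCoh.bc j).obj ((compEtale j).obj W)) :=
  (existsUnique_ext j F W s).choose

theorem extGraph_supp (W : U.Etale) (s : EtCoh.sect F W) :
    sectSupp F _ (extGraph j F W s) ⊆ Set.range (graph j W).left :=
  (existsUnique_ext j F W s).choose_spec.1.1

theorem map_extGraph (W : U.Etale) (s : EtCoh.sect F W) :
    F.obj.map (graph j W).op (extGraph j F W s) = s :=
  (existsUnique_ext j F W s).choose_spec.1.2

theorem extGraph_eq {W : U.Etale} {s : EtCoh.sect F W} {t : EtCoh.sect F ((EtCoh.bc j).obj ((compEtale j).obj W))}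
    (h₁ : sectSupp F _ t ⊆ Set.range (graph j W).left) (h₂ : F.obj.map (graph j W).op t = s) :
    extGraph j F W s = t :=
  ((existsUnique_ext j F W s).choose_spec.2 t ⟨h₁, h₂⟩).symm

theorem extGraph_mem (W : U.Etale) (s : EtCoh.sect F W) :
    extGraph j F W s ∈ shriekSubgroup j F ((compEtale j).obj W) := by
  refine (mem_iff j F _).2 ?_
  refine Groth.Agent.LeadProper.isProperOver_mono ?_ (isClosed_sectSupp F _ _) (extGraph_supp j F W s)
  refine (Groth.Agent.LeadProper.isProperOver_iff (prV j ((compEtale j).obj W)) (graph j W).left rfl).2 ?_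
  rw [graph_prV]
  infer_instance

theorem extGraph_add (W : U.Etale) (s s' : EtCoh.sect F W) :
    extGraph j F W (s + s') = extGraph j F W s + extGraph j F W s' := by
  refine extGraph_eq j F (fun x hx => ?_) (by rw [map_add, map_extGraph, map_extGraph])
  by_contra hn
  have h1 : x ∉ sectSupp F _ (extGraph j F W s) := fun h => hn (extGraph_supp j F W s h)
  have h0 : x ∉ sectSupp F _ (0 - extGraph j F W s') :=
    S0728.notMem_supp_sub F _ _ x (by rw [sectSupp_zero]; simp) (fun h => hn (extGraph_supp j F W s' h))
  exact S0728.notMem_supp_sub F (extGraph j F W s) (0 - extGraph j F W s') x h1 h0 (by simpa using hx)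

theorem extGraph_map {W W' : U.Etale} (φ : W' ⟶ W) (s : EtCoh.sect F W) :
    extGraph j F W' (F.obj.map φ.op s) =
      F.obj.map ((EtCoh.bc j).map ((compEtale j).map φ)).op (extGraph j F W s) := by
  refine extGraph_eq j F ?_ ?_
  · rw [sectSupp_map, ← preimage_range_graph j φ]
    exact Set.preimage_mono (extGraph_supp j F W s)
  · refine (S0728.map_comp' F _ _ _).symm.trans ?_
    rw [graph_naturality]
    exact (S0728.map_comp' F _ _ _).trans (congrArg (F.obj.map φ.op) (map_extGraph j F W s))

variable [JCont j]

/-- The unit. -/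
noncomputable def unitShriek : 𝟭 (EtCoh.Ab U) ⟶ shriek j ⋙ restrAlong j where
  app F := ⟨{
    app W := AddCommGrpCat.ofHom
      (AddMonoidHom.mk' (fun s : EtCoh.sect F W.unop => (⟨extGraph j F W.unop s, extGraph_mem j F W.unop s⟩ :
          shriekSubgroup j F ((compEtale j).obj W.unop)))
        (fun s s' => Subtype.ext (extGraph_add j F W.unop s s')))
    naturality W W' φ := by
      ext s
      exact Subtype.ext (extGraph_map j F φ.unop s) }⟩
  naturality F G α := by
    ext W s
    refine Subtype.ext ?_
    change extGraph j G W.unop (α.hom.app W s) = α.hom.app _ (extGraph j F W.unop s)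
    refine extGraph_eq j G ((sectSupp_map_subset α _ _).trans (extGraph_supp j F W.unop s)) ?_
    exact (ConcreteCategory.congr_hom (α.hom.naturality (graph j W.unop).op) (extGraph j F W.unop s)).symm.trans
      (congrArg (α.hom.app W) (map_extGraph j F W.unop s))

end Groth.Agent.H15Site.Shriek
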