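import Groth.Agent.H15Site.Shriek.StalkToBCQ
import Groth.Agent.H1DFun.SHField
import Groth.Agent.H15Site.IntDesc.PushH
import Groth.Agent.H05EGA4.EtCl.DimFun
import Groth.Agent.S6667

/-!
# Cohomology under extensions of separably closed fields

Given proper base change on stalks, the cohomology of a torsion sheaf on a proper scheme over a separably
closed field does not change under extensions of separably closed fields.
-/

set_option autoImplicit false
set_option linter.style.haveILetI false
set_option linter.unusedSectionVars false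
set_option backward.isDefEq.respectTransparency false
set_option backward.isDefEq.respectTransparency.types false

universe u

open CategoryTheory CategoryTheory.Limits AlgebraicGeometry Opposite
open scoped Groth.Agent.H18Et

namespace Groth.Agent.H15Site.Shriek

attribute [local instance] Groth.Agent.H18Et.pull_preservesFiniteLimits

/-- The strict henselization of a point of the spectrum of a separably closed field is the spectrum. -/
theorem isIso_specOf_field (k : Type u) [Field k] [IsSepClosed k] (y : Spec (CommRingCat.of k))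
    (R : Type u) [CommRing R] [IsLocalRing R] [Algebra ((Spec (CommRingCat.of k)).presheaf.stalk y) R]
    [IsLocalHom (algebraMap ((Spec (CommRingCat.of k)).presheaf.stalk y) R)]
    [Hensel.IsStrictHenselization ((Spec (CommRingCat.of k)).presheaf.stalk y) R] :
    Function.Bijective (algebraMap ((Spec (CommRingCat.of k)).presheaf.stalk y) R) ∧
      IsIso (Hens2.specOf (Spec (CommRingCat.of k)) y R) := by
  obtain ⟨eA⟩ := H1DFun.exists_ringEquiv_stalk_field k y
  letI := (eA.symm.toMulEquiv.isField (Field.toIsField k)).toField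
  haveI : IsSepClosed ↥((Spec (CommRingCat.of k)).presheaf.stalk y) := H9Hens.isSepClosed_of_ringEquiv eA
  have hb : Function.Bijective (algebraMap ((Spec (CommRingCat.of k)).presheaf.stalk y) R) :=
    H1DFun.bijective_algebraMap_strictHens_field
  refine ⟨hb, ?_⟩
  haveI : IsIso (CommRingCat.ofHom (algebraMap ((Spec (CommRingCat.of k)).presheaf.stalk y) R)) :=
    (ConcreteCategory.isIso_iff_bijective _).2 hb
  have h1 : Spec.map (CommRingCat.ofHom (algebraMap ((Spec (CommRingCat.of k)).presheaf.stalk y) R)) ≫
      (Spec (CommRingCat.of k)).fromSpecStalk y = Hens2.specOf (Spec (CommRingCat.of k)) y R := rfl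
  rw [← h1]
  haveI : IsIso ((Spec (CommRingCat.of k)).fromSpecStalk y) := by
    rw [Spec.fromSpecStalk_eq']
    haveI : IsIso (StructureSheaf.toStalk (CommRingCat.of k) y) := by
      rw [ConcreteCategory.isIso_iff_bijective]
      letI : Algebra k ((Spec (CommRingCat.of k)).presheaf.stalk y) := StructureSheaf.stalkAlgebra k y
      haveI : IsLocalization.AtPrime ((Spec (CommRingCat.of k)).presheaf.stalk y) y.asIdeal :=
        inferInstanceAs (IsLocalization.AtPrime ((Spec.structureSheaf k).presheaf.stalk y) y.asIdeal)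
      exact (IsLocalization.atUnits k y.asIdeal.primeCompl (S := (Spec (CommRingCat.of k)).presheaf.stalk y)
        fun x hx => isUnit_iff_ne_zero.2 fun h => hx (h ▸ Submodule.zero_mem _)).bijective
    infer_instance
  infer_instance

/-- **Invariance of cohomology under extensions of separably closed fields**, given proper base change. -/
theorem bijective_Hpull_sepClosedExt (hbc : StalkBC.{u}) {k K : Type u} [Field k] [IsSepClosed k] [Field K]
    [IsSepClosed K] {X X' : Scheme.{u}} (a : X ⟶ Spec (CommRingCat.of k)) [IsProper a]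
    (f : Spec (CommRingCat.of K) ⟶ Spec (CommRingCat.of k)) (e : X' ⟶ X) (h : X' ⟶ Spec (CommRingCat.of K))
    (sq : IsPullback e h a f) (F : EtCoh.Ab X) (hF : EtCoh.IsTorsion F) (q : ℕ) :
    Function.Bijective (EtCore.Hpull e F q) := by
  have H := (S6667.result f a h e sq F q).2 (isIso_bcQ hbc a f h e sq q F hF)
  let x : Spec (CommRingCat.of K) := default
  obtain ⟨RS, _, _, _, _, _, -⟩ :=
    H05EGA4.EtCl.exists_strictHens ((Spec (CommRingCat.of k)).presheaf.stalk (f.base x))
  obtain ⟨RX, _, _, _, _, _, -⟩ := H05EGA4.EtCl.exists_strictHens ((Spec (CommRingCat.of K)).presheaf.stalk x)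
  obtain ⟨hbS, hS⟩ := isIso_specOf_field k (f.base x) RS
  obtain ⟨hbX, hX⟩ := isIso_specOf_field K x RX
  let E := RingEquiv.ofBijective _ hbS
  let ψ : RS →+* RX := ((algebraMap ((Spec (CommRingCat.of K)).presheaf.stalk x) RX).comp
    (f.stalkMap x).hom).comp E.symm.toRingHom
  haveI : IsLocalHom E.symm.toRingHom := isLocalHom_toRingHom E.symm
  haveI : IsLocalHom ψ := RingHom.isLocalHom_comp _ _
  have hψ : ψ.comp (algebraMap ((Spec (CommRingCat.of k)).presheaf.stalk (f.base x)) RS) =
      (algebraMap ((Spec (CommRingCat.of K)).presheaf.stalk x) RX).comp (f.stalkMap x).hom :=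
    RingHom.ext fun r => congrArg _ (congrArg (f.stalkMap x).hom (E.symm_apply_apply r))
  let σ := Hens2.specOf (Spec (CommRingCat.of k)) (f.base x) RS
  let τ := Hens2.specOf (Spec (CommRingCat.of K)) x RX
  have hστ : Spec.map (CommRingCat.ofHom ψ) ≫ σ = τ ≫ f := by
    show Spec.map (CommRingCat.ofHom ψ) ≫ Spec.map (CommRingCat.ofHom (algebraMap
      ((Spec (CommRingCat.of k)).presheaf.stalk (f.base x)) RS)) ≫ _ =
      (Spec.map (CommRingCat.ofHom (algebraMap ((Spec (CommRingCat.of K)).presheaf.stalk x) RX)) ≫
        (Spec (CommRingCat.of K)).fromSpecStalk x) ≫ f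
    rw [← Category.assoc, ← Spec.map_comp, ← CommRingCat.ofHom_comp, hψ, CommRingCat.ofHom_comp,
      Spec.map_comp, Category.assoc, Category.assoc]
    exact congrArg (_ ≫ ·) (Scheme.SpecMap_stalkMap_fromSpecStalk f)
  have sqS : IsPullback (𝟙 X) (a ≫ inv σ) a σ :=
    IsPullback.of_horiz_isIso ⟨by rw [Category.id_comp, Category.assoc, IsIso.inv_hom_id, Category.comp_id]⟩
  have sqX : IsPullback e (h ≫ inv τ) a (τ ≫ f) :=
    sq.of_iso (Iso.refl _) (Iso.refl _) (asIso τ).symm (Iso.refl _) (by simp) (by simp) (by simp) (by simp)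
  have hV := H x RS RX ψ hψ X X' (𝟙 X) (a ≫ inv σ) sqS e (h ≫ inv τ) sqX e (Category.comp_id _) (by
    rw [← cancel_mono σ]
    simp only [Category.assoc, IsIso.inv_hom_id, Category.comp_id, hστ, IsIso.inv_hom_id_assoc]
    exact sq.w)
  let F' := (EtCoh.pull (𝟙 X)).obj F
  let i : F' ≅ F := (IntDesc.pullIdIso X).app F
  let v := (H1Lim.viaIso e (𝟙 X) e (Category.comp_id _)).app F
  have h1 : Function.Bijective (EtCore.Hpull e F' q) := by
    refine (Function.Bijective.of_comp_iff' (H1DFun.sheafH_map_bijective v q) _).1 ?_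
    exact hV
  have h2 : Function.Bijective (EtCore.Hpull e F q ∘ Sheaf.H.map i.hom q) := by
    rw [show EtCore.Hpull e F q ∘ Sheaf.H.map i.hom q =
      Sheaf.H.map ((EtCoh.pull e).map i.hom) q ∘ EtCore.Hpull e F' q from funext fun y => H1Lim.Hpull_map e i.hom q y]
    exact (H1DFun.sheafH_map_bijective ((EtCoh.pull e).mapIso i) q).comp h1
  exact (Function.Bijective.of_comp_iff _ (H1DFun.sheafH_map_bijective i q)).1 h2

end Groth.Agent.H15Site.Shriek
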