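import Groth.Agent.H15Site.Shriek.TensorStalk
import Groth.Agent.H15Site.Shriek.Stalk
import Groth.Agent.H15Site.Shriek.Exact
import Groth.Agent.H18Et.Germ

/-!
# The projection formula for direct images with proper support
-/

set_option autoImplicit false
set_option linter.style.haveILetI false
set_option linter.overlappingInstances false
set_option linter.unusedSectionVars false
set_option backward.isDefEq.respectTransparency false
set_option backward.isDefEq.respectTransparency.types false

universe u

open CategoryTheory CategoryTheory.Limits AlgebraicGeometry Opposite TensorProduct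

namespace Groth.Agent.H15Site.Shriek

open Groth.Agent.H18Et EtShriek TensorStalk

variable {X Y : Scheme.{u}} (f : X ⟶ Y) [LocallyOfFiniteType f] (F : EtCoh.Ab X) (G : EtCoh.Ab Y)

/-- The inverse image of a section. -/
noncomputable def pullSec {V : Y.Etale} (g : EtCoh.sect G V) :
    EtCoh.sect ((EtCoh.pull f).obj G) ((EtCoh.bc f).obj V) :=
  ((EtCoh.pullPushAdj f).unit.app G).hom.app (op V) g

theorem pullSec_map {V V' : Y.Etale} (φ : V' ⟶ V) (g : EtCoh.sect G V) :
    ((EtCoh.pull f).obj G).obj.map ((EtCoh.bc f).map φ).op (pullSec f G g) = pullSec f G (G.obj.map φ.op g) :=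
  (ConcreteCategory.congr_hom (((EtCoh.pullPushAdj f).unit.app G).hom.naturality φ.op) g).symm

theorem pullSec_add {V : Y.Etale} (g g' : EtCoh.sect G V) :
    pullSec f G (g + g') = pullSec f G g + pullSec f G g' :=
  map_add _ g g'

theorem tsec_zero_left {U : X.Etale} (H : EtCoh.Ab X) (b : EtCoh.sect H U) : tsec F H (0 : EtCoh.sect F U) b = 0 := by
  have h := tsec_add_left F H (0 : EtCoh.sect F U) 0 b
  rw [add_zero] at h
  exact left_eq_add.1 h

theorem sectSupp_tsec {U : X.Etale} (H : EtCoh.Ab X) (s : EtCoh.sect F U) (b : EtCoh.sect H U) :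
    sectSupp (tensor F H) U (tsec F H s b) ⊆ sectSupp F U s := fun x hx W g hg e =>
  hx W g hg (by rw [map_tsec, e, tsec_zero_left])

theorem projTo_mem {V : Y.Etale} (t : EtCoh.sect ((shriek f).obj F) V) (g : EtCoh.sect G V) :
    tsec F ((EtCoh.pull f).obj G) t.1 (pullSec f G g) ∈ shriekSubgroup f (tensor F ((EtCoh.pull f).obj G)) V :=
  (mem_iff f _ _).2 (Groth.Agent.LeadProper.isProperOver_mono ((mem_iff f F t.1).1 t.2)
    (isClosed_sectSupp _ _ _) (sectSupp_tsec F _ _ _))

/-- The product of a section with proper support and a section of the base. -/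
noncomputable def projTo {V : Y.Etale} (t : EtCoh.sect ((shriek f).obj F) V) (g : EtCoh.sect G V) :
    EtCoh.sect ((shriek f).obj (tensor F ((EtCoh.pull f).obj G))) V :=
  ⟨tsec F ((EtCoh.pull f).obj G) t.1 (pullSec f G g), projTo_mem f F G t g⟩

/-- The product as a bilinear map. -/
noncomputable def projBil (V : Y.Etale) : EtCoh.sect ((shriek f).obj F) V →+ EtCoh.sect G V →+
    EtCoh.sect ((shriek f).obj (tensor F ((EtCoh.pull f).obj G))) V :=
  AddMonoidHom.mk' (fun t => AddMonoidHom.mk' (projTo f F G t) fun g g' => Subtype.ext (by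
      show tsec F _ t.1 (pullSec f G (g + g')) = _
      rw [pullSec_add, tsec_add_right]
      rfl))
    fun t t' => AddMonoidHom.ext fun g => Subtype.ext (tsec_add_left F _ t.1 t'.1 _)

theorem projBil_balance (V : Y.Etale) (r : ℤ) (t : EtCoh.sect ((shriek f).obj F) V) (g : EtCoh.sect G V) :
    projBil f F G V (r • t) g = projBil f F G V t (r • g) :=
  (congrArg (fun φ : EtCoh.sect G V →+ _ => φ g) (map_zsmul _ r t)).trans
    (map_zsmul (projBil f F G V t) r g).symm

/-- The map of presheaves. -/
noncomputable def projPre :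
    EtTens.tensorObj ((shriek f).obj F).obj G.obj ⟶ ((shriek f).obj (tensor F ((EtCoh.pull f).obj G))).obj where
  app V := AddCommGrpCat.ofHom (TensorProduct.liftAddHom (projBil f F G V.unop) (projBil_balance f F G V.unop))
  naturality V V' φ := EtTens.hom_ext_tmul fun t g => Subtype.ext (by
    show tsec F _ (F.obj.map ((EtCoh.bc f).map φ.unop).op t.1) (pullSec f G (G.obj.map φ g)) =
      (tensor F ((EtCoh.pull f).obj G)).obj.map ((EtCoh.bc f).map φ.unop).op (tsec F _ t.1 (pullSec f G g))
    rw [map_tsec, pullSec_map]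
    rfl)

/-- The projection map. -/
noncomputable def projMap :
    tensor ((shriek f).obj F) G ⟶ (shriek f).obj (tensor F ((EtCoh.pull f).obj G)) :=
  ⟨sheafifyLift Y.smallEtaleTopology (projPre f F G) ((shriek f).obj _).property⟩

theorem projMap_tsec {V : Y.Etale} (t : EtCoh.sect ((shriek f).obj F) V) (g : EtCoh.sect G V) :
    (projMap f F G).hom.app (op V) (tsec ((shriek f).obj F) G t g) = projTo f F G t g := by
  have h := ConcreteCategory.congr_hom (congr_app (toSheafify_sheafifyLift Y.smallEtaleTopology (projPre f F G)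
    ((shriek f).obj (tensor F ((EtCoh.pull f).obj G))).property) (op V)) (t ⊗ₜ[ℤ] g)
  exact h.trans rfl

variable {Ω : Type u} [Field Ω] [IsAlgClosed Ω] {η : Spec (CommRingCat.of Ω) ⟶ Y}

variable {f} in
/-- The stalk of the inverse image at a lift. -/
noncomputable def pullAt (w : H7Weight.Pts f η) :
    (EtCoh.stalk η).obj G ≅ (EtCoh.stalk w.1).obj ((EtCoh.pull f).obj G) :=
  eqToIso (congrArg (fun p => (EtCoh.stalk p).obj G) w.2.symm) ≪≫ ((stalkPullIso f w.1).app G).symm

variable {f} in
theorem pullAt_germ (w : H7Weight.Pts f η) {V : Y.Etale} (z : (Scheme.pointSmallEtale η).fiber.obj V)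
    (g : EtCoh.sect G V) :
    (pullAt G w).hom (germ η G V z g) =
      germ w.1 ((EtCoh.pull f).obj G) ((EtCoh.bc f).obj V) (bcFib w z) (pullSec f G g) := by
  obtain ⟨w, rfl⟩ := w
  refine (stalkPullIso_inv_germ f w G V z g).trans ?_
  refine congrArg (fun y => germ w ((EtCoh.pull f).obj G) ((EtCoh.bc f).obj V) y (pullSec f G g))
    (Over.OverMorphism.ext (pullback.hom_ext ?_ ?_))
  · refine Eq.trans ?_ (bcFib_fst (f := f) ⟨w, rfl⟩ z).symm
    simp [fiberCompIso, MorphismProperty.Over.pullbackCompForgetIso, EtCoh.bc, Over.mapPullbackAdj]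
    exact (congrArg (pullback.lift z.left w _ ≫ ·) (Category.id_comp _)).trans (pullback.lift_fst _ _ _)
  · exact (Over.w ((fiberCompIso f w).inv.app V z)).trans (Over.w (bcFib (f := f) ⟨w, rfl⟩ z)).symm

variable (η)

/-- The composite on stalks. -/
noncomputable def projStalk : (EtCoh.stalk η).obj ((shriek f).obj F) ⊗[ℤ] (EtCoh.stalk η).obj G →+
    (EtCoh.stalk η).obj ((shriek f).obj (tensor F ((EtCoh.pull f).obj G))) :=
  ((EtCoh.stalk η).map (projMap f F G)).hom.comp (psi η ((shriek f).obj F) G)

theorem evalW_projStalk (w : H7Weight.Pts f η) (z : (EtCoh.stalk η).obj ((shriek f).obj F) ⊗[ℤ] (EtCoh.stalk η).obj G) :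
    evalW f η _ w (projStalk f F G η z) =
      psi w.1 F ((EtCoh.pull f).obj G) (TensorProduct.map (evalW f η F w).hom.toIntLinearMap
        (pullAt G w).hom.hom.toIntLinearMap z) := by
  induction z using TensorProduct.induction_on with
  | zero => simp
  | add a b ha hb => simp only [map_add, ha, hb]
  | tmul p q =>
    obtain ⟨V, z, t, g, rfl, rfl⟩ := exists_common_rep η p q
    show evalW f η _ w ((EtCoh.stalk η).map (projMap f F G) (psi η _ G (germ η ((shriek f).obj F) V z t ⊗ₜ[ℤ] germ η G V z g))) =
      psi w.1 F _ (evalW f η F w (germ η ((shriek f).obj F) V z t) ⊗ₜ[ℤ] (pullAt G w).hom (germ η G V z g))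
    rw [psi_tmul, pullAt_germ, evalW_germ, psi_tmul]
    refine (congrArg (evalW f η _ w) (germ_naturality η (projMap f F G) V z _)).trans ?_
    rw [projMap_tsec, evalW_germ]
    rfl

variable [IsSeparated f] [LocallyQuasiFinite f]

theorem bijective_projStalk : Function.Bijective (projStalk f F G η) := by
  classical
  let A := (EtCoh.stalk η).obj G
  let M : (w : H7Weight.Pts f η) → (EtCoh.stalk η).obj ((shriek f).obj F) ⊗[ℤ] A →ₗ[ℤ] (EtCoh.stalk w.1).obj F ⊗[ℤ] A :=
    fun w => TensorProduct.map (evalW f η F w).hom.toIntLinearMap LinearMap.id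
  let I : (w : H7Weight.Pts f η) → (EtCoh.stalk w.1).obj F ⊗[ℤ] A →ₗ[ℤ] (EtCoh.stalk η).obj ((shriek f).obj F) ⊗[ℤ] A :=
    fun w => TensorProduct.map (insW f η F w).hom.toIntLinearMap LinearMap.id
  have hMI : ∀ w x, M w (I w x) = x := fun w x => by
    induction x using TensorProduct.induction_on with
    | zero => simp
    | add a b ha hb => simp only [map_add, ha, hb]
    | tmul p q => exact congrArg (· ⊗ₜ[ℤ] q) (evalW_insW_same f η F w p)
  have hMI' : ∀ w v x, v ≠ w → M v (I w x) = 0 := fun w v x h => by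
    induction x using TensorProduct.induction_on with
    | zero => simp
    | add a b ha hb => simp only [map_add, ha, hb, add_zero]
    | tmul p q => exact (congrArg (· ⊗ₜ[ℤ] q) (evalW_insW_ne f η F h p)).trans (TensorProduct.zero_tmul _ _)
  have hdec : ∀ z, ∃ S : Finset (H7Weight.Pts f η), z = ∑ w ∈ S, I w (M w z) := fun z => by
    suffices ∃ (S : Finset (H7Weight.Pts f η)), ∀ S', S ⊆ S' → z = ∑ w ∈ S', I w (M w z) by
      obtain ⟨S, hS⟩ := this
      exact ⟨S, hS S subset_rfl⟩
    induction z using TensorProduct.induction_on with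
    | zero => exact ⟨∅, fun S' _ => by simp⟩
    | add a b ha hb =>
      obtain ⟨S, hS⟩ := ha
      obtain ⟨T, hT⟩ := hb
      refine ⟨S ∪ T, fun S' h => ?_⟩
      simp only [map_add, Finset.sum_add_distrib]
      rw [← hS S' (Finset.union_subset_left h), ← hT S' (Finset.union_subset_right h)]
    | tmul p q =>
      refine ⟨(finite_evalW_ne_zero f η F p).toFinset, fun S' h => ?_⟩
      rw [← Finset.sum_subset h fun w _ hw => ?_]
      · conv_lhs => rw [sum_insW f η F p, TensorProduct.sum_tmul]
        rfl
      · have : evalW f η F w p = 0 := by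
          by_contra hne; exact hw ((Set.Finite.mem_toFinset _).2 hne)
        show insW f η F w (evalW f η F w p) ⊗ₜ[ℤ] q = 0
        rw [this, map_zero, TensorProduct.zero_tmul]
  let P : (w : H7Weight.Pts f η) → (EtCoh.stalk w.1).obj F ⊗[ℤ] A →+
      (EtCoh.stalk w.1).obj (tensor F ((EtCoh.pull f).obj G)) := fun w =>
    (psi w.1 F ((EtCoh.pull f).obj G)).comp
      (TensorProduct.congr (LinearEquiv.refl ℤ _)
        (pullAt G w).addCommGroupIsoToAddEquiv.toIntLinearEquiv).toAddEquiv.toAddMonoidHom
  have hP : ∀ w, Function.Bijective (P w) := fun w =>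
    (bijective_psi w.1 F ((EtCoh.pull f).obj G)).comp (LinearEquiv.bijective _)
  have he : ∀ w z, evalW f η _ w (projStalk f F G η z) = P w (M w z) := fun w z => by
    rw [evalW_projStalk]
    induction z using TensorProduct.induction_on with
    | zero => simp
    | add a b ha hb => simp only [map_add, ha, hb]
    | tmul p q => rfl
  refine ⟨(injective_iff_map_eq_zero _).2 fun z hz => ?_, fun y => ?_⟩
  · obtain ⟨S, hS⟩ := hdec z
    rw [hS]
    refine Finset.sum_eq_zero fun w _ => ?_
    have : M w z = 0 := (hP w).1 (by rw [← he, hz, map_zero, map_zero])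
    rw [this, map_zero]
  · choose x hx using fun w => (hP w).2 (evalW f η _ w y)
    refine ⟨∑ w ∈ (finite_evalW_ne_zero f η _ y).toFinset, I w (x w), eq_of_evalW f η _ fun v => ?_⟩
    rw [he, map_sum]
    by_cases hv : v ∈ (finite_evalW_ne_zero f η _ y).toFinset
    · rw [Finset.sum_eq_single v (fun w _ hwv => hMI' w v _ (Ne.symm hwv)) (fun h => absurd hv h), hMI]
      exact hx v
    · have h0 : evalW f η _ v y = 0 := by
        by_contra h
        exact hv ((Set.Finite.mem_toFinset _).2 h)
      rw [h0, Finset.sum_eq_zero fun w hw => hMI' w v _ (by rintro rfl; exact hv hw), map_zero]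

instance : IsIso (projMap f F G) := by
  refine isIso_of_stalk _ fun x => ⟨_, _, inferInstance, algPt x, algPt_base x, ?_⟩
  refine (Function.Bijective.of_comp_iff _ (bijective_psi (algPt x) ((shriek f).obj F) G)).1 ?_
  exact bijective_projStalk f F G (algPt x)

/-- The projection formula. -/
noncomputable def projFormula :
    (EtTens.tensorBi.obj ((lowerShriek f).obj F)).obj G ≅
      (lowerShriek f).obj ((EtTens.tensorBi.obj F).obj ((EtCoh.pull f).obj G)) :=
  (EtTens.tensorBi.mapIso ((shriekIso f).app F)).app G ≪≫ asIso (projMap f F G) ≪≫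
    ((shriekIso f).app (tensor F ((EtCoh.pull f).obj G))).symm

end Groth.Agent.H15Site.Shriek
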