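import Groth.Agent.H1DFun.BCDelta
import Groth.Agent.H1DFun.BCNat

/-!
# Surjectivity of higher direct images of epimorphisms

If `R^(q+1) g_*` kills the kernel of an epimorphism, then `R^q g_*` of it is an epimorphism.
-/

set_option autoImplicit false
set_option linter.style.haveILetI false
set_option linter.unusedSectionVars false
set_option backward.isDefEq.respectTransparency false
set_option backward.isDefEq.respectTransparency.types false

universe u

open CategoryTheory CategoryTheory.Limits AlgebraicGeometry Opposite Abelian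
open Groth.Agent.H18Et Groth.Agent.H1Lim Groth.Agent.H1DFun
open scoped Groth.Agent.H18Et

namespace Groth.Agent.H15Site.Shriek

attribute [local instance] Groth.Agent.H18Et.pull_preservesFiniteLimits

/-- If `R^(q+1) g_* X₁ = 0` then `R^q g_* X₂ ⟶ R^q g_* X₃` is an epimorphism. -/
theorem epi_Rpush_map {T S : Scheme.{u}} (g : T ⟶ S) {Sh : ShortComplex (EtCoh.Ab T)} (hSh : Sh.ShortExact)
    (q : ℕ) (h₁ : IsZero ((EtCoh.Rpush g (q + 1)).obj Sh.X₁)) : Epi ((EtCoh.Rpush g q).map Sh.g) := by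
  rw [H18Et.epi_iff_stalk]
  intro Ω _ _ ξ
  rw [AddCommGrpCat.epi_iff_surjective]
  intro y
  obtain ⟨U, z, x, rfl⟩ := exists_toSect_germ g Sh.X₃ q ξ y
  let d : C0 g Sh.X₁ (q + 1) U := cD hSh ((EtCoh.bc g).obj U).hom x
  have hs : IsZero ((EtCoh.stalk ξ).obj ((EtCoh.Rpush g (q + 1)).obj Sh.X₁)) := (EtCoh.stalk ξ).map_isZero h₁
  obtain ⟨V, m, z', hm, h0⟩ := exists_r0_eq_zero g Sh.X₁ (q + 1) ξ U z d
    (@Subsingleton.elim _ (AddCommGrpCat.subsingleton_of_isZero hs) _ _)
  have hV : cD hSh ((EtCoh.bc g).obj V).hom (c0 g Sh.X₃ q m x) = 0 :=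
    (cR_cD hSh _ ((EtCoh.bc g).map m).left (MorphismProperty.Over.w ((EtCoh.bc g).map m)) x).symm.trans h0
  obtain ⟨t, ht⟩ := exists_of_cD_eq_zero hSh _ _ hV
  refine ⟨H18Et.germ ξ ((EtCoh.Rpush g q).obj Sh.X₂) V z' (toSect g Sh.X₂ q V t), ?_⟩
  refine (H18Et.germ_naturality ξ ((EtCoh.Rpush g q).map Sh.g) V z' _).trans ?_
  refine ((congrArg _ ((toSect_natural g Sh.g q V t).trans (congrArg (toSect g Sh.X₃ q V) ht))).trans ?_)
  refine (congrArg _ (toSect_map g Sh.X₃ q m x).symm).trans ?_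
  rw [← hm]
  exact (Scheme.pointSmallEtale ξ).toPresheafFiber_w_apply m z' ((EtCoh.Rpush g q).obj Sh.X₃).obj _

end Groth.Agent.H15Site.Shriek
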