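import Groth.Agent.H15Site.Shriek.Eval
import Groth.Agent.H7Weight.Chart
import Groth.Agent.H18Et.FibreSections

/-!
# Sections with a single non zero germ on the geometric fibre
-/

set_option autoImplicit false
set_option linter.style.haveILetI false
set_option linter.overlappingInstances false
set_option linter.unusedSectionVars false
set_option backward.isDefEq.respectTransparency false
set_option backward.isDefEq.respectTransparency.types false

universe u

open CategoryTheory CategoryTheory.Limits AlgebraicGeometry Opposite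

namespace Groth.Agent.H15Site.Shriek

open Groth.Agent.H18Et EtShriek

variable {X Y : Scheme.{u}} (f : X ⟶ Y) [IsSeparated f] [LocallyOfFiniteType f] [LocallyQuasiFinite f]
  {Ω : Type u} [Field Ω] [IsAlgClosed Ω] {η : Spec (CommRingCat.of Ω) ⟶ Y}

/-- Over a suitable etale neighbourhood, a given germ extends to a finite piece with a single geometric point. -/
theorem exists_piece (F : EtCoh.Ab X) (s : H7Weight.Pts f η) (a : (EtCoh.stalk s.1).obj F) :
    ∃ (V : Y.Etale) (z : (Scheme.pointSmallEtale η).fiber.obj V) (W : X.Etale)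
      (ι : W ⟶ (EtCoh.bc f).obj V) (sW : EtCoh.sect F W) (q : (Scheme.pointSmallEtale s.1).fiber.obj W),
      IsClosedImmersion ι.left ∧ IsProper (ι.left ≫ prV f V) ∧
        (Scheme.pointSmallEtale s.1).fiber.map ι q = bcFib s z ∧ germ s.1 F W q sW = a ∧
        ∀ w : H7Weight.Pts f η, ptOf (bcFib w z) ∈ Set.range ι.left → w = s := by
  obtain ⟨T, zT, sT, rfl⟩ := germ_surjective s.1 F a
  obtain ⟨V₀, g₀, hg₀, η₀, hη₀, ⟨D⟩⟩ := H7Weight.exists_single f η s
  haveI := hg₀
  haveI : Etale D.C.a := inferInstance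
  let zC : (Scheme.pointSmallEtale D.p.1).fiber.obj ((EtCoh.bc D.C.a).obj T) :=
    bcFib (f := D.C.a) (η := s.1) ⟨D.p.1, D.p_a⟩ zT
  let ξ₀ : H18Et.Pts D.C.π η₀ := ⟨D.p.1, D.p.2⟩
  obtain ⟨V₁, v₁, O, k, hO, hk⟩ := exists_bc_lift ξ₀ ((EtCoh.bc D.C.a).obj T) zC
  have hall : ∀ q, (ιFib V₁ v₁).base q ∈ O := fun q => by
    obtain ⟨ξ', rfl⟩ := surjective_qOf q
    have : ξ' = ξ₀ := Subtype.ext (congrArg Subtype.val (D.unique ⟨ξ'.1, ξ'.2⟩))
    rw [this, ← ptOf_bcPt]
    exact hO
  obtain ⟨V₂, g, v₂, hv₂, hwhole⟩ := exists_nbhd_whole V₁ v₁ O hall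
  let A := (EtCoh.bc D.C.π).obj V₂
  let l : A.left ⟶ O.toScheme := IsOpenImmersion.lift O.ι ((EtCoh.bc D.C.π).map g).left (by
    rw [Scheme.Opens.range_ι]
    rintro _ ⟨p, rfl⟩
    exact hwhole p)
  have hl : l ≫ O.ι = ((EtCoh.bc D.C.π).map g).left := IsOpenImmersion.lift_fac _ _ _
  let lh : A ⟶ openObj ((EtCoh.bc D.C.π).obj V₁) O := MorphismProperty.Over.homMk l
    ((Category.assoc _ _ _).symm.trans ((congrArg (fun m => m ≫ ((EtCoh.bc D.C.π).obj V₁).hom) hl).trans
      (MorphismProperty.Over.w ((EtCoh.bc D.C.π).map g)))) trivial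
  let m : A ⟶ (EtCoh.bc D.C.a).obj T := lh ≫ k
  have hm : (Scheme.pointSmallEtale D.p.1).fiber.map m (bcPt ξ₀ V₂ v₂) = zC := by
    rw [← hk ((Scheme.pointSmallEtale D.p.1).fiber.map lh (bcPt ξ₀ V₂ v₂)) ?_]
    · exact (fiber_map_map _ lh k _).symm
    · refine (fiber_map_map _ lh _ _).trans ?_
      rw [show lh ≫ openHom ((EtCoh.bc D.C.π).obj V₁) O = (EtCoh.bc D.C.π).map g from
        MorphismProperty.Over.Hom.ext hl]
      exact bcPt_map ξ₀ g hv₂
  haveI : Etale V₂.hom := V₂.prop
  let V : Y.Etale := MorphismProperty.Over.mk ⊤ (V₂.hom ≫ g₀) (inferInstanceAs (Etale (V₂.hom ≫ g₀)))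
  let z : (Scheme.pointSmallEtale η).fiber.obj V := Over.homMk v₂.left
    ((Category.assoc _ _ _).symm.trans ((congrArg (· ≫ g₀) (fiber_w v₂)).trans hη₀))
  haveI : Etale (pullback.snd V₂.hom D.C.π) := A.prop
  let W : X.Etale := MorphismProperty.Over.mk ⊤ (pullback.snd V₂.hom D.C.π ≫ D.C.a)
    (inferInstanceAs (Etale (pullback.snd V₂.hom D.C.π ≫ D.C.a)))
  let ι : W ⟶ (EtCoh.bc f).obj V := MorphismProperty.Over.homMk
    (pullback.lift (pullback.fst V₂.hom D.C.π) (pullback.snd V₂.hom D.C.π ≫ D.C.a) (by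
      rw [Category.assoc, D.C.w, ← pullback.condition_assoc]
      rfl)) (pullback.lift_snd _ _ _) trivial
  have hιfst : ι.left ≫ prV f V = pullback.fst V₂.hom D.C.π := pullback.lift_fst _ _ _
  have hιsnd : ι.left ≫ pullback.snd V.hom f = pullback.snd V₂.hom D.C.π ≫ D.C.a := pullback.lift_snd _ _ _
  haveI : Mono ι.left := ⟨fun p q h => by
    have h1 : p ≫ pullback.fst V₂.hom D.C.π = q ≫ pullback.fst V₂.hom D.C.π := by
      rw [← hιfst, ← Category.assoc, h, Category.assoc]
    refine pullback.hom_ext h1 (D.C.mono _ _ ?_ ?_)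
    · rw [Category.assoc, ← hιsnd, ← Category.assoc, h, Category.assoc, hιsnd, Category.assoc]
    · rw [Category.assoc, ← pullback.condition, ← Category.assoc, h1, Category.assoc, pullback.condition,
        ← Category.assoc]⟩
  haveI hprop : IsProper (ι.left ≫ prV f V) := by rw [hιfst]; infer_instance
  haveI : IsSeparated (prV f V) := inferInstanceAs (IsSeparated (pullback.fst V.hom f))
  haveI : IsProper ι.left := IsProper.of_comp ι.left (prV f V)
  have hcl : IsClosedImmersion ι.left := (IsClosedImmersion.iff_isProper_and_mono ι.left).2 ⟨inferInstance, inferInstance⟩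
  let ν : W ⟶ T := MorphismProperty.Over.homMk (m.left ≫ pullback.fst T.hom D.C.a) (by
    refine (Category.assoc _ _ _).trans ?_
    rw [pullback.condition, ← Category.assoc]
    exact congrArg (· ≫ D.C.a) (MorphismProperty.Over.w m)) trivial
  let q : (Scheme.pointSmallEtale s.1).fiber.obj W := Over.homMk (bcPt ξ₀ V₂ v₂).left
    ((Category.assoc _ _ _).symm.trans ((congrArg (· ≫ D.C.a) (Over.w (bcPt ξ₀ V₂ v₂))).trans D.p_a))
  refine ⟨V, z, W, ι, F.obj.map ν.op sT, q, hcl, hprop, ?_, ?_, fun w hw => ?_⟩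
  · refine Over.OverMorphism.ext (pullback.hom_ext ?_ ?_)
    · show ((bcPt ξ₀ V₂ v₂).left ≫ ι.left) ≫ prV f V = (bcFib s z).left ≫ prV f V
      rw [Category.assoc, hιfst, bcFib_fst]
      refine (Category.assoc _ _ _).trans ((congrArg (secPt ξ₀ ≫ ·) (ιFib_fst V₂ v₂)).trans ?_)
      exact (Category.assoc _ _ _).symm.trans ((congrArg (· ≫ _) (pullback.lift_snd _ _ _)).trans
        (Category.id_comp _))
    · exact (Over.w ((Scheme.pointSmallEtale s.1).fiber.map ι q)).trans (Over.w (bcFib s z)).symm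
  · refine ((Scheme.pointSmallEtale s.1).toPresheafFiber_w_apply ν q F.obj sT).trans ?_
    refine congrArg (fun y => germ s.1 F T y sT) (Over.OverMorphism.ext ?_)
    show (bcPt ξ₀ V₂ v₂).left ≫ m.left ≫ pullback.fst T.hom D.C.a = zT.left
    rw [← Category.assoc]
    exact (congrArg (fun k => k.left ≫ pullback.fst T.hom D.C.a) hm).trans
      (bcFib_fst (f := D.C.a) (η := s.1) ⟨D.p.1, D.p_a⟩ zT)
  · haveI : IsOpenImmersion ι.left := by
      haveI : Etale ι.left := etale_left ι
      exact IsOpenImmersion.of_flat_of_mono _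
    obtain ⟨e, he⟩ : ∃ e, e ≫ ι.left = (bcFib w z).left :=
      ⟨_, IsOpenImmersion.lift_fac ι.left (bcFib w z).left (by
        rintro _ ⟨p, rfl⟩
        exact Set.mem_of_eq_of_mem ((apply_eq_pt (bcFib w z).left p).trans
          (apply_eq_pt (bcFib w z).left default).symm) hw)⟩
    have h1 : e ≫ pullback.fst V₂.hom D.C.π = v₂.left := by
      rw [← hιfst, ← Category.assoc, he]
      exact bcFib_fst w z
    have h2 : (e ≫ pullback.snd V₂.hom D.C.π) ≫ D.C.π = η₀ := by
      rw [Category.assoc, ← pullback.condition, ← Category.assoc, h1]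
      exact fiber_w v₂
    refine Subtype.ext ?_
    have h3 : (bcFib w z).left ≫ pullback.snd V.hom f = w.1 := pullback.lift_snd _ _ _
    rw [← he, Category.assoc, hιsnd, ← Category.assoc] at h3
    rw [← h3, show e ≫ pullback.snd V₂.hom D.C.π = D.p.1 from congrArg Subtype.val (D.unique ⟨_, h2⟩)]
    exact D.p_a

/-- An element of the stalk with a single non zero evaluation. -/
theorem exists_single_germ (F : EtCoh.Ab X) (s : H7Weight.Pts f η) (a : (EtCoh.stalk s.1).obj F) :
    ∃ y, evalW f η F s y = a ∧ ∀ w, w ≠ s → evalW f η F w y = 0 := by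
  obtain ⟨V, z, W, ι, sW, q, hcl, hprop, hq, hsW, huniq⟩ := exists_piece f F s a
  haveI := hcl
  haveI := hprop
  haveI : Etale ι.left := etale_left ι
  haveI : IsOpenImmersion ι.left := IsOpenImmersion.of_flat_of_mono _
  have hpre : ι.left ⁻¹' Set.range ι.left = Set.univ := Set.preimage_range _
  have h := S0728.result F ι (Set.range ι.left) ι.left.isClosedEmbedding.isClosed_range
    (by rw [hpre]; exact ⟨fun a _ => ⟨a, rfl⟩, ι.left.isClosedEmbedding.injective.injOn,
      fun x ⟨a, ha⟩ => ⟨a, trivial, ha⟩⟩)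
    (fun x _ => ConcreteCategory.bijective_of_isIso (ι.left.residueFieldMap x))
  obtain ⟨t, ht, hts⟩ := h.surjOn (show sW ∈ {s' | sectSupp F W s' ⊆ ι.left ⁻¹' Set.range ι.left} from
    fun x _ => ⟨x, rfl⟩)
  have htm : t ∈ shriekSubgroup f F V := (mem_iff f F t).2 (Groth.Agent.LeadProper.isProperOver_mono
    ((Groth.Agent.LeadProper.isProperOver_iff (prV f V) ι.left rfl).2 hprop) (isClosed_sectSupp F _ _) ht)
  refine ⟨germ η ((shriek f).obj F) V z ⟨t, htm⟩, ?_, fun w hw => ?_⟩
  · rw [evalW_germ, ← hq, ← hsW, ← hts]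
    exact ((Scheme.pointSmallEtale s.1).toPresheafFiber_w_apply ι q F.obj t).symm
  · rw [evalW_germ]
    exact (germ_eq_zero_iff F _ _).2 fun hm => hw (huniq w (ht hm))

end Groth.Agent.H15Site.Shriek
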