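import Groth.Agent.H15Site.Shriek.Comp

/-!
# Compatibility with the inclusions in the direct images
-/

set_option autoImplicit false
set_option linter.style.haveILetI false
set_option linter.unusedSectionVars false
set_option linter.overlappingInstances false
set_option backward.isDefEq.respectTransparency false
set_option backward.isDefEq.respectTransparency.types false

universe u

open CategoryTheory CategoryTheory.Limits AlgebraicGeometry Opposite

namespace Groth.Agent.H15Site.Shriek

open Groth.Agent.H18Et EtShriek

variable {X Y : Scheme.{u}} (f : X ⟶ Y) [LocallyOfFiniteType f]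

theorem lowerShriekToPush_eq (F : EtCoh.Ab X) :
    lowerShriekToPush f F = (shriekIso f).hom.app F ≫ (incl f).app F := by
  have h : lowerShriekToPush f F = (presheafToSheaf _ _).map ((sheafToPresheaf _ _).map ((incl f).app F)) ≫
      (sheafificationAdjunction Y.smallEtaleTopology AddCommGrpCat.{u + 1}).counit.app ((EtCoh.push f).obj F) := by
    show ((sheafificationAdjunction _ _).homEquiv _ _).symm _ = _
    rw [Adjunction.homEquiv_counit]
    rfl
  rw [h]
  refine ((sheafificationAdjunction Y.smallEtaleTopology AddCommGrpCat.{u + 1}).counit.naturality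
    ((incl f).app F)).trans ?_
  refine congrArg (· ≫ (incl f).app F) ?_
  exact (Category.comp_id _).symm

variable {Z : Scheme.{u}} (g : Y ⟶ Z) [LocallyOfFiniteType g]

theorem compHom_incl (F : EtCoh.Ab X) :
    (compHom f g).app F ≫ (incl (f ≫ g)).app F =
      (shriek g).map ((incl f).app F) ≫ (incl g).app ((EtCoh.push f).obj F) ≫
        (EtCoh.pushComp g f).hom.app F := by
  ext W t
  rfl

theorem mono_map_incl (F : EtCoh.Ab X) : Mono ((shriek g).map ((incl f).app F)) := by
  refine Sheaf.mono_of_injective _ fun W a b h => ?_
  induction W using Opposite.rec with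
  | op V =>
    have h2 := congrArg Subtype.val h
    exact Subtype.ext (shriek_ext f h2)

theorem compIso_compat [IsSeparated g] (F : EtCoh.Ab X) :
    (lowerShriekCompIso f g).inv.app F ≫ (lowerShriek g).map (lowerShriekToPush f F) ≫
        lowerShriekToPush g ((EtCoh.push f).obj F) =
      lowerShriekToPush (f ≫ g) F ≫ (EtCoh.pushComp g f).inv.app F := by
  rw [Iso.app_inv ((lowerShriekCompIso f g)) F |>.symm, Iso.inv_comp_eq, lowerShriekToPush_eq,
    lowerShriekToPush_eq, lowerShriekToPush_eq]
  have h1 : ((lowerShriekCompIso f g).app F).hom = (lowerShriek g).map ((shriekIso f).hom.app F) ≫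
      (shriekIso g).hom.app ((shriek f).obj F) ≫ (compHom f g).app F ≫ (shriekIso (f ≫ g)).inv.app F := rfl
  rw [h1, Functor.map_comp]
  simp only [Category.assoc, Iso.inv_hom_id_app_assoc]
  refine congrArg (_ ≫ ·) ?_
  rw [← Category.assoc ((compHom f g).app F), compHom_incl]
  simp only [Category.assoc]
  erw [(shriekIso g).hom.naturality_assoc]
  refine congrArg (_ ≫ ·) (congrArg (_ ≫ ·) ?_)
  erw [Iso.hom_inv_id_app, Category.comp_id]

theorem mono_compat [IsSeparated g] (F : EtCoh.Ab X) :
    Mono ((lowerShriek g).map (lowerShriekToPush f F) ≫ lowerShriekToPush g ((EtCoh.push f).obj F)) := by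
  haveI := mono_map_incl f g F
  rw [lowerShriekToPush_eq, lowerShriekToPush_eq, Functor.map_comp, Category.assoc]
  erw [(shriekIso g).hom.naturality_assoc]
  infer_instance

end Groth.Agent.H15Site.Shriek
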