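import Groth.Agent.H15Site.Shriek.BaseChange
import Groth.Agent.H15Site.Shriek.ToPushComp

/-!
# Compatibility with the inclusions in the direct images
-/

set_option autoImplicit false
set_option linter.style.haveILetI false
set_option linter.unusedSectionVars false
set_option linter.overlappingInstances false
set_option backward.isDefEq.respectTransparency false
set_option backward.isDefEq.respectTransparency.types false

universe u

open CategoryTheory CategoryTheory.Limits AlgebraicGeometry Opposite

namespace Groth.Agent.H15Site.Shriek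

open Groth.Agent.H18Et EtShriek

variable {X Y : Scheme.{u}} (f : X ⟶ Y) [LocallyOfFiniteType f]

theorem bcHom_incl' {X' Y' : Scheme.{u}} {g : Y' ⟶ Y} {f' : X' ⟶ Y'} {g' : X' ⟶ X} [LocallyOfFiniteType f']
    (h : IsPullback g' f' f g) (F : EtCoh.Ab X) :
    (bcHom h).app F ≫ (incl f').app ((EtCoh.pull g').obj F) =
      (EtCoh.pull g).map ((incl f).app F) ≫ EtCoh.baseChange0 f g f' g' h.w F := by
  apply ((EtCoh.pullPushAdj g).homEquiv _ _).injective
  refine ((EtCoh.pullPushAdj g).homEquiv_naturality_right _ _).trans ?_
  refine Eq.trans ?_ ((EtCoh.pullPushAdj g).homEquiv_naturality_left _ _).symm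
  refine (congrArg (· ≫ _) (Equiv.apply_symm_apply _ _)).trans ?_
  refine Eq.trans ?_ (congrArg (_ ≫ ·) (Equiv.apply_symm_apply _ _)).symm
  ext V s
  rfl

end Groth.Agent.H15Site.Shriek
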